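import Cfsg.Agent.Lib.FFModules.MinimalParabolic.FourSwap

/-!
Root groups of order at least three: the `SL₂` through a root group of `T` is unique, and the
group is a product of commuting `SL₂`s times `T`.
-/

set_option autoImplicit false
set_option linter.style.haveILetI false
set_option linter.unusedSectionVars false

namespace CfsgLib.FFModules.MinimalParabolic

open SL2Pair Matrix
open scoped Pointwise MatrixGroups

variable {H W : Type*} [Group H] [AddCommGroup W] [DistribMulAction H W]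

/-- `SL₂` acting on `W` modulo its fixed points as on the natural module. -/
def IsSL2Comp (p : ℕ) (E : Subgroup H) (W : Type*) [AddCommGroup W] [DistribMulAction H W] :
    Prop :=
  ∃ (F : Type) (_ : Field F) (_ : Fintype F) (n : ℕ) (ρ : E ≃* SL(2, F)) (ψ : W →+ (Fin 2 → F)),
    1 ≤ n ∧ Fintype.card F = p ^ n ∧ Function.Surjective ψ ∧ (∀ v, ψ v = 0 ↔ v ∈ fixedSub E) ∧
      ∀ (g : E) (v : W), ψ ((g : H) • v) =
        ((ρ g : SL(2, F)) : Matrix (Fin 2) (Fin 2) F).mulVec (ψ v)

/-- A symmetric group of degree `2 ^ n + 1` acting on `W` modulo its fixed points as on the even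
permutation module. -/
def IsSymComp (E : Subgroup H) (W : Type*) [AddCommGroup W] [DistribMulAction H W] : Prop :=
  ∃ (n : ℕ) (ρ : E ≃* Equiv.Perm (Fin (2 ^ n + 1))) (ψ : W →+ (Fin (2 ^ n + 1) → ZMod 2)),
    1 ≤ n ∧ (∀ v, ∑ i, ψ v i = 0) ∧ (∀ u : Fin (2 ^ n + 1) → ZMod 2, ∑ i, u i = 0 → ∃ v, ψ v = u) ∧
      (∀ v, ψ v = 0 ↔ v ∈ fixedSub E) ∧
        ∀ (g : E) (v : W) (i : Fin (2 ^ n + 1)), ψ ((g : H) • v) i = ψ v ((ρ g)⁻¹ i)

/-- The structure of the group, with components inside the normal closure of `B`. -/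
def HasStructure (p : ℕ) (T B : Subgroup H) (W : Type*) [AddCommGroup W] [DistribMulAction H W] :
    Prop :=
  ∃ (r : ℕ) (E : Fin r → Subgroup H), 1 ≤ r ∧ IsComponents E W ∧ (⨆ i, E i) ⊔ T = ⊤ ∧
    (∀ i j, ∃ t ∈ T, MulAut.conj t • E i = E j) ∧
    (∀ i, IsSL2Comp p (E i) W ∨ (p = 2 ∧ IsSymComp (E i) W)) ∧
    (∀ i, E i ≤ Subgroup.normalClosure (B : Set H)) ∧
    ∀ t ∈ T, ∀ i, ∃ j, MulAut.conj t • E i = E j

/-- Assemble the structure from a transitive set of components. -/
theorem hasStructure_of_orbit [Finite H] {p : ℕ} {T B : Subgroup H} {E₀ : Subgroup H}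
    (hB : E₀ ≤ Subgroup.normalClosure (B : Set H))
    (hcomm : ∀ s ∈ T, ∀ t ∈ T, MulAut.conj s • E₀ ≠ MulAut.conj t • E₀ →
      (∀ x ∈ MulAut.conj s • E₀, ∀ y ∈ MulAut.conj t • E₀, x * y = y * x) ∧
        moves (MulAut.conj s • E₀) W ≤ fixedSub (MulAut.conj t • E₀))
    (hsplit : ∀ t ∈ T, moves (MulAut.conj t • E₀) W ⊔ fixedSub (MulAut.conj t • E₀) = ⊤)
    (htop : (⨆ t : T, MulAut.conj (t : H) • E₀) ⊔ T = ⊤)
    (htype : ∀ t ∈ T, IsSL2Comp p (MulAut.conj t • E₀) W ∨
      (p = 2 ∧ IsSymComp (MulAut.conj t • E₀) W)) : HasStructure p T B W := by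
  classical
  set S : Set (Subgroup H) := Set.range fun t : T => MulAut.conj (t : H) • E₀ with hS
  haveI : Finite S := (Set.finite_range _).to_subtype
  haveI : Nonempty S := ⟨⟨_, ⟨1, rfl⟩⟩⟩
  obtain ⟨r, ⟨e⟩⟩ := Finite.exists_equiv_fin S
  have hmem : ∀ i, ∃ t ∈ T, ((e.symm i : S) : Subgroup H) = MulAut.conj t • E₀ := fun i => by
    obtain ⟨t, ht⟩ := (e.symm i).2
    exact ⟨t, t.2, ht.symm⟩
  refine ⟨r, fun i => (e.symm i : S), ?_, ⟨fun i j hij => ?_, fun i j hij => ?_, fun i => ?_⟩,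
    ?_, fun i j => ?_, fun i => ?_, fun i => ?_, fun u hu i => ?_⟩
  · exact Nat.one_le_iff_ne_zero.2 fun h0 => by
      subst h0
      exact (e (Classical.arbitrary S)).elim0
  · obtain ⟨s, hs, e1⟩ := hmem i
    obtain ⟨t, ht, e2⟩ := hmem j
    rw [e1, e2]
    exact (hcomm s hs t ht fun h =>
      hij (e.symm.injective (Subtype.ext (e1.trans (h.trans e2.symm))))).1
  · obtain ⟨s, hs, e1⟩ := hmem i
    obtain ⟨t, ht, e2⟩ := hmem j
    rw [e1, e2]
    exact (hcomm s hs t ht fun h =>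
      hij (e.symm.injective (Subtype.ext (e1.trans (h.trans e2.symm))))).2
  · obtain ⟨t, ht, e1⟩ := hmem i
    rw [e1]; exact hsplit t ht
  · refine eq_top_iff.2 (htop ▸ sup_le_sup_right (iSup_le fun t => ?_) T)
    refine le_iSup_of_le (e ⟨_, ⟨t, rfl⟩⟩) ?_
    simp
  · obtain ⟨s, hs, e1⟩ := hmem i
    obtain ⟨t, ht, e2⟩ := hmem j
    exact ⟨t * s⁻¹, T.mul_mem ht (T.inv_mem hs), by
      beta_reduce
      rw [e1, e2, LLemma.conj_conj, inv_mul_cancel_right]⟩
  · obtain ⟨t, ht, e1⟩ := hmem i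
    beta_reduce
    rw [e1]; exact htype t ht
  · obtain ⟨t, ht, e1⟩ := hmem i
    beta_reduce
    rw [e1]
    rintro _ hy
    obtain ⟨y, hy', rfl⟩ := (Subgroup.mem_smul_pointwise_iff_exists _ _ _).1 hy
    exact Subgroup.normalClosure_normal.conj_mem y (hB hy') t
  · obtain ⟨t, ht, e1⟩ := hmem i
    refine ⟨e ⟨_, ⟨⟨u * t, T.mul_mem hu ht⟩, rfl⟩⟩, ?_⟩
    beta_reduce
    rw [e1, e.symm_apply_apply, LLemma.conj_conj]

theorem RootPair.E_le_normalClosure {A : Subgroup H} {F : Type} [Field F] (R : RootPair A W F) :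
    R.E ≤ Subgroup.normalClosure (A : Set H) := by
  have hA : A ≤ Subgroup.normalClosure (A : Set H) := fun a ha => Subgroup.subset_normalClosure ha
  rw [R.eq_sup]
  refine sup_le hA fun y hy => ?_
  obtain ⟨a, ha, rfl⟩ := (Subgroup.mem_smul_pointwise_iff_exists _ _ _).1 hy
  exact Subgroup.normalClosure_normal.conj_mem a (hA ha) R.x

variable [Finite H] [Finite W] {p : ℕ} [Fact p.Prime] {T : Sylow p H} {M : Subgroup H}

/-- Root groups of order at least three: any two root pairs through `A` have the same `SL₂`. -/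
theorem Big.E_unique {A : Subgroup H} {F : Type} [Field F] [Finite F] (hb : Big p T M A W F)
    (R R' : RootPair A W F) (hAT : A ≤ (T : Subgroup H)) (hEM : ¬ R.E ≤ M)
    (hN : ∀ R'' : RootPair A W F, ∀ g ∈ R.E ⊔ R''.E, (∀ a ∈ A, g * a * g⁻¹ ∈ A) → g ∈ M) :
    R'.E = R.E := by
  rcases hb.compare R R' with ⟨⟨C⟩⟩ | hsw
  · rcases hb.E_eq_or C with h | ⟨h4, c, k, hk, hsh⟩
    · exact h
    · exfalso
      obtain rfl := hb.two_of_four h4 R
      obtain ⟨R'', C'', -, hproj, hsh'⟩ := hb.exists_graph h4 C hsh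
      exact hb.graph_false h4 C'' hproj hsh' hk hAT hEM (hN R'')
  · exfalso
    obtain rfl := hsw.two
    obtain ⟨d, hd⟩ := hb.swap_normal hsw
    exact hb.swap_false (hb.swap_conjA hsw d) (fun x => (hd x).1) (fun x => (hd x).2) hAT hEM
      (hN _)

theorem Setting.hasStructure_big (h : Setting p T M W) {A : Subgroup H} {F : Type} [Field F]
    [Fintype F] (hA : IsMin p A W) (hq : 2 < Nat.card A) (hAT : A ≤ (T : Subgroup H))
    (R : RootPair A W F) (hEM : ¬ R.E ≤ M) : HasStructure p (T : Subgroup H) A W := by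
  classical
  have hb : Big p T M A W F := ⟨h, hA, hq, inferInstance⟩
  have hconjT : ∀ t ∈ (T : Subgroup H), MulAut.conj t • A ≤ (T : Subgroup H) := fun t ht =>
    (Subgroup.pointwise_smul_le_pointwise_smul_iff.2 hAT).trans
      (LLemma.conj_eq_of_mem_normalizer (Subgroup.le_normalizer ht)).le
  have hcommA : ∀ s ∈ (T : Subgroup H), ∀ t ∈ (T : Subgroup H),
      ∀ a ∈ MulAut.conj s • A, ∀ b ∈ MulAut.conj t • A, a * b = b * a := fun s hs t ht =>
    h.commute_of_le_pgroup T.2 (hA.smul s) (hA.smul t)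
      (by rw [card_smul_subgroup, card_smul_subgroup]) (hconjT s hs) (hconjT t ht)
  -- elements normalizing the join of the orbit
  set U : Subgroup H := ⨆ t : (T : Subgroup H), MulAut.conj (t : H) • A with hU
  have hAU : A ≤ U := le_iSup_of_le 1 (by simp)
  have hTU : (T : Subgroup H) ≤ Subgroup.normalizer (U : Set H) := fun t ht => by
    refine LLemma.mem_normalizer_of_conj_le ?_
    rw [Subgroup.pointwise_smul_subset_iff]
    refine iSup_le fun s => ?_
    rw [← Subgroup.pointwise_smul_subset_iff, LLemma.conj_conj]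
    exact le_iSup_of_le ⟨t * s, mul_mem ht s.2⟩ le_rfl
  have hNU : Subgroup.normalizer (U : Set H) ≤ M := by
    refine h.le_M_of_sylow_le hTU fun e => ?_
    have hn : U.Normal := Subgroup.normalizer_eq_top_iff.1 e
    have hp : IsPGroup p ↥U := T.2.to_le (iSup_le fun t => hconjT t t.2)
    have h1 : U ≤ ⊥ := h.core ▸ le_pCore hn hp
    exact hA.ne_bot (le_bot_iff.1 (hAU.trans h1))
  have hN : ∀ R'' : RootPair A W F, ∀ g ∈ R.E ⊔ R''.E, (∀ a ∈ A, g * a * g⁻¹ ∈ A) → g ∈ M := by
    intro R'' g hg hn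
    refine hNU (LLemma.mem_normalizer_of_conj_le ?_)
    rw [Subgroup.pointwise_smul_subset_iff]
    refine iSup_le fun t => ?_
    rw [← Subgroup.pointwise_smul_subset_iff]
    rintro _ hy'
    obtain ⟨y, hy, rfl⟩ := (Subgroup.mem_smul_pointwise_iff_exists _ _ _).1 hy'
    show g * y * g⁻¹ ∈ U
    by_cases e : MulAut.conj (t : H) • A = A
    · rw [e] at hy
      exact hAU (hn y hy)
    · have hc : ∀ a ∈ A, ∀ b ∈ MulAut.conj (t : H) • A, a * b = b * a := fun a ha b hb' =>
        hcommA 1 (one_mem _) t t.2 a (by simpa using ha) b hb'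
      have hcard : Nat.card A = Nat.card ↥(MulAut.conj (t : H) • A) := (card_smul_subgroup A _).symm
      have hle : R.E ⊔ R''.E ≤ Subgroup.centralizer ({y} : Set H) :=
        sup_le
          (fun x hx => Subgroup.mem_centralizer_iff.2 fun z hz => by
            rw [Set.mem_singleton_iff.1 hz]
            exact (h.centralise hA (hA.smul t) hcard hq hc (Ne.symm e) R x hx y hy).symm)
          (fun x hx => Subgroup.mem_centralizer_iff.2 fun z hz => by
            rw [Set.mem_singleton_iff.1 hz]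
            exact (h.centralise hA (hA.smul t) hcard hq hc (Ne.symm e) R'' x hx y hy).symm)
      rw [← Subgroup.mem_centralizer_iff.1 (hle hg) y rfl, mul_inv_cancel_right]
      exact le_iSup (fun t : (T : Subgroup H) => MulAut.conj (t : H) • A) t hy
  -- the component depends only on the root group
  have hcore : ∀ s ∈ (T : Subgroup H), ∀ t ∈ (T : Subgroup H),
      MulAut.conj s • A = MulAut.conj t • A → MulAut.conj s • R.E = MulAut.conj t • R.E := by
    intro s hs t ht e
    have e1 : MulAut.conj (t⁻¹ * s) • A = A := by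
      rw [← LLemma.conj_conj, e, LLemma.conj_conj, inv_mul_cancel, map_one, one_smul]
    have h1 := hb.E_unique R (R.conj (t⁻¹ * s) e1) hAT hEM hN
    rw [RootPair.conj_E] at h1
    conv_rhs => rw [← h1]
    rw [LLemma.conj_conj, mul_inv_cancel_left]
  refine hasStructure_of_orbit (E₀ := R.E) (R.E_le_normalClosure) (fun s hs t ht hne => ?_) (fun t ht => ?_) ?_ fun t ht => ?_
  · have hne' : MulAut.conj t • A ≠ MulAut.conj s • A := fun e => hne (hcore t ht s hs e).symm
    have hh := h.commute_E (hA.smul t) (hA.smul s) (by rw [card_smul_subgroup, card_smul_subgroup])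
      (by rw [card_smul_subgroup]; exact hq) (hcommA t ht s hs) hne' (R.conj t rfl) (R.conj s rfl)
    exact ⟨fun x hx y hy => (hh.1 y hy x hx).symm, hh.2⟩
  · exact (R.conj t rfl).moves_sup_fix
  · by_contra hne
    refine hEM ((le_sup_of_le_left (le_iSup_of_le 1 ?_)).trans
      (h.le_M_of_sylow_le le_sup_right hne))
    simp
  · obtain ⟨n, hn⟩ := hA.isPGroup.exists_card_eq
    have hn1 : 1 ≤ n := Nat.one_le_iff_ne_zero.2 fun e => by
      rw [e, pow_zero] at hn
      omega
    exact Or.inl ⟨F, inferInstance, inferInstance, n, (R.conj t rfl).ρ, (R.conj t rfl).ψ, hn1,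
      by rw [← Nat.card_eq_fintype_card, R.card, hn], (R.conj t rfl).surj, (R.conj t rfl).ker,
      (R.conj t rfl).equiv⟩

end CfsgLib.FFModules.MinimalParabolic
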