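import Cfsg.Agent.Lib.FFModules.MinimalParabolic.Commuting

/-!
Root groups of order at least three: a minimal offender commuting with another one centralizes
the `SL₂` of that one.  Also the bookkeeping for a family of commuting components.
-/

set_option autoImplicit false
set_option linter.style.haveILetI false
set_option linter.unusedSectionVars false

namespace CfsgLib.FFModules.MinimalParabolic

open SL2Pair Matrix
open scoped Pointwise MatrixGroups

variable {H W : Type*} [Group H] [AddCommGroup W] [DistribMulAction H W]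

theorem moves_smul (A : Subgroup H) (g : H) {v : W} (hv : v ∈ moves (MulAut.conj g • A) W) :
    g⁻¹ • v ∈ moves A W := by
  induction hv using AddSubgroup.closure_induction with
  | mem x hx =>
    obtain ⟨a, ha, u, rfl⟩ := hx
    obtain ⟨b, hb, rfl⟩ := (Subgroup.mem_smul_pointwise_iff_exists _ _ _).1 ha
    show g⁻¹ • ((g * b * g⁻¹) • u - u) ∈ _
    rw [smul_sub, mul_smul, mul_smul, inv_smul_smul]
    exact sub_mem_moves hb _
  | zero => rw [smul_zero]; exact zero_mem _
  | add x y _ _ hx hy => rw [smul_add]; exact add_mem hx hy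
  | neg x _ hx => rw [smul_neg]; exact neg_mem hx

theorem smul_mem_moves {A : Subgroup H} {v : W} (hv : v ∈ moves A W) (g : H) :
    g • v ∈ moves (MulAut.conj g • A) W := by
  induction hv using AddSubgroup.closure_induction with
  | mem x hx =>
    obtain ⟨a, ha, u, rfl⟩ := hx
    rw [show g • (a • u - u) = (g * a * g⁻¹) • (g • u) - g • u by
      rw [smul_sub, mul_smul, mul_smul, inv_smul_smul]]
    exact sub_mem_moves (LLemma.conj_mem_conj ha) _
  | zero => rw [smul_zero]; exact zero_mem _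
  | add x y _ _ hx hy => rw [smul_add]; exact add_mem hx hy
  | neg x _ hx => rw [smul_neg]; exact neg_mem hx

theorem moves_mono {A B : Subgroup H} (h : A ≤ B) : moves A W ≤ moves B W :=
  moves_le_iff.2 fun _ ha v => sub_mem_moves (h ha) v

/-- The elements that preserve `Z` and act trivially on `W / Z`. -/
def trivOn [Finite W] (Z : AddSubgroup W) : Subgroup H where
  carrier := {g | (∀ z ∈ Z, g • z ∈ Z) ∧ ∀ v : W, g • v - v ∈ Z}
  one_mem' := ⟨fun z hz => by rwa [one_smul], fun v => by rw [one_smul, sub_self]; exact zero_mem _⟩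
  mul_mem' := fun {a b} ha hb => ⟨fun z hz => by rw [mul_smul]; exact ha.1 _ (hb.1 z hz),
    fun v => by
      rw [mul_smul, show a • b • v - v = (a • b • v - b • v) + (b • v - v) by abel]
      exact add_mem (ha.2 _) (hb.2 v)⟩
  inv_mem' := fun {a} ha => ⟨fun z hz => by
      have h1 := ha.2 (a⁻¹ • z)
      rw [smul_inv_smul] at h1
      have := sub_mem hz h1
      rwa [sub_sub_cancel] at this,
    fun v => by
      have h1 := ha.2 (a⁻¹ • v)
      rw [smul_inv_smul] at h1
      have := neg_mem h1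
      rwa [neg_sub] at this⟩

theorem mem_trivOn [Finite W] {Z : AddSubgroup W} {g : H} :
    g ∈ trivOn Z ↔ (∀ z ∈ Z, g • z ∈ Z) ∧ ∀ v : W, g • v - v ∈ Z :=
  Iff.rfl

/-- In `SL₂`, a subgroup with all upper and lower unitriangular matrices is everything. -/
theorem sl2_mem_of_unipotent {F : Type*} [Field F] (X : Subgroup SL(2, F))
    (hU : ∀ g : SL(2, F), g 0 0 = 1 → g 1 0 = 0 → g 1 1 = 1 → g ∈ X)
    (hL : ∀ g : SL(2, F), g 0 0 = 1 → g 0 1 = 0 → g 1 1 = 1 → g ∈ X) (g : SL(2, F)) : g ∈ X := by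
  have key : ∀ g : SL(2, F), g 1 0 ≠ 0 → g ∈ X := by
    intro g hc
    let U : F → SL(2, F) := fun a => ⟨!![1, a; 0, 1], by simp [Matrix.det_fin_two]⟩
    let L : SL(2, F) := ⟨!![1, 0; g 1 0, 1], by simp [Matrix.det_fin_two]⟩
    have e : g = U ((g 0 0 - 1) / g 1 0) * L * U ((g 1 1 - 1) / g 1 0) := by
      have hd := g.2
      rw [Matrix.det_fin_two] at hd
      refine Subtype.ext (Matrix.ext fun i j => ?_)
      rw [Matrix.SpecialLinearGroup.coe_mul, Matrix.SpecialLinearGroup.coe_mul]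
      fin_cases i <;> fin_cases j <;>
        simp [U, L, Matrix.mul_apply, Fin.sum_univ_two, hc] <;> field_simp <;>
        first | linear_combination hd | linear_combination -hd | ring1
    rw [e]
    exact X.mul_mem (X.mul_mem (hU _ (by simp [U]) (by simp [U]) (by simp [U]))
      (hL _ (by simp [L]) (by simp [L]) (by simp [L]))) (hU _ (by simp [U]) (by simp [U]) (by simp [U]))
  by_cases hc : g 1 0 = 0
  · let L : SL(2, F) := ⟨!![1, 0; 1, 1], by simp [Matrix.det_fin_two]⟩
    have hd := g.2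
    rw [Matrix.det_fin_two, hc, mul_zero, sub_zero] at hd
    have h1 : (g * L) 1 0 ≠ 0 := by
      rw [Matrix.SpecialLinearGroup.coe_mul]
      simp [L, Matrix.mul_apply, Fin.sum_univ_two, hc]
      exact right_ne_zero_of_mul_eq_one hd
    have := X.mul_mem (key _ h1) (X.inv_mem (hL L (by simp [L]) (by simp [L]) (by simp [L])))
    simpa using this
  · exact key g hc

variable [Finite H] [Finite W]
variable {p : ℕ} [Fact p.Prime] {T : Sylow p H} {M : Subgroup H}

namespace RootPair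

variable {A : Subgroup H} {F : Type} [Field F] (R : RootPair A W F)

/-- Transport by conjugation. -/
noncomputable def conj (g : H) {A' : Subgroup H} (e : MulAut.conj g • A = A') : RootPair A' W F where
  E := MulAut.conj g • R.E
  x := g * R.x * g⁻¹
  ρ := (Subgroup.equivSMul (MulAut.conj g) R.E).symm.trans R.ρ
  ψ := R.ψ.comp (DistribSMul.toAddMonoidHom W g⁻¹)
  le := e ▸ Subgroup.pointwise_smul_le_pointwise_smul_iff.2 R.le
  eq_sup := by
    rw [R.eq_sup, Subgroup.smul_sup, LLemma.conj_conj, ← e, LLemma.conj_conj]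
    congr 2
    group
  surj u := by
    obtain ⟨v, hv⟩ := R.surj u
    refine ⟨g • v, ?_⟩
    show R.ψ (g⁻¹ • g • v) = u
    rw [inv_smul_smul, hv]
  ker v := by
    show R.ψ (g⁻¹ • v) = 0 ↔ _
    rw [R.ker, mem_fixedSub_smul]
  equiv k v := by
    show R.ψ (g⁻¹ • (k : H) • v) = _
    set k' := (Subgroup.equivSMul (MulAut.conj g) R.E).symm k with hk
    have e1 : (k : H) = g * (k' : H) * g⁻¹ := by
      rw [hk]
      conv_lhs => rw [← (Subgroup.equivSMul (MulAut.conj g) R.E).apply_symm_apply k]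
      rfl
    rw [e1, mul_smul, mul_smul, inv_smul_smul, R.equiv]
    rfl
  card := by rw [R.card, ← e, card_smul_subgroup]
  mem_fix v := by
    rw [← e, mem_fixedSub_smul, R.mem_fix]
    rfl

theorem conj_E (g : H) {A' : Subgroup H} (e : MulAut.conj g • A = A') :
    (R.conj g e).E = MulAut.conj g • R.E := rfl

theorem ρ_weyl : R.ρ R.weyl = weylSL := by rw [weyl, MulEquiv.apply_symm_apply]

theorem eq_sup_weyl : R.E = A ⊔ MulAut.conj (R.weyl : H) • A := by
  set X := A ⊔ MulAut.conj (R.weyl : H) • A with hX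
  refine le_antisymm ?_ (sup_le R.le ?_)
  · intro e he
    have hU : ∀ k : SL(2, F), k 0 0 = 1 → k 1 0 = 0 → k 1 1 = 1 →
        k ∈ (X.subgroupOf R.E).map R.ρ.toMonoidHom := by
      intro k h00 h10 h11
      obtain ⟨b, hb⟩ := R.coord_bijective.2 (k 0 1)
      refine ⟨⟨b, R.le b.2⟩, Subgroup.mem_subgroupOf.2 (Subgroup.mem_sup_left b.2), ?_⟩
      refine Subtype.ext (Matrix.ext fun i j => ?_)
      show ((R.ρ ⟨b, R.le b.2⟩ : SL(2, F)) : Matrix (Fin 2) (Fin 2) F) i j = _
      rw [R.ρ_eq, hb]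
      fin_cases i <;> fin_cases j <;> simp [h00, h10, h11]
    obtain ⟨k, hk, e1⟩ : R.ρ ⟨e, he⟩ ∈ (X.subgroupOf R.E).map R.ρ.toMonoidHom := by
      refine sl2_mem_of_unipotent _ hU (fun k h00 h01 h11 => ?_) _
      obtain ⟨b, hb⟩ := R.coord_bijective.2 (-(k 1 0))
      refine ⟨R.weyl * ⟨b, R.le b.2⟩ * R.weyl⁻¹, Subgroup.mem_subgroupOf.2
        (Subgroup.mem_sup_right (LLemma.conj_mem_conj b.2)), ?_⟩
      show R.ρ _ = k
      rw [map_mul, map_mul, map_inv, R.ρ_weyl, mul_inv_eq_iff_eq_mul]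
      refine Subtype.ext ?_
      rw [Matrix.SpecialLinearGroup.coe_mul, Matrix.SpecialLinearGroup.coe_mul, R.ρ_eq, hb]
      ext i j
      fin_cases i <;> fin_cases j <;>
        simp [weylSL, Matrix.mul_apply, Fin.sum_univ_two, h00, h01, h11]
    have e2 : k = ⟨e, he⟩ := R.ρ.injective e1
    subst e2
    exact Subgroup.mem_subgroupOf.1 hk
  · rintro _ hy
    obtain ⟨b, hb, rfl⟩ := (Subgroup.mem_smul_pointwise_iff_exists _ _ _).1 hy
    exact R.E.mul_mem (R.E.mul_mem R.weyl.2 (R.le hb)) (R.E.inv_mem R.weyl.2)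

include R in
theorem exists_ne_one : ∃ a ∈ A, a ≠ 1 := by
  obtain ⟨b, hb⟩ := R.coord_bijective.2 1
  refine ⟨b, b.2, fun e => ?_⟩
  have : R.coord b = 0 := R.coord_eq_zero.2 (Subtype.ext e)
  rw [hb] at this
  exact one_ne_zero this

/-- The root group is not centralized by its `SL₂`. -/
theorem not_centralise : ¬ ∀ a ∈ A, a * (R.weyl : H) = (R.weyl : H) * a := by
  intro h
  obtain ⟨v, hv⟩ := R.surj ![0, 1]
  obtain ⟨b, hb⟩ := R.coord_bijective.2 1
  have e := congrArg (fun x : H => R.ψ (x • v)) (h b b.2)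
  simp only [mul_smul] at e
  rw [R.ψ_smul, R.ψ_weyl, R.ψ_weyl, R.ψ_smul, hv, hb] at e
  have e1 := congrFun e 1
  simp at e1

theorem moves_sup_fix : moves R.E W ⊔ fixedSub R.E = ⊤ := by
  refine eq_top_iff.2 fun v _ => ?_
  obtain ⟨v₀, hv₀⟩ := R.surj ![0, 1]
  obtain ⟨b, hb⟩ := R.coord_bijective.2 (R.ψ v 0)
  obtain ⟨d, hd⟩ := R.coord_bijective.2 (-R.ψ v 1)
  set m' := ((b : H) • v₀ - v₀) +
    (((R.weyl : H) * d * (R.weyl : H)⁻¹) • ((R.weyl : H) • v₀) - (R.weyl : H) • v₀) with hm'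
  have h1 : m' ∈ moves R.E W := add_mem (sub_mem_moves (R.le b.2) _) (sub_mem_moves
      (R.E.mul_mem (R.E.mul_mem R.weyl.2 (R.le d.2)) (R.E.inv_mem R.weyl.2)) _)
  have h2 : v - m' ∈ fixedSub R.E := by
    rw [← R.ker, map_sub, hm']
    simp only [map_sub, map_add, R.ψ_smul, mul_smul, inv_smul_smul, R.ψ_weyl, hv₀, hb, hd]
    funext i
    fin_cases i <;> simp
  exact AddSubgroup.mem_sup.2 ⟨m', h1, _, h2, add_sub_cancel _ _⟩

end RootPair

namespace Setting

variable (h : Setting p T M W) {A B : Subgroup H}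
include h

/-- A minimal offender commuting with another one centralizes its `SL₂`. -/
theorem centralise (hA : IsMin p A W) (hB : IsMin p B W) (hcard : Nat.card A = Nat.card B)
    (hq : 2 < Nat.card A) (hc : ∀ a ∈ A, ∀ b ∈ B, a * b = b * a) (hne : A ≠ B)
    {F : Type} [Field F] (R : RootPair A W F) : ∀ e ∈ R.E, ∀ b ∈ B, e * b = b * e := by
  set Z : AddSubgroup W := fixedSub R.E with hZ
  have hBZ : moves B W ≤ Z := h.moves_le_fixE hA hB hcard hc hne hq R
  have hBpres : ∀ b ∈ B, ∀ z ∈ Z, b • z ∈ Z := fun b hb z hz => by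
    have := add_mem (hBZ (sub_mem_moves hb z)) hz
    rwa [sub_add_cancel] at this
  set S : Subgroup H := seriesStab Z with hS
  have hBN : B ≤ Subgroup.normalizer (S : Set H) := fun b hb => LLemma.mem_normalizer_of_conj_le <| by
    intro y hy
    obtain ⟨x, hx, rfl⟩ := (Subgroup.mem_smul_pointwise_iff_exists _ _ _).1 hy
    exact mem_seriesStab_conj hx (hBpres b hb) (hBpres _ (B.inv_mem hb))
  have hBS : IsPGroup p ↥(B ⊔ S) :=
    hB.isPGroup.to_sup_of_normal_right' (h.isQuad_seriesStab Z).isPGroup hBN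
  obtain ⟨FB, hFB, hFB', ⟨RB⟩⟩ := exists_rootPair h hB
  have key : ∀ e ∈ R.E, MulAut.conj e • B = B := by
    intro e he
    have hle : MulAut.conj e • B ≤ B ⊔ S := by
      intro y hy
      obtain ⟨b, hb, rfl⟩ := (Subgroup.mem_smul_pointwise_iff_exists _ _ _).1 hy
      show e * b * e⁻¹ ∈ _
      rw [show e * b * e⁻¹ = b * (b⁻¹ * (e * b * e⁻¹)) by group]
      refine Subgroup.mul_mem_sup hb (mem_seriesStab.2 ⟨fun z hz => ?_, fun v => ?_⟩)
      · rw [mul_smul, mul_smul, mul_smul, show e⁻¹ • z = z from hz _ (R.E.inv_mem he),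
          show e • b • z = b • z from hBpres b hb z hz e he, inv_smul_smul]
      · have h1 : (e * b * e⁻¹) • v - v ∈ Z := by
          rw [conj_sub, show e • (b • e⁻¹ • v - e⁻¹ • v) = _ from hBZ (sub_mem_moves hb _) e he]
          exact hBZ (sub_mem_moves hb _)
        rw [mul_smul, show b⁻¹ • (e * b * e⁻¹) • v - v =
          b⁻¹ • ((e * b * e⁻¹) • v - v) + (b⁻¹ • v - v) by rw [smul_sub]; abel]
        exact add_mem (hBpres _ (B.inv_mem hb) _ h1) (hBZ (sub_mem_moves (B.inv_mem hb) v))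
    by_contra hne'
    have hcc := h.commute_of_le_pgroup hBS hB (hB.smul e) (card_smul_subgroup B e).symm le_sup_left hle
    have h1 := h.moves_le_fixE hB (hB.smul e) (card_smul_subgroup B e).symm hcc
      (fun e' => hne' e'.symm) (hcard ▸ hq) RB
    obtain ⟨v, hv⟩ := RB.surj ![0, 1]
    obtain ⟨b, hb⟩ := RB.coord_bijective.2 1
    have h2 : (b : H) • v - v ∈ moves (MulAut.conj e • B) W := by
      have := smul_mem_moves (sub_mem_moves b.2 v) e
      rwa [show e • ((b : H) • v - v) = _ from hBZ (sub_mem_moves b.2 v) e he] at this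
    have h3 := (RB.ker _).2 (h1 h2)
    rw [RB.ψ_sub, hv, hb] at h3
    have h4 := congrFun h3 0
    simp at h4
  -- the centralizer of `B` in `E` is normal and contains `A`
  have hAc : ∀ x ∈ R.E, ∀ a ∈ A, ∀ b ∈ B, (x * a * x⁻¹) * b = b * (x * a * x⁻¹) := by
    intro x hx a ha b hb
    have h1 : x⁻¹ * b * x ∈ B := by
      have := LLemma.conj_mem_conj (a := x⁻¹) hb
      rwa [key _ (R.E.inv_mem hx), inv_inv] at this
    have h2 := hc a ha _ h1
    calc (x * a * x⁻¹) * b = x * (a * (x⁻¹ * b * x)) * x⁻¹ := by group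
      _ = x * ((x⁻¹ * b * x) * a) * x⁻¹ := by rw [h2]
      _ = b * (x * a * x⁻¹) := by group
  have hle : R.E ≤ Subgroup.centralizer (B : Set H) := by
    rw [R.eq_sup_weyl]
    refine sup_le (fun a ha => Subgroup.mem_centralizer_iff.2 fun b hb => (hc a ha b hb).symm) ?_
    rintro _ hy
    obtain ⟨a, ha, rfl⟩ := (Subgroup.mem_smul_pointwise_iff_exists _ _ _).1 hy
    exact Subgroup.mem_centralizer_iff.2 fun b hb => (hAc _ R.weyl.2 a ha b hb).symm
  exact fun e he b hb => (Subgroup.mem_centralizer_iff.1 (hle he) b hb).symm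

/-- The `SL₂`s of two distinct commuting minimal offenders commute, and each moves the module into
the fixed points of the other. -/
theorem commute_E (hA : IsMin p A W) (hB : IsMin p B W) (hcard : Nat.card A = Nat.card B)
    (hq : 2 < Nat.card A) (hc : ∀ a ∈ A, ∀ b ∈ B, a * b = b * a) (hne : A ≠ B)
    {F F' : Type} [Field F] [Field F'] (R : RootPair A W F) (R' : RootPair B W F') :
    (∀ x ∈ R.E, ∀ y ∈ R'.E, x * y = y * x) ∧ moves R'.E W ≤ fixedSub R.E := by
  have hAE' : ∀ y ∈ R'.E, ∀ a ∈ A, y * a = a * y :=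
    h.centralise hB hA hcard.symm (hcard ▸ hq) (fun b hb a ha => (hc a ha b hb).symm) hne.symm R'
  -- every conjugate of `B` under `E'` centralizes `E`
  have hconj : ∀ y ∈ R'.E, ∀ e ∈ R.E, ∀ b ∈ B, e * (y * b * y⁻¹) = (y * b * y⁻¹) * e := by
    intro y hy e he b hb
    refine h.centralise hA (hB.smul y) (by rw [card_smul_subgroup, hcard]) hq ?_ ?_ R e he _
      (LLemma.conj_mem_conj hb)
    · intro a ha c hc'
      obtain ⟨b', hb', rfl⟩ := (Subgroup.mem_smul_pointwise_iff_exists _ _ _).1 hc'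
      exact (hAE' _ (R'.E.mul_mem (R'.E.mul_mem hy (R'.le hb')) (R'.E.inv_mem hy)) a ha).symm
    · intro e'
      refine R'.not_centralise fun b hb => ?_
      have hz : y * b * y⁻¹ ∈ A := e' ▸ LLemma.conj_mem_conj hb
      have h1 := hAE' (y * R'.weyl * y⁻¹) (R'.E.mul_mem (R'.E.mul_mem hy R'.weyl.2)
        (R'.E.inv_mem hy)) _ hz
      calc b * (R'.weyl : H) = y⁻¹ * ((y * b * y⁻¹) * (y * R'.weyl * y⁻¹)) * y := by group
        _ = y⁻¹ * ((y * R'.weyl * y⁻¹) * (y * b * y⁻¹)) * y := by rw [h1]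
        _ = (R'.weyl : H) * b := by group
  have hgen : ∀ (X : Subgroup H), (∀ y ∈ R'.E, ∀ b ∈ B, y * b * y⁻¹ ∈ X) → R'.E ≤ X := fun X hX => by
    rw [R'.eq_sup_weyl]
    refine sup_le (fun b hb => by simpa using hX 1 (one_mem _) b hb) ?_
    rintro _ hy
    obtain ⟨b, hb, rfl⟩ := (Subgroup.mem_smul_pointwise_iff_exists _ _ _).1 hy
    exact hX _ R'.weyl.2 b hb
  have hcomm : ∀ x ∈ R.E, ∀ y ∈ R'.E, x * y = y * x := fun x hx y hy => by
    have : R'.E ≤ Subgroup.centralizer (R.E : Set H) := hgen _ fun y hy b hb =>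
      Subgroup.mem_centralizer_iff.2 fun e he => hconj y hy e he b hb
    exact Subgroup.mem_centralizer_iff.1 (this hy) x hx
  refine ⟨hcomm, moves_le_iff.2 fun y hy v => ?_⟩
  have hBZ : moves B W ≤ fixedSub R.E := h.moves_le_fixE hA hB hcard hc hne hq R
  have hpres : ∀ y ∈ R'.E, ∀ z ∈ (fixedSub R.E : AddSubgroup W), y • z ∈ fixedSub R.E :=
    fun y hy z hz => smul_mem_fixedSub_of_comm (fun e he => hcomm e he y hy) hz
  have hle : R'.E ≤ trivOn (fixedSub R.E : AddSubgroup W) := hgen _ fun y hy b hb =>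
    mem_trivOn.2 ⟨hpres _ (R'.E.mul_mem (R'.E.mul_mem hy (R'.le hb)) (R'.E.inv_mem hy)), fun v => by
      rw [conj_sub]
      exact hpres y hy _ (hBZ (sub_mem_moves hb _))⟩
  exact (mem_trivOn.1 (hle hy)).2 v

end Setting

/-- A family of commuting components. -/
structure IsComponents {ι : Type*} (E : ι → Subgroup H) (W : Type*) [AddCommGroup W]
    [DistribMulAction H W] : Prop where
  comm : ∀ i j, i ≠ j → ∀ x ∈ E i, ∀ y ∈ E j, x * y = y * x
  cross : ∀ i j, i ≠ j → moves (E i) W ≤ fixedSub (E j)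
  split : ∀ i, moves (E i) W ⊔ fixedSub (E i) = ⊤

namespace IsComponents

variable {ι : Type*} {E : ι → Subgroup H} (hE : IsComponents E W)
include hE

omit [Finite H] [Finite W] in
theorem inf_iSup_eq_bot (hf : ∀ g : H, (∀ v : W, g • v = v) → g = 1) (i : ι) :
    E i ⊓ (⨆ j ∈ {j | j ≠ i}, E j) = ⊥ := by
  refine (Subgroup.eq_bot_iff_forall _).2 fun z hz => hf z fun v => ?_
  obtain ⟨m, hm, c, hc, rfl⟩ := AddSubgroup.mem_sup.1
    (show v ∈ moves (E i) W ⊔ fixedSub (E i) from hE.split i ▸ AddSubgroup.mem_top v)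
  rw [smul_add, hc z hz.1]
  congr 1
  have h2 : (⨆ j ∈ {j | j ≠ i}, E j) ≤ MulAction.stabilizer H m :=
    iSup₂_le fun j hj g hg => MulAction.mem_stabilizer_iff.2 (hE.cross i j (Ne.symm hj) hm g hg)
  exact MulAction.mem_stabilizer_iff.1 (h2 hz.2)

omit [Finite H] [Finite W] in
theorem mem_fix_sup_moves (s : Finset ι) (v : W) :
    ∃ c m : W, (∀ i ∈ s, c ∈ fixedSub (E i)) ∧ m ∈ ⨆ i, moves (E i) W ∧ c + m = v := by
  classical
  induction s using Finset.induction_on with
  | empty => exact ⟨v, 0, by simp, zero_mem _, add_zero v⟩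
  | insert i s hi ih =>
    obtain ⟨c, m, hc, hm, rfl⟩ := ih
    obtain ⟨m', hm', c', hc', rfl⟩ := AddSubgroup.mem_sup.1
      (show c ∈ moves (E i) W ⊔ fixedSub (E i) from hE.split i ▸ AddSubgroup.mem_top c)
    refine ⟨c', m' + m, fun j hj => ?_,
      add_mem (AddSubgroup.mem_iSup_of_mem i hm') hm, by abel⟩
    rcases Finset.mem_insert.1 hj with rfl | hj
    · exact hc'
    · have hij : i ≠ j := fun e => hi (e ▸ hj)
      simpa using sub_mem (hc j hj) (hE.cross i j hij hm')

omit [Finite H] [Finite W] in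
theorem fix_sup_moves [Fintype ι] :
    fixedSub (⨆ i, E i) ⊔ (⨆ i, moves (E i) W) = ⊤ := by
  refine eq_top_iff.2 fun v _ => ?_
  obtain ⟨c, m, hc, hm, rfl⟩ := hE.mem_fix_sup_moves Finset.univ v
  refine add_mem (AddSubgroup.mem_sup_left ?_) (AddSubgroup.mem_sup_right hm)
  have h1 : (⨆ i, E i) ≤ MulAction.stabilizer H c :=
    iSup_le fun i g hg => MulAction.mem_stabilizer_iff.2 (hc i (Finset.mem_univ i) g hg)
  exact fun g hg => MulAction.mem_stabilizer_iff.1 (h1 hg)

end IsComponents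

end CfsgLib.FFModules.MinimalParabolic
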