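import Cfsg.Agent.Lib.FFModules.MinimalParabolic.Section
import Mathlib.GroupTheory.Nilpotent
import Mathlib.FieldTheory.Finite.Basic

/-!
Minimal offenders of the same order in an irreducible module of a `p`-minimal group: two of them
lying in a common `p`-subgroup commute, and then each moves the module into the fixed points of
the `SL₂` of the other one (for root groups of order at least three).
-/

set_option autoImplicit false
set_option linter.style.haveILetI false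
set_option linter.unusedSectionVars false

namespace CfsgLib.FFModules.MinimalParabolic

open SL2Pair Matrix
open scoped Pointwise MatrixGroups

variable {H W : Type*} [Group H] [AddCommGroup W] [DistribMulAction H W]

/-- The subgroup generated by all `a • v - v`. -/
def moves (A : Subgroup H) (W : Type*) [AddCommGroup W] [DistribMulAction H W] : AddSubgroup W :=
  AddSubgroup.closure {x | ∃ a ∈ A, ∃ v : W, a • v - v = x}

theorem sub_mem_moves {A : Subgroup H} {a : H} (ha : a ∈ A) (v : W) : a • v - v ∈ moves A W :=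
  AddSubgroup.subset_closure ⟨a, ha, v, rfl⟩

theorem moves_le_iff {A : Subgroup H} {S : AddSubgroup W} :
    moves A W ≤ S ↔ ∀ a ∈ A, ∀ v : W, a • v - v ∈ S := by
  rw [moves, AddSubgroup.closure_le]
  exact ⟨fun h a ha v => h ⟨a, ha, v, rfl⟩, fun h x ⟨a, ha, v, e⟩ => e ▸ h a ha v⟩

theorem moves_le_fixedSub {p : ℕ} {A : Subgroup H} (hA : IsQuad p A W) :
    moves A W ≤ fixedSub A :=
  moves_le_iff.2 hA.quad

theorem mem_seriesStab_conj {K : AddSubgroup W} {g y : H} (hy : y ∈ seriesStab (H := H) K)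
    (h1 : ∀ v ∈ K, g • v ∈ K) (h2 : ∀ v ∈ K, g⁻¹ • v ∈ K) :
    g * y * g⁻¹ ∈ seriesStab (H := H) K := by
  rw [mem_seriesStab] at hy ⊢
  refine ⟨fun v hv => ?_, fun v => ?_⟩
  · rw [mul_smul, mul_smul, hy.1 _ (h2 v hv), smul_inv_smul]
  · rw [conj_sub]; exact h1 _ (hy.2 _)

theorem sub_mul_of_fix {a b : H} {v : W} (h : a • (b • v - v) = b • v - v) :
    (a * b) • v - v = (a • v - v) + (b • v - v) := by
  rw [smul_sub, sub_eq_iff_eq_add] at h
  rw [mul_smul, h]
  abel

theorem smul_mem_fixedSub_of_comm {A : Subgroup H} {g : H} (hg : ∀ a ∈ A, a * g = g * a) {v : W}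
    (hv : v ∈ fixedSub A) : g • v ∈ fixedSub A := fun a ha => by
  rw [← mul_smul, hg a ha, mul_smul, hv a ha]

theorem smul_mem_fixedSub_of_le_moves {A B : Subgroup H} (hBA : moves B W ≤ fixedSub A) {b : H}
    (hb : b ∈ B) {v : W} (hv : v ∈ fixedSub A) : b • v ∈ fixedSub A := by
  have := add_mem (hBA (sub_mem_moves hb v)) hv
  rwa [sub_add_cancel] at this

variable [Finite H] [Finite W]
variable {p : ℕ} [Fact p.Prime] {T : Sylow p H} {M : Subgroup H}

namespace Setting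

variable (h : Setting p T M W) {A B : Subgroup H}
include h

theorem inj {hv' : IsMin p B W} {v : W} (hv : v ∉ fixedSub B) {b c : H} (hb : b ∈ B) (hc : c ∈ B)
    (e : b • v = c • v) : b = c := by
  obtain ⟨F, hF, hF', ⟨R⟩⟩ := exists_rootPair h hv'
  exact R.inj hv hb hc e

theorem mem_fix (hB : IsMin p B W) {b : H} (hb : b ∈ B) (hb1 : b ≠ 1) {v : W} (hv : b • v = v) :
    v ∈ fixedSub B := by
  obtain ⟨F, hF, hF', ⟨R⟩⟩ := exists_rootPair h hB
  exact R.mem_fix_of_smul_eq hb hb1 hv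

theorem eq_of_fixedSub_eq (hA : IsMin p A W) (hB : IsMin p B W)
    (e : (fixedSub A : AddSubgroup W) = fixedSub B) : A = B := by
  rw [← h.seriesStab_eq hA.toIsQuad hA.mu_eq, e, h.seriesStab_eq hB.toIsQuad hB.mu_eq]

theorem eq_of_mem (hA : IsMin p A W) (hB : IsMin p B W) {a : H} (ha : a ∈ A) (ha' : a ∈ B)
    (ha1 : a ≠ 1) : A = B :=
  h.eq_of_fixedSub_eq hA hB (le_antisymm (fun _ hv => h.mem_fix hB ha' ha1 (hv a ha))
    fun _ hv => h.mem_fix hA ha ha1 (hv a ha'))

theorem exists_not_mem (hB : IsMin p B W) : ∃ v : W, v ∉ fixedSub B := by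
  by_contra hc
  push Not at hc
  exact hB.ne_bot ((Subgroup.eq_bot_iff_forall _).2 fun b hb => h.faithful b fun v => hc v b hb)

theorem card_eq (hB : IsMin p B W) :
    Nat.card B * Nat.card (fixedSub B : AddSubgroup W) = Nat.card W := hB.mu_eq

theorem index_fixedSub (hB : IsMin p B W) :
    Nat.card (W ⧸ (fixedSub B : AddSubgroup W)) = Nat.card B :=
  Nat.eq_of_mul_eq_mul_right (Nat.card_pos (α := (fixedSub B : AddSubgroup W)))
    ((AddSubgroup.card_eq_card_quotient_mul_card_addSubgroup _).symm.trans (h.card_eq hB).symm)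

/-- Commuting minimal offenders fix each other's commutators with the module. -/
theorem moves_le_of_comm (hA : IsMin p A W) (hB : IsMin p B W) (hcard : Nat.card A = Nat.card B)
    (hc : ∀ a ∈ A, ∀ b ∈ B, a * b = b * a) : moves A W ≤ fixedSub B := by
  refine moves_le_iff.2 fun a ha v => ?_
  by_contra hk
  by_cases hv : v ∈ fixedSub A
  · exact hk (by rw [hv a ha, sub_self]; exact zero_mem _)
  have e : ∀ b ∈ B, b • (a • v - v) = a • (b • v) - b • v := fun b hb => by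
    rw [smul_sub, ← mul_smul, ← hc a ha b hb, mul_smul]
  let f : B → W ⧸ (fixedSub A : AddSubgroup W) := fun b => QuotientAddGroup.mk ((b : H) • v)
  have hinj : Function.Injective f := fun b c hbc => by
    have h1 : -((b : H) • v) + (c : H) • v ∈ fixedSub A := QuotientAddGroup.eq.1 hbc
    refine Subtype.ext (h.inj (hv' := hB) hk b.2 c.2 ?_)
    rw [e b b.2, e c c.2]
    have h2 := h1 a ha
    rw [smul_add, smul_neg] at h2
    rw [sub_eq_sub_iff_add_eq_add]
    exact (neg_add_eq_iff_eq_add.1 (by rw [h2]) |> fun e' => by rw [e']; abel)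
  have hbij : Function.Bijective f := (Nat.bijective_iff_injective_and_card f).2
    ⟨hinj, by rw [h.index_fixedSub hA, hcard]⟩
  obtain ⟨b, hb⟩ := hbij.2 0
  have hbv : (b : H) • v ∈ fixedSub A := (QuotientAddGroup.eq_zero_iff _).1 hb
  have hz := e b b.2
  rw [hbv a ha, sub_self, smul_eq_zero_iff_eq] at hz
  exact hk (hz ▸ zero_mem _)

theorem inf_fixedSub (hA : IsMin p A W) (hB : IsMin p B W) (hcard : Nat.card A = Nat.card B)
    (hc : ∀ a ∈ A, ∀ b ∈ B, a * b = b * a) (hne : A ≠ B) :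
    A ⊔ B ≤ seriesStab (H := H) (fixedSub A ⊓ fixedSub B : AddSubgroup W) ∧
      (∀ y ∈ seriesStab (H := H) (fixedSub A ⊓ fixedSub B : AddSubgroup W),
        ∃ a ∈ A, ∃ b ∈ B, a * b = y) ∧
      (fixedSub A ⊔ fixedSub B : AddSubgroup W) = ⊤ ∧
      Nat.card A * Nat.card A * Nat.card ↥(fixedSub A ⊓ fixedSub B : AddSubgroup W) = Nat.card W := by
  set K : AddSubgroup W := fixedSub A ⊓ fixedSub B
  set Y : Subgroup H := seriesStab (H := H) K with hY
  have hAY : A ≤ Y := fun a ha => mem_seriesStab.2 ⟨fun v hv => hv.1 a ha, fun v =>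
    ⟨hA.quad a ha v, h.moves_le_of_comm hA hB hcard hc (sub_mem_moves ha v)⟩⟩
  have hBY : B ≤ Y := fun b hb => mem_seriesStab.2 ⟨fun v hv => hv.2 b hb, fun v =>
    ⟨h.moves_le_of_comm hB hA hcard.symm (fun b hb a ha => (hc a ha b hb).symm) (sub_mem_moves hb v),
      hB.quad b hb v⟩⟩
  let f : A × B → Y := fun x => ⟨x.1 * x.2, Y.mul_mem (hAY x.1.2) (hBY x.2.2)⟩
  have hinj : Function.Injective f := by
    rintro ⟨a, b⟩ ⟨a', b'⟩ e
    have e' : (a : H) * b = a' * b' := congrArg Subtype.val e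
    have h1 : (a' : H)⁻¹ * a = (b' : H) * (b : H)⁻¹ := by
      rw [inv_mul_eq_iff_eq_mul, ← mul_assoc, ← e', mul_inv_cancel_right]
    by_cases h2 : (a' : H)⁻¹ * a = 1
    · obtain rfl : a' = a := Subtype.ext (inv_mul_eq_one.1 h2)
      rw [mul_right_inj] at e'
      rw [Subtype.ext e']
    · exact absurd (h.eq_of_mem hA hB (A.mul_mem (A.inv_mem a'.2) a.2)
        (h1 ▸ B.mul_mem b'.2 (B.inv_mem b.2)) h2) hne
  have hcf := Nat.card_le_card_of_injective f hinj
  rw [Nat.card_prod, ← hcard] at hcf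
  have hK : K ≤ fixedSub Y := fun v hv y (hy : y ∈ seriesStab (H := H) K) => (mem_seriesStab.1 hy).1 v hv
  have hno : Nat.card Y * Nat.card K ≤ Nat.card W :=
    (Nat.mul_le_mul_left _ (AddSubgroup.card_le_of_le hK)).trans (noOver h Y (h.isQuad_seriesStab K))
  have hsum := card_sup_mul (fixedSub A : AddSubgroup W) (fixedSub B)
  have hS : Nat.card ↥(fixedSub A ⊔ fixedSub B : AddSubgroup W) ≤ Nat.card W :=
    Nat.card_le_card_of_injective _ Subtype.val_injective
  have eA := h.card_eq hA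
  have eB := h.card_eq hB
  rw [← hcard] at eB
  have hKpos : 0 < Nat.card K := Nat.card_pos
  set q := Nat.card A
  set S := Nat.card ↥(fixedSub A ⊔ fixedSub B : AddSubgroup W)
  have h3 : q * q * Nat.card K ≤ Nat.card W := (Nat.mul_le_mul_right _ hcf).trans hno
  have h4 : Nat.card W * Nat.card W = S * (q * q * Nat.card K) := by
    calc _ = (q * Nat.card (fixedSub A : AddSubgroup W)) *
          (q * Nat.card (fixedSub B : AddSubgroup W)) := by rw [eA, eB]
      _ = q * q * (Nat.card (fixedSub A : AddSubgroup W) * Nat.card (fixedSub B : AddSubgroup W)) := by ring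
      _ = q * q * (S * Nat.card K) := by rw [← hsum]
      _ = _ := by ring
  have hWpos : 0 < Nat.card W := Nat.card_pos
  have hSeq : S = Nat.card W := by nlinarith
  have hKeq : q * q * Nat.card K = Nat.card W := by
    rw [hSeq] at h4; exact (Nat.eq_of_mul_eq_mul_left hWpos h4).symm
  refine ⟨sup_le hAY hBY, fun y hy => ?_, AddSubgroup.eq_top_of_card_eq _ hSeq, hKeq⟩
  have hYle : Nat.card Y ≤ q * q := Nat.le_of_mul_le_mul_right (hno.trans hKeq.ge) hKpos
  have hbij : Function.Bijective f := (Nat.bijective_iff_injective_and_card f).2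
    ⟨hinj, by rw [Nat.card_prod, ← hcard]; exact le_antisymm hcf hYle⟩
  obtain ⟨⟨a, b⟩, e⟩ := hbij.2 ⟨y, hy⟩
  exact ⟨a, a.2, b, b.2, congrArg Subtype.val e⟩

/-- A minimal offender normalizing another one of the same order centralizes it. -/
theorem commute_of_normalizes (hA : IsMin p A W) (hB : IsMin p B W)
    (hcard : Nat.card A = Nat.card B) (hn : ∀ b ∈ B, ∀ a ∈ A, b * a * b⁻¹ ∈ A) :
    ∀ a ∈ A, ∀ b ∈ B, a * b = b * a := by
  obtain ⟨v, hv, hvB⟩ : ∃ v : W, v ∉ fixedSub A ∧ ∀ b ∈ B, b • v - v ∈ fixedSub A := by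
    obtain ⟨v, hv⟩ := h.exists_not_mem hA
    by_cases h1 : ∀ b ∈ B, b • v - v ∈ fixedSub A
    · exact ⟨v, hv, h1⟩
    · push Not at h1
      obtain ⟨b, hb, h2⟩ := h1
      exact ⟨_, h2, fun c hc => by rw [hB.quad b hb v c hc, sub_self]; exact zero_mem _⟩
  intro a ha
  have e : ∀ b ∈ B, b • (a • v - v) = (b * a * b⁻¹) • v - v := fun b hb => by
    have h1 := hvB b hb _ (hn b hb a ha)
    rw [smul_sub, ← mul_smul, inv_mul_cancel_right, sub_eq_iff_eq_add] at h1
    rw [smul_sub, ← mul_smul, h1]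
    abel
  have hk : a • v - v ∈ fixedSub B := by
    by_contra hk
    let f : B → A := fun b => ⟨(b : H) * a * (b : H)⁻¹, hn b b.2 a ha⟩
    have hinj : Function.Injective f := fun b c hbc => by
      refine Subtype.ext (h.inj (hv' := hB) hk b.2 c.2 ?_)
      rw [e b b.2, e c c.2, show (b : H) * a * (b : H)⁻¹ = c * a * (c : H)⁻¹ from
        congrArg Subtype.val hbc]
    obtain ⟨b, hb⟩ := ((Nat.bijective_iff_injective_and_card f).2 ⟨hinj, hcard.symm⟩).2 1
    have h1 : (b : H) * a * (b : H)⁻¹ = 1 := congrArg Subtype.val hb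
    rw [conj_eq_one_iff] at h1
    exact hk (by rw [h1, one_smul, sub_self]; exact zero_mem _)
  intro b hb
  have h1 := e b hb
  rw [hk b hb, sub_left_inj] at h1
  have h2 := h.inj (hv' := hA) hv ha (hn b hb a ha) h1
  conv_lhs => rw [h2]
  rw [inv_mul_cancel_right]

/-- If `B` moves the module into the fixed points of `A`, then `A` and `B` commute. -/
theorem comm_of_moves_le (hA : IsMin p A W) (hB : IsMin p B W) (hcard : Nat.card A = Nat.card B)
    (hBA : moves B W ≤ fixedSub A) : ∀ a ∈ A, ∀ b ∈ B, a * b = b * a := by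
  refine h.commute_of_normalizes hA hB hcard fun b hb a ha =>
    h.mem_of_series hA.toIsQuad hA.mu_eq (fun v hv => ?_) fun v => ?_
  · rw [mul_smul, mul_smul, smul_mem_fixedSub_of_le_moves hBA (B.inv_mem hb) hv a ha, smul_inv_smul]
  · rw [conj_sub]
    exact smul_mem_fixedSub_of_le_moves hBA hb (hA.quad a ha _)

end Setting

namespace RootPair

variable {A : Subgroup H} {F : Type} [Field F] (R : RootPair A W F)
include R

omit R in
/-- The Weyl matrix. -/
def weylSL : SL(2, F) := ⟨!![0, 1; -1, 0], by simp [Matrix.det_fin_two]⟩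

/-- The Weyl element. -/
noncomputable def weyl : R.E := R.ρ.symm weylSL

theorem ψ_weyl (v : W) : R.ψ ((R.weyl : H) • v) = ![R.ψ v 1, -R.ψ v 0] := by
  rw [R.equiv, weyl, MulEquiv.apply_symm_apply, weylSL]
  funext i
  fin_cases i <;> simp [Matrix.mulVec, dotProduct]

theorem weyl_torus (l : Fˣ) : R.weyl * R.torus l = (R.torus l)⁻¹ * R.weyl := by
  rw [eq_inv_mul_iff_mul_eq, weyl, torus, ← map_mul, ← map_mul]
  refine congrArg _ (Subtype.ext ?_)
  rw [Matrix.SpecialLinearGroup.coe_mul, Matrix.SpecialLinearGroup.coe_mul]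
  ext i j
  fin_cases i <;> fin_cases j <;> simp [diagSL, weylSL, Matrix.mul_apply, Fin.sum_univ_two]

theorem torus_comm (l m : Fˣ) : R.torus l * R.torus m = R.torus m * R.torus l := by
  rw [torus, torus, ← map_mul, ← map_mul]
  refine congrArg _ (Subtype.ext ?_)
  rw [Matrix.SpecialLinearGroup.coe_mul, Matrix.SpecialLinearGroup.coe_mul]
  ext i j
  fin_cases i <;> fin_cases j <;> simp [diagSL, Matrix.mul_apply, Fin.sum_univ_two, mul_comm]

theorem torus_inv (l : Fˣ) : (R.torus l)⁻¹ = R.torus l⁻¹ := by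
  refine inv_eq_of_mul_eq_one_right ?_
  rw [torus, torus, ← map_mul, ← map_one R.ρ.symm]
  refine congrArg _ (Subtype.ext ?_)
  rw [Matrix.SpecialLinearGroup.coe_mul, Matrix.SpecialLinearGroup.coe_one]
  ext i j
  fin_cases i <;> fin_cases j <;> simp [diagSL, Matrix.mul_apply, Fin.sum_univ_two]

theorem ψ_sub (a : A) (v : W) : R.ψ ((a : H) • v - v) = ![R.coord a * R.ψ v 1, 0] := by
  rw [map_sub, R.ψ_smul]
  funext i
  fin_cases i <;> simp

theorem smul_torus_mem_fix (l : Fˣ) {v : W} (hv : v ∈ fixedSub A) :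
    (R.torus l : H) • v ∈ fixedSub A := by
  rw [R.mem_fix] at hv ⊢
  rw [R.ψ_torus]
  simp [hv]

theorem coord_mul (a b : A) : R.coord (a * b) = R.coord a + R.coord b := by
  obtain ⟨v, hv⟩ := R.surj ![0, 1]
  have e1 := congrFun (R.ψ_smul (a * b) v) 0
  have e2 := congrFun (R.ψ_smul a ((b : H) • v)) 0
  have e3 := R.ψ_smul b v
  rw [Subgroup.coe_mul, mul_smul, e2, e3, hv] at e1
  simpa [add_comm] using e1.symm

theorem coord_conj (l : Fˣ) (a : A) :
    R.coord ⟨(R.torus l : H) * a * (R.torus l : H)⁻¹, R.torus_conj_mem l a.2⟩ =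
      (l : F) ^ 2 * R.coord a := by
  obtain ⟨v, hv⟩ := R.surj ![0, 1]
  have e1 := congrFun (R.ψ_smul ⟨_, R.torus_conj_mem l a.2⟩ v) 0
  have e2 : R.ψ (((R.torus l : H) * a * (R.torus l : H)⁻¹) • v) =
      ![(l : F) * (R.coord a * (l : F)), ((l⁻¹ : Fˣ) : F) * (l : F)] := by
    rw [mul_smul, mul_smul, ← Subgroup.coe_inv, torus_inv, R.ψ_torus, R.ψ_smul, R.ψ_torus, hv]
    simp
  rw [e2, hv] at e1
  simp at e1
  rw [← e1]
  ring

/-- A nontrivial subgroup of the root group that is invariant under the torus is the root group. -/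
theorem le_of_torus_invariant (P : Subgroup H) (hP : ∀ l : Fˣ, ∀ a ∈ A, a ∈ P →
    (R.torus l : H) * a * (R.torus l : H)⁻¹ ∈ P) {a₀ : H} (ha₀ : a₀ ∈ A) (ha₀P : a₀ ∈ P)
    (ha1 : a₀ ≠ 1) : A ≤ P := by
  haveI : Finite F := Nat.finite_of_card_ne_zero (by rw [R.card]; exact Nat.card_pos.ne')
  set r := R.coord ⟨a₀, ha₀⟩ with hr
  have hr0 : r ≠ 0 := fun e => ha1 (congrArg Subtype.val (R.coord_eq_zero.1 e))
  have hsq : ∀ (a : A), (a : H) ∈ P → ∀ c : F, ∀ b : A, R.coord b = c ^ 2 * R.coord a → (b : H) ∈ P := by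
    intro a ha c b hb
    by_cases hc : c = 0
    · rw [hc, zero_pow two_ne_zero, zero_mul, R.coord_eq_zero] at hb
      rw [hb]; exact P.one_mem
    · have := hP (Units.mk0 c hc) a a.2 ha
      have e : b = ⟨_, R.torus_conj_mem (Units.mk0 c hc) a.2⟩ :=
        R.coord_bijective.1 (by rw [hb, R.coord_conj]; rfl)
      rw [e]; exact this
  intro a ha
  have key : ∀ x : F, ∀ b : A, R.coord b = x * r → (b : H) ∈ P := by
    intro x b hb
    by_cases h2 : (2 : F) = 0
    · obtain ⟨c, rfl⟩ := FiniteField.isSquare_of_char_two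
        ((CharP.ringChar_of_prime_eq_zero Nat.prime_two (by exact_mod_cast h2))) x
      exact hsq ⟨a₀, ha₀⟩ ha₀P c b (by rw [hb, sq])
    · obtain ⟨b₁, hb₁⟩ := R.coord_bijective.2 (((x + 1) / 2) ^ 2 * r)
      obtain ⟨b₂, hb₂⟩ := R.coord_bijective.2 (((x - 1) / 2) ^ 2 * r)
      have e : b * b₂ = b₁ := R.coord_bijective.1 (by
        rw [R.coord_mul, hb, hb₁, hb₂]; field_simp; ring)
      rw [eq_mul_inv_of_mul_eq e]
      exact P.mul_mem (hsq ⟨a₀, ha₀⟩ ha₀P _ b₁ hb₁) (P.inv_mem (hsq ⟨a₀, ha₀⟩ ha₀P _ b₂ hb₂))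
  exact key (R.coord ⟨a, ha⟩ / r) ⟨a, ha⟩ (div_mul_cancel₀ _ hr0).symm

end RootPair

namespace Setting

variable (h : Setting p T M W) {A B : Subgroup H}
include h

/-- For root groups of order at least three, commuting distinct minimal offenders: each moves the
module into the fixed points of the `SL₂` of the other. -/
theorem moves_le_fixE (hA : IsMin p A W) (hB : IsMin p B W) (hcard : Nat.card A = Nat.card B)
    (hc : ∀ a ∈ A, ∀ b ∈ B, a * b = b * a) (hne : A ≠ B) (hq : 2 < Nat.card A)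
    {F : Type} [Field F] (R : RootPair A W F) : moves B W ≤ fixedSub R.E := by
  classical
  have hs := h
  haveI : Finite F := Nat.finite_of_card_ne_zero (by rw [R.card]; exact Nat.card_pos.ne')
  haveI := Fintype.ofFinite F
  obtain ⟨l, hl⟩ : ∃ l : Fˣ, (l : F) ≠ 1 := by
    by_contra hn
    push Not at hn
    have hsub : (Finset.univ : Finset F) ⊆ {0, 1} := fun a _ => by
      by_cases h0 : a = 0
      · simp [h0]
      · simp [show a = 1 from hn (Units.mk0 a h0)]
    have := (Finset.card_le_card hsub).trans Finset.card_le_two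
    rw [Finset.card_univ, ← Nat.card_eq_fintype_card, R.card] at this
    omega
  have hl' : ((l⁻¹ : Fˣ) : F) ≠ 1 := by
    rw [Units.val_inv_eq_inv_val]; exact fun e => hl (inv_eq_one.1 e)
  set t : H := (R.torus l : H) with ht
  set Z : AddSubgroup W := fixedSub R.E with hZ
  -- `g = t - 1` and its image
  let g : W →+ W := DistribSMul.toAddMonoidHom W t - AddMonoidHom.id W
  have hg : ∀ v, g v = t • v - v := fun v => rfl
  have hψg : ∀ v, R.ψ (g v) = ![((l : F) - 1) * R.ψ v 0, (((l⁻¹ : Fˣ) : F) - 1) * R.ψ v 1] := fun v => by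
    rw [hg, map_sub, ht, R.ψ_torus]
    funext i
    fin_cases i <;> simp [sub_mul]
  have hgZ : ∀ v ∈ Z, g v = 0 := fun v hv => by rw [hg, hv t (R.torus l).2, sub_self]
  have hZg : ∀ v, g v = 0 → v ∈ Z := fun v hv => by
    rw [hZ, ← R.ker]
    have e := hψg v
    rw [hv, map_zero] at e
    have e0 := congrFun e 0
    have e1 := congrFun e 1
    simp [sub_eq_zero, hl, hl'] at e0 e1
    funext i
    fin_cases i
    · exact e0
    · exact e1
  let V : AddSubgroup W := g.range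
  have hgV : ∀ v, g v ∈ V := fun v => ⟨v, rfl⟩
  have hV0 : ∀ u ∈ V, g u = 0 → u = 0 := by
    rintro _ ⟨v, rfl⟩ hu
    have h1 := (R.ker _).2 (hZg _ hu)
    rw [hψg] at h1
    have e0 := congrFun h1 0
    have e1 := congrFun h1 1
    simp [sub_eq_zero, hl, hl'] at e0 e1
    exact hgZ v ((R.ker v).1 (funext fun i => by fin_cases i <;> assumption))
  -- on a `t`-invariant subgroup of `V` the map `g` is onto
  have hsurj : ∀ (U : AddSubgroup W), U ≤ V → (∀ u ∈ U, g u ∈ U) → ∀ u ∈ U, ∃ u' ∈ U, g u' = u := by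
    intro U hUV hU u hu
    let gU : U → U := fun x => ⟨g x, hU x x.2⟩
    have hgU : Function.Injective gU := fun x y e => by
      have e' : g (x : W) = g y := congrArg Subtype.val e
      exact Subtype.ext (sub_eq_zero.1 (hV0 _ (hUV (sub_mem x.2 y.2)) (by rw [map_sub, e', sub_self])))
    obtain ⟨x, hx⟩ := (Finite.injective_iff_surjective.1 hgU) ⟨u, hu⟩
    exact ⟨x, x.2, congrArg Subtype.val hx⟩
  have hdec : ∀ v, ∃ z ∈ Z, ∃ u ∈ V, z + u = v := fun v => by
    obtain ⟨u, hu, e⟩ := hsurj V le_rfl (fun u _ => hgV u) _ (hgV v)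
    exact ⟨v - u, hZg _ (by rw [map_sub, e, sub_self]), u, hu, sub_add_cancel _ _⟩
  have hZA : Z ≤ fixedSub A := fixedSub_anti R.le
  have hgfix : ∀ v ∈ (fixedSub A : AddSubgroup W), g v ∈ fixedSub A := fun v hv => by
    rw [hg]; exact sub_mem (R.smul_torus_mem_fix l hv) hv
  let L : AddSubgroup W := V ⊓ fixedSub A
  have hgL : ∀ u ∈ L, g u ∈ L := fun u hu => ⟨hgV u, hgfix u hu.2⟩
  have hAB : moves A W ≤ fixedSub B := hs.moves_le_of_comm hA hB hcard hc
  have hBA : moves B W ≤ fixedSub A :=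
    hs.moves_le_of_comm hB hA hcard.symm fun b hb a ha => (hc a ha b hb).symm
  have hLB : L ≤ fixedSub B := by
    intro u hu
    obtain ⟨u', hu', rfl⟩ := hsurj L inf_le_left hgL u hu
    obtain ⟨v, hv⟩ := R.surj ![0, 1]
    obtain ⟨a, ha⟩ := R.coord_bijective.2 (R.ψ u' 0)
    have hd : u' - ((a : H) • v - v) ∈ Z := by
      rw [hZ, ← R.ker, map_sub, R.ψ_sub, hv, ha]
      have h1 := (R.mem_fix u').1 hu'.2
      funext i
      fin_cases i <;> simp [h1]
    have h2 := hgZ _ hd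
    rw [map_sub, sub_eq_zero] at h2
    rw [h2, hg, smul_sub, ← mul_smul]
    have e : t * (a : H) = (t * a * t⁻¹) * t := by rw [inv_mul_cancel_right]
    rw [e, mul_smul]
    exact sub_mem (hAB (sub_mem_moves (R.torus_conj_mem l a.2) _)) (hAB (sub_mem_moves a.2 v))
  -- torus elements preserve `K`
  set K : AddSubgroup W := fixedSub A ⊓ fixedSub B with hK
  obtain ⟨hle, hYdec, htop, -⟩ := hs.inf_fixedSub hA hB hcard hc hne
  rw [← hK] at hle hYdec
  set Y : Subgroup H := seriesStab (H := H) K with hY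
  have htV : ∀ (m : Fˣ), ∀ u ∈ V, (R.torus m : H) • u ∈ V := by
    rintro m _ ⟨v, rfl⟩
    refine ⟨(R.torus m : H) • v, ?_⟩
    rw [hg, hg, smul_sub, ← mul_smul, ← mul_smul, ht,
      show ((R.torus l : H) * (R.torus m : H)) = (R.torus m : H) * (R.torus l : H) from
        congrArg Subtype.val (R.torus_comm l m)]
  have htL : ∀ (m : Fˣ), ∀ u ∈ L, (R.torus m : H) • u ∈ L := fun m u hu =>
    ⟨htV m u hu.1, R.smul_torus_mem_fix m hu.2⟩
  have htK : ∀ (m : Fˣ), ∀ v ∈ K, (R.torus m : H) • v ∈ K := by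
    intro m v hv
    obtain ⟨z, hz, u, hu, rfl⟩ := hdec v
    have hvA : z + u ∈ fixedSub A := hv.1
    have hvB : z + u ∈ fixedSub B := hv.2
    have huL : u ∈ L := ⟨hu, by simpa using sub_mem hvA (hZA hz)⟩
    have hzB : z ∈ fixedSub B := by simpa using sub_mem hvB (hLB huL)
    rw [smul_add, hz _ (R.torus m).2]
    exact ⟨add_mem (hZA hz) (htL m u huL).2, add_mem hzB (hLB (htL m u huL))⟩
  have htinv : ∀ (m : Fˣ), ∀ v ∈ K, (R.torus m : H)⁻¹ • v ∈ K := fun m v hv => by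
    rw [← Subgroup.coe_inv, R.torus_inv]; exact htK m⁻¹ v hv
  have hZHB : ∀ v, ∃ z ∈ Z, ∃ k ∈ fixedSub B, z + k = v := fun v => by
    obtain ⟨x, hx, y, hy, e⟩ := AddSubgroup.mem_sup.1
      (show v ∈ (fixedSub A ⊔ fixedSub B : AddSubgroup W) from htop ▸ AddSubgroup.mem_top v)
    obtain ⟨z, hz, u, hu, e'⟩ := hdec x
    have huL : u ∈ L := ⟨hu, by
      show u ∈ fixedSub A
      rw [show u = x - z by rw [← e']; abel]
      exact sub_mem hx (hZA hz)⟩
    exact ⟨z, hz, u + y, add_mem (hLB huL) hy, by rw [← add_assoc, e', e]⟩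
  -- for each `b` there is `b'` acting as `t⁻¹ ∘ b`
  have hprime : ∀ b ∈ B, ∃ b' ∈ B, ∀ v : W, b' • v - v = t⁻¹ • (b • v - v) := by
    intro b hb
    have hy : t⁻¹ * b * t ∈ Y := by
      have := mem_seriesStab_conj (g := t⁻¹) (hle (Subgroup.mem_sup_right hb)) (htinv l)
        (by rw [inv_inv]; exact htK l)
      rwa [inv_inv] at this
    obtain ⟨a, ha, b', hb', e⟩ := hYdec _ hy
    have key : ∀ z ∈ Z, b' • z - z = t⁻¹ • (b • z - z) := by
      intro z hz
      have h2 : (a * b') • z - z = (a • z - z) + (b' • z - z) :=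
        sub_mul_of_fix (hBA (sub_mem_moves hb' z) a ha)
      rw [hZA hz a ha, sub_self, zero_add, e] at h2
      rw [← h2, smul_sub, mul_smul, mul_smul, hz t (R.torus l).2,
        show t⁻¹ • z = z from hz _ (R.E.inv_mem (R.torus l).2)]
    refine ⟨b', hb', fun v => ?_⟩
    obtain ⟨z, hz, k, hk, rfl⟩ := hZHB v
    rw [smul_add, hk b' hb', smul_add, hk b hb, add_sub_add_right_eq_sub, add_sub_add_right_eq_sub]
    exact key z hz
  -- assume some `b • v - v` is not fixed by `t`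
  by_contra hcon
  obtain ⟨b₁, hb₁, v₁, hD⟩ : ∃ b ∈ B, ∃ v : W, g (b • v - v) ≠ 0 := by
    by_contra hn
    push Not at hn
    exact hcon (moves_le_iff.2 fun b hb v => hZg _ (hn b hb v))
  obtain ⟨b₁', hb₁', e₁⟩ := hprime b₁ hb₁
  set b₀ := b₁' * b₁⁻¹ with hb₀
  have hb₀B : b₀ ∈ B := B.mul_mem hb₁' (B.inv_mem hb₁)
  have hb₀D : ∀ v, b₀ • v - v = g (-(t⁻¹ • (b₁ • v - v))) := fun v => by
    have h1 := hB.sub_mul hb₀B hb₁ v
    rw [hb₀, inv_mul_cancel_right, e₁] at h1
    rw [map_neg, hg, smul_inv_smul, neg_sub, h1]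
    abel
  have hb₀1 : b₀ ≠ 1 := fun e => hD (by
    have h1 := hb₀D v₁
    rw [e, one_smul, sub_self, map_neg, hg, smul_inv_smul, neg_sub, eq_comm, sub_eq_zero] at h1
    rw [hg, sub_eq_zero]
    conv_lhs => rw [← h1]
    rw [smul_inv_smul])
  have hb₀L : ∀ v, b₀ • v - v ∈ L := fun v =>
    ⟨(hb₀D v).symm ▸ hgV _, hBA (sub_mem_moves hb₀B v)⟩
  -- elements of `Y` moving everything into `L`
  let P₀ : Subgroup H :=
    { carrier := {y | y ∈ Y ∧ ∀ v : W, y • v - v ∈ L}
      one_mem' := ⟨Y.one_mem, fun v => by rw [one_smul, sub_self]; exact zero_mem _⟩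
      mul_mem' := fun {x y} hx hy => ⟨Y.mul_mem hx.1 hy.1, fun v => by
        have e : (x * y) • v - v = (x • (y • v) - y • v) + (y • v - v) := by rw [mul_smul]; abel
        rw [e]; exact add_mem (hx.2 _) (hy.2 v)⟩
      inv_mem' := fun {x} hx => ⟨Y.inv_mem hx.1, fun v => by
        have := neg_mem (hx.2 (x⁻¹ • v))
        rwa [smul_inv_smul, neg_sub] at this⟩ }
  by_cases hpure : ∃ a ∈ A, a ≠ 1 ∧ a ∈ P₀
  · obtain ⟨a₀, ha₀, ha₀1, ha₀P⟩ := hpure
    have hAP : A ≤ P₀ := R.le_of_torus_invariant P₀ (fun m a _ haP =>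
      ⟨mem_seriesStab_conj haP.1 (htK m) (htinv m), fun v => by
        rw [conj_sub]; exact htL m _ (haP.2 _)⟩) ha₀ ha₀P ha₀1
    have hlt : A < P₀ := lt_of_le_of_ne hAP fun e => hne (hs.eq_of_mem hA hB
      (e.symm ▸ ⟨hle (Subgroup.mem_sup_right hb₀B), hb₀L⟩) hb₀B hb₀1)
    have h1 : Nat.card P₀ ≤ Nat.card L :=
      h.card_le_image ((h.isQuad_seriesStab K).mono (B := P₀) fun y hy => hy.1) fun y hy v => hy.2 v
    have h2 : Nat.card L ≤ Nat.card A := by
      rw [← R.card]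
      refine Nat.card_le_card_of_injective (fun u => R.ψ (u : W) 0) fun x y e => Subtype.ext ?_
      have hd : R.ψ ((x : W) - y) = 0 := by
        rw [map_sub, sub_eq_zero]
        funext i
        fin_cases i
        · exact e
        · exact ((R.mem_fix _).1 x.2.2).trans ((R.mem_fix _).1 y.2.2).symm
      exact sub_eq_zero.1 (hV0 _ (sub_mem x.2.1 y.2.1) (hgZ _ ((R.ker _).1 hd)))
    have h3 : Nat.card A < Nat.card P₀ := lt_of_le_of_ne (Subgroup.card_le_of_le hAP) fun e =>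
      hlt.ne (Subgroup.eq_of_le_of_card_ge hAP e.ge)
    omega
  -- the torus element normalizes `B`
  · push Not at hpure
    obtain ⟨b', hb', e'⟩ := hprime b₀ hb₀B
    set c := t * b' * t⁻¹ with hcdef
    have hcY : c ∈ Y :=
      mem_seriesStab_conj (hle (Subgroup.mem_sup_right hb')) (htK l) (htinv l)
    have hcD : ∀ v : W, c • v - v = b₀ • (t⁻¹ • v) - t⁻¹ • v := fun v => by
      rw [hcdef, conj_sub, e', smul_inv_smul]
    have hd : c * b₀⁻¹ ∈ P₀ :=
      P₀.mul_mem ⟨hcY, fun v => by rw [hcD]; exact hb₀L _⟩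
        (P₀.inv_mem ⟨hle (Subgroup.mem_sup_right hb₀B), hb₀L⟩)
    have hdfix : ∀ z ∈ Z, (c * b₀⁻¹) • z = z := fun z hz => by
      have h1 := hcD z
      rw [show t⁻¹ • z = z from hz _ (R.E.inv_mem (R.torus l).2), sub_left_inj] at h1
      have h2 := (h.isQuad_seriesStab K).sub_mul hd.1 (hle (Subgroup.mem_sup_right hb₀B)) z
      rw [inv_mul_cancel_right, h1] at h2
      exact sub_eq_zero.1 (by simpa using h2.symm)
    have hdA : c * b₀⁻¹ ∈ A := by
      refine hs.mem_of_series hA.toIsQuad hA.mu_eq (fun v hv => ?_) fun v => (hd.2 v).2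
      obtain ⟨z, hz, u, hu, rfl⟩ := hdec v
      have huL : u ∈ L := ⟨hu, by simpa using sub_mem hv (hZA hz)⟩
      rw [smul_add, hdfix z hz, (mem_seriesStab.1 hd.1).1 u ⟨huL.2, hLB huL⟩]
    have hcb : c = b₀ := mul_inv_eq_one.1 (by
      by_contra h1
      exact hpure _ hdA h1 hd)
    have hconj : MulAut.conj t • B = B := hs.eq_of_mem (hB.smul t) hB
      (hcb ▸ LLemma.conj_mem_conj (a := t) hb') hb₀B hb₀1
    have htB : ∀ v ∈ (fixedSub B : AddSubgroup W), t • v ∈ fixedSub B := fun v hv => by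
      rw [← hconj]; exact mem_fixedSub_smul.2 (by rwa [inv_smul_smul])
    have hVB : V ≤ fixedSub B := by
      intro u hu
      obtain ⟨u', hu', rfl⟩ := hsurj V le_rfl (fun u _ => hgV u) u hu
      obtain ⟨z, hz, k, hk, rfl⟩ := hZHB u'
      rw [map_add, hgZ z hz, zero_add, hg]
      exact sub_mem (htB k hk) hk
    -- the conjugate of `A` under the Weyl element centralizes `B`
    set w : H := (R.weyl : H) with hw
    have hwV : ∀ u ∈ V, w • u ∈ V := by
      rintro _ ⟨v, rfl⟩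
      refine ⟨-(t⁻¹ • (w • v)), ?_⟩
      rw [map_neg, hg, hg, smul_inv_smul, smul_sub, ← mul_smul, ← mul_smul, neg_sub, ht, hw,
        show (R.weyl : H) * (R.torus l : H) = (R.torus l : H)⁻¹ * (R.weyl : H) from
          congrArg Subtype.val (R.weyl_torus l)]
    have hA'B : moves (MulAut.conj w • A) W ≤ fixedSub B := moves_le_iff.2 fun a' ha' v => by
      obtain ⟨a, ha, rfl⟩ := (Subgroup.mem_smul_pointwise_iff_exists _ _ _).1 ha'
      show (w * a * w⁻¹) • v - v ∈ _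
      rw [conj_sub]
      obtain ⟨z, hz, u, hu, e⟩ := hdec (a • (w⁻¹ • v) - w⁻¹ • v)
      rw [← e, smul_add, hz w R.weyl.2]
      refine add_mem ?_ (hVB (hwV u hu))
      rw [show z = (a • (w⁻¹ • v) - w⁻¹ • v) - u by rw [← e]; abel]
      exact sub_mem (hAB (sub_mem_moves ha _)) (hVB hu)
    have hcomm := hs.comm_of_moves_le hB (hA.smul w) (by rw [card_smul_subgroup, hcard]) hA'B
    refine hD (hgZ _ ?_)
    set D := b₁ • v₁ - v₁
    have hDA : D ∈ fixedSub A := hBA (sub_mem_moves hb₁ v₁)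
    obtain ⟨z, hz, k, hk, e⟩ := hdec v₁
    have hDz : D = b₁ • z - z := by
      show b₁ • v₁ - v₁ = _
      rw [← e, smul_add, hVB hk b₁ hb₁, add_sub_add_right_eq_sub]
    have hDA' : D ∈ fixedSub (MulAut.conj w • A) := by
      have hz' : z ∈ fixedSub (MulAut.conj w • A) := mem_fixedSub_smul.2 (by
        rw [show w⁻¹ • z = z from hz _ (R.E.inv_mem R.weyl.2)]; exact hZA hz)
      rw [hDz]
      exact sub_mem (smul_mem_fixedSub_of_comm (fun a ha => (hcomm b₁ hb₁ a ha).symm) hz') hz'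
    rw [mem_fixedSub_smul, R.mem_fix] at hDA'
    rw [hZ, ← R.ker]
    have e1 := R.ψ_weyl (w⁻¹ • D)
    rw [← hw, smul_inv_smul, hDA'] at e1
    funext i
    fin_cases i
    · exact congrFun e1 0
    · exact (R.mem_fix D).1 hDA

/-- Two minimal offenders of the same order in a common `p`-subgroup commute. -/
theorem commute_of_le_pgroup {P : Subgroup H} (hP : IsPGroup p P) (hA : IsMin p A W)
    (hB : IsMin p B W) (hcard : Nat.card A = Nat.card B) (hAP : A ≤ P) (hBP : B ≤ P) :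
    ∀ a ∈ A, ∀ b ∈ B, a * b = b * a := by
  classical
  have hs := h
  by_contra hcon
  set 𝒮 : Set (Subgroup H) := {X | IsMin p X W ∧ X ≤ P ∧ Nat.card X = Nat.card A} with h𝒮
  let Comm : Subgroup H → Subgroup H → Prop := fun X Y => ∀ x ∈ X, ∀ y ∈ Y, x * y = y * x
  obtain ⟨𝒜, ⟨h𝒜S, h𝒜c⟩, hmax⟩ := Set.Finite.exists_maximal
    (s := {𝒜 : Set (Subgroup H) | 𝒜 ⊆ 𝒮 ∧ ∀ X ∈ 𝒜, ∀ Y ∈ 𝒜, Comm X Y}) (Set.toFinite _)
    ⟨∅, Set.empty_subset _, fun X hX => hX.elim⟩
  have hself : ∀ X ∈ 𝒮, Comm X X := fun X hX x hx y hy => h.commute_of_quad hX.1.toIsQuad hx hy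
  set U : Subgroup H := sSup 𝒜 with hU
  have hmemU : ∀ X ∈ 𝒮, X ≤ U → X ∈ 𝒜 := by
    intro X hX hXU
    have hXc : ∀ Y ∈ 𝒜, Comm X Y := fun Y hY x hx y hy => by
      have hUY : U ≤ Subgroup.centralizer (Y : Set H) := sSup_le fun Z hZ z hz =>
        Subgroup.mem_centralizer_iff.2 fun y hy => (h𝒜c Z hZ Y hY z hz y hy).symm
      exact (Subgroup.mem_centralizer_iff.1 (hUY (hXU hx)) y hy).symm
    have h1 : insert X 𝒜 ∈ {𝒜 : Set (Subgroup H) | 𝒜 ⊆ 𝒮 ∧ ∀ X ∈ 𝒜, ∀ Y ∈ 𝒜, Comm X Y} := by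
      refine ⟨Set.insert_subset hX h𝒜S, fun Y hY Z hZ => ?_⟩
      rcases hY with rfl | hY <;> rcases hZ with rfl | hZ
      · exact hself _ hX
      · exact hXc Z hZ
      · exact fun y hy x hx => (hXc Y hY x hx y hy).symm
      · exact h𝒜c Y hY Z hZ
    exact hmax h1 (Set.subset_insert _ _) (Set.mem_insert _ _)
  have hUP : U ≤ P := sSup_le fun X hX => (h𝒜S hX).2.1
  have hconj : ∀ g ∈ P, ∀ X ∈ 𝒮, MulAut.conj g • X ∈ 𝒮 := fun g hg X hX =>
    ⟨hX.1.smul g, (Subgroup.pointwise_smul_le_pointwise_smul_iff.2 hX.2.1).trans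
      (LLemma.conj_eq_of_mem_normalizer (Subgroup.le_normalizer hg)).le,
      (card_smul_subgroup X g).trans hX.2.2⟩
  -- a member outside `𝒜` normalizing `U`
  obtain ⟨C, hCS, hCA, hCU⟩ :
      ∃ C ∈ 𝒮, C ∉ 𝒜 ∧ C ≤ Subgroup.normalizer (U : Set H) := by
    by_cases hnorm : P ≤ Subgroup.normalizer (U : Set H)
    · by_cases hA' : A ∈ 𝒜
      · by_cases hB' : B ∈ 𝒜
        · exact absurd (h𝒜c A hA' B hB') hcon
        · exact ⟨B, ⟨hB, hBP, hcard.symm⟩, hB', hBP.trans hnorm⟩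
      · exact ⟨A, ⟨hA, hAP, rfl⟩, hA', hAP.trans hnorm⟩
    · set N := P ⊓ Subgroup.normalizer (U : Set H) with hN
      haveI : Group.IsNilpotent P := hP.isNilpotent
      have hne : N.subgroupOf P < ⊤ := lt_top_iff_ne_top.2 fun e =>
        hnorm ((Subgroup.subgroupOf_eq_top.1 e).trans inf_le_right)
      obtain ⟨g, hg1, hg2⟩ := SetLike.exists_of_lt (Group.normalizerCondition_of_isNilpotent _ hne)
      have hgN : (g : H) ∉ Subgroup.normalizer (U : Set H) := fun e =>
        hg2 (Subgroup.mem_subgroupOf.2 ⟨g.2, e⟩)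
      obtain ⟨X, hX, hXg⟩ : ∃ X ∈ 𝒜, ¬ MulAut.conj (g : H) • X ≤ U := by
        by_contra hn
        push Not at hn
        refine hgN (LLemma.mem_normalizer_of_conj_le ?_)
        rw [Subgroup.pointwise_smul_subset_iff]
        exact sSup_le fun X hX => Subgroup.pointwise_smul_subset_iff.1 (hn X hX)
      refine ⟨_, hconj g g.2 X (h𝒜S hX), fun e => hXg (le_sSup e), ?_⟩
      rintro _ hy
      obtain ⟨x, hx, rfl⟩ := (Subgroup.mem_smul_pointwise_iff_exists _ _ _).1 hy
      have hxN : (⟨x, (h𝒜S hX).2.1 hx⟩ : P) ∈ N.subgroupOf P :=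
        Subgroup.mem_subgroupOf.2 ⟨(h𝒜S hX).2.1 hx, Subgroup.le_normalizer (le_sSup hX hx)⟩
      exact (Subgroup.mem_subgroupOf.1 ((Subgroup.mem_normalizer_iff.1 hg1 _).1 hxN)).2
  have hCmove : ∀ b ∈ C, ∀ X ∈ 𝒜, MulAut.conj b • X ∈ 𝒜 := fun b hb X hX =>
    hmemU _ (hconj b (hCS.2.1 hb) X (h𝒜S hX))
      ((Subgroup.pointwise_smul_le_pointwise_smul_iff.2 (le_sSup hX)).trans
        (LLemma.conj_eq_of_mem_normalizer (hCU hb)).le)
  obtain ⟨A₀, hA₀, hA₀C⟩ : ∃ A₀ ∈ 𝒜, ¬ Comm A₀ C := by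
    by_contra hn
    push Not at hn
    exact hCA (hmax ⟨Set.insert_subset hCS h𝒜S, fun Y hY Z hZ => by
      rcases hY with rfl | hY <;> rcases hZ with rfl | hZ
      · exact hself _ hCS
      · exact fun y hy z hz => (hn Z hZ z hz y hy).symm
      · exact hn Y hY
      · exact h𝒜c Y hY Z hZ⟩ (Set.subset_insert _ _) (Set.mem_insert _ _))
  obtain ⟨hA₀S, -⟩ := And.intro (h𝒜S hA₀) trivial
  have hcC : Nat.card A₀ = Nat.card C := hA₀S.2.2.trans hCS.2.2.symm
  obtain ⟨b, hb, hbA⟩ : ∃ b ∈ C, MulAut.conj b • A₀ ≠ A₀ := by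
    by_contra hn
    push Not at hn
    exact hA₀C (hs.commute_of_normalizes hA₀S.1 hCS.1 hcC fun b hb a ha => by
      have := LLemma.conj_mem_conj (a := b) ha
      rwa [hn b hb] at this)
  have hA₁ := hCmove b hb A₀ hA₀
  have hA₁c : Nat.card A₀ = Nat.card ↥(MulAut.conj b • A₀) := (card_smul_subgroup A₀ b).symm
  have h01 : Comm A₀ (MulAut.conj b • A₀) := h𝒜c _ hA₀ _ hA₁
  obtain ⟨hle, hdec, htop, hindex⟩ := hs.inf_fixedSub hA₀S.1 (hA₀S.1.smul b) hA₁c h01 hbA.symm
  rcases (Fact.out : p.Prime).eq_two_or_odd with hp2 | hodd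
  · -- `p = 2`
    subst hp2
    set K : AddSubgroup W := fixedSub A₀ ⊓ fixedSub (MulAut.conj b • A₀) with hK
    have hKC : K ≤ fixedSub C := by
      have h1 : (fixedSub C ⊓ fixedSub A₀ : AddSubgroup W) ≤ K := fun v hv =>
        ⟨hv.2, mem_fixedSub_smul.2 (by
          rw [show b⁻¹ • v = v from hv.1 _ (C.inv_mem hb)]; exact hv.2)⟩
      have h2 : (fixedSub C ⊓ fixedSub A₀ : AddSubgroup W) = K := by
        refine AddSubgroup.eq_of_le_of_card_ge h1 ?_
        have h3 := card_sup_mul (fixedSub C : AddSubgroup W) (fixedSub A₀)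
        have h4 : Nat.card ↥(fixedSub C ⊔ fixedSub A₀ : AddSubgroup W) ≤ Nat.card W :=
          Nat.card_le_card_of_injective _ Subtype.val_injective
        have e1 := hs.card_eq hA₀S.1
        have e2 := hs.card_eq hCS.1
        rw [← hcC] at e2
        refine Nat.le_of_mul_le_mul_left ?_
          (Nat.mul_pos (Nat.card_pos (α := W)) (Nat.mul_pos (Nat.card_pos (α := A₀)) (Nat.card_pos (α := A₀))))
        calc Nat.card W * (Nat.card A₀ * Nat.card A₀) * Nat.card K
            = Nat.card W * (Nat.card A₀ * Nat.card A₀ * Nat.card K) := by ring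
          _ = (Nat.card A₀ * Nat.card (fixedSub C : AddSubgroup W)) *
              (Nat.card A₀ * Nat.card (fixedSub A₀ : AddSubgroup W)) := by rw [hindex, e1, e2]
          _ = Nat.card A₀ * Nat.card A₀ * (Nat.card ↥(fixedSub C ⊔ fixedSub A₀ : AddSubgroup W) *
              Nat.card ↥(fixedSub C ⊓ fixedSub A₀ : AddSubgroup W)) := by rw [h3]; ring
          _ ≤ Nat.card A₀ * Nat.card A₀ * (Nat.card W *
              Nat.card ↥(fixedSub C ⊓ fixedSub A₀ : AddSubgroup W)) :=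
            Nat.mul_le_mul_left _ (Nat.mul_le_mul_right _ h4)
          _ = _ := by ring
      exact h2 ▸ inf_le_left
    let f : A₀ → C := fun a => ⟨(a : H) * (b * a * b⁻¹), by
      have haY := mem_seriesStab.1 (hle (Subgroup.mem_sup_left a.2))
      have ha'Y := mem_seriesStab.1 (hle (Subgroup.mem_sup_right (LLemma.conj_mem_conj (a := b) a.2)))
      refine hs.mem_of_series hCS.1.toIsQuad hCS.1.mu_eq (fun v hv => ?_) fun v => ?_
      · have h1 := sub_mul_of_fix (haY.1 _ (ha'Y.2 v))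
        rw [conj_sub, show b⁻¹ • v = v from hv _ (C.inv_mem hb), hKC (haY.2 v) b hb, ← two_nsmul,
          h.exponent, sub_eq_zero] at h1
        exact h1
      · rw [sub_mul_of_fix (haY.1 _ (ha'Y.2 v))]
        exact hKC (add_mem (haY.2 v) (ha'Y.2 v))⟩
    have hinj : Function.Injective f := fun a c e => by
      have e' : (a : H) * (b * a * b⁻¹) = c * (b * c * b⁻¹) := congrArg Subtype.val e
      have h1 : (c : H)⁻¹ * a = (b * c * b⁻¹) * (b * a * b⁻¹)⁻¹ := by
        rw [inv_mul_eq_iff_eq_mul, ← mul_assoc, ← e', mul_inv_cancel_right]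
      refine Subtype.ext (inv_mul_eq_one.1 ?_).symm
      by_contra h2
      exact hbA (hs.eq_of_mem hA₀S.1 (hA₀S.1.smul b) (A₀.mul_mem (A₀.inv_mem c.2) a.2)
        (h1 ▸ Subgroup.mul_mem _ (LLemma.conj_mem_conj c.2)
          (Subgroup.inv_mem _ (LLemma.conj_mem_conj a.2))) h2).symm
    obtain ⟨a, ha⟩ := ((Nat.bijective_iff_injective_and_card f).2 ⟨hinj, hcC⟩).2 ⟨b, hb⟩
    refine hbA (LLemma.conj_eq_of_mem_normalizer ?_)
    rw [← show (a : H) * (b * a * b⁻¹) = b from congrArg Subtype.val ha]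
    refine (Subgroup.normalizer (A₀ : Set H)).mul_mem (Subgroup.le_normalizer a.2)
      (Subgroup.mem_normalizer_iff.2 fun x => ?_)
    have ha' : b * a * b⁻¹ ∈ MulAut.conj b • A₀ := LLemma.conj_mem_conj a.2
    constructor
    · intro hx
      rwa [← h01 x hx _ ha', mul_inv_cancel_right]
    · intro hx
      have h2 := h01 _ hx _ ha'
      rw [inv_mul_cancel_right, mul_right_inj] at h2
      rwa [h2]
  · -- `p` odd
    have hbp : b ^ p = 1 := h.pow_eq_of_quad hCS.1.toIsQuad hb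
    have hb2A : MulAut.conj (b * b) • A₀ ≠ A₀ := fun e => by
      refine hbA (LLemma.conj_eq_of_mem_normalizer ?_)
      have h2 : b * b ∈ Subgroup.normalizer (A₀ : Set H) := LLemma.mem_normalizer_of_conj_le e.le
      have he : b = (b * b) ^ ((p + 1) / 2) := by
        rw [← sq, ← pow_mul, show 2 * ((p + 1) / 2) = p + 1 by omega, pow_succ, hbp, one_mul]
      rw [he]
      exact Subgroup.pow_mem _ h2 _
    have hA₂ : MulAut.conj (b * b) • A₀ ∈ 𝒜 := hCmove _ (C.mul_mem hb hb) A₀ hA₀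
    have h12 : MulAut.conj b • A₀ ≠ MulAut.conj (b * b) • A₀ := fun e => hbA (by
      have := congrArg (fun X : Subgroup H => MulAut.conj b⁻¹ • X) e
      simp only [LLemma.conj_conj, inv_mul_cancel, map_one, one_smul, ← mul_assoc, one_mul] at this
      exact this.symm)
    have hsub : (fixedSub (MulAut.conj b • A₀) ⊓ fixedSub (MulAut.conj (b * b) • A₀) :
        AddSubgroup W) ≤ fixedSub A₀ := by
      rintro v ⟨hv1, hv2⟩
      have e1 : b⁻¹ • v ∈ fixedSub A₀ := mem_fixedSub_smul.1 hv1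
      have e2 : (b * b)⁻¹ • v ∈ fixedSub A₀ := mem_fixedSub_smul.1 hv2
      have hq := hCS.1.quad _ (C.inv_mem hb) v _ (C.inv_mem hb)
      rw [smul_sub, ← mul_smul, ← _root_.mul_inv_rev, sub_eq_sub_iff_add_eq_add] at hq
      rw [show v = (b⁻¹ • v + b⁻¹ • v) - (b * b)⁻¹ • v by rw [← hq]; abel]
      exact sub_mem (add_mem e1 e1) e2
    have h10 : Comm (MulAut.conj b • A₀) A₀ := h𝒜c _ hA₁ _ hA₀
    have h20 : Comm (MulAut.conj (b * b) • A₀) A₀ := h𝒜c _ hA₂ _ hA₀
    have hcc : Nat.card ↥(MulAut.conj b • A₀) = Nat.card ↥(MulAut.conj (b * b) • A₀) := by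
      rw [card_smul_subgroup, card_smul_subgroup]
    have hc20 : Comm A₀ (MulAut.conj (b * b) • A₀) := h𝒜c _ hA₀ _ hA₂
    obtain ⟨-, hdec12, -, -⟩ :=
      hs.inf_fixedSub (hA₀S.1.smul b) (hA₀S.1.smul (b * b)) hcc (h𝒜c _ hA₁ _ hA₂) h12
    obtain ⟨F, hF, hF', ⟨R⟩⟩ := exists_rootPair hs (hA₀S.1.smul b)
    have hq : 2 < Nat.card ↥(MulAut.conj b • A₀) := by
      rw [card_smul_subgroup]
      obtain ⟨n, hn⟩ := hA₀S.1.isPGroup.exists_card_eq
      have hn0 : n ≠ 0 := fun e => hA₀S.1.ne_bot (Subgroup.card_eq_one.1 (by simpa [e] using hn))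
      have h5 : p ∣ Nat.card A₀ := hn ▸ dvd_pow_self p hn0
      have := Nat.le_of_dvd Nat.card_pos h5
      have := (Fact.out : p.Prime).two_le
      omega
    have hZ0 : moves A₀ W ≤ fixedSub R.E :=
      h.moves_le_fixE (hA₀S.1.smul b) hA₀S.1 hA₁c.symm h10 hbA hq R
    have hZ2 : moves (MulAut.conj (b * b) • A₀) W ≤ fixedSub R.E :=
      h.moves_le_fixE (hA₀S.1.smul b) (hA₀S.1.smul (b * b)) hcc (h𝒜c _ hA₁ _ hA₂) h12 hq R
    obtain ⟨a₀, ha₀, ha₀1⟩ : ∃ a ∈ A₀, a ≠ 1 := by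
      by_contra hn
      push Not at hn
      exact hA₀S.1.ne_bot ((Subgroup.eq_bot_iff_forall _).2 hn)
    obtain ⟨x, hx, y, hy, e⟩ := hdec12 a₀ (mem_seriesStab.2 ⟨fun v hv => hsub hv a₀ ha₀, fun v =>
      ⟨hs.moves_le_of_comm hA₀S.1 (hA₀S.1.smul b) hA₁c h01 (sub_mem_moves ha₀ v),
        hs.moves_le_of_comm hA₀S.1 (hA₀S.1.smul (b * b)) (card_smul_subgroup A₀ _).symm hc20
          (sub_mem_moves ha₀ v)⟩⟩)
    have hx1 : x ≠ 1 := fun e1 => by
      rw [e1, one_mul] at e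
      exact hb2A (hs.eq_of_mem (hA₀S.1.smul (b * b)) hA₀S.1 hy (e ▸ ha₀) (e ▸ ha₀1))
    obtain ⟨v, hv⟩ := R.surj ![0, 1]
    have hxy : (x * y) • v - v = (x • v - v) + (y • v - v) :=
      sub_mul_of_fix (hs.moves_le_of_comm (hA₀S.1.smul (b * b)) (hA₀S.1.smul b) hcc.symm
        (h𝒜c _ hA₂ _ hA₁) (sub_mem_moves hy v) x hx)
    have hxZ : x • v - v ∈ fixedSub R.E := by
      have h1 : x • v - v = (a₀ • v - v) - (y • v - v) := by rw [← e, hxy]; abel
      rw [h1]
      exact sub_mem (hZ0 (sub_mem_moves ha₀ v)) (hZ2 (sub_mem_moves hy v))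
    rw [← R.ker, show x = ((⟨x, hx⟩ : ↥(MulAut.conj b • A₀)) : H) from rfl, R.ψ_sub, hv] at hxZ
    exact hx1 (congrArg Subtype.val (R.coord_eq_zero.1 (by simpa using congrFun hxZ 0)))

end Setting

end CfsgLib.FFModules.MinimalParabolic
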