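import Cfsg.Agent.Lib.FieldAut.Span

/-!
Functional equations over finite fields used for the uniqueness of the `SL₂` through a root group.
-/

set_option autoImplicit false
set_option linter.style.haveILetI false
set_option linter.unusedSectionVars false

namespace CfsgLib.FFModules.MinimalParabolic

section

variable {F : Type*} [Field F] [Finite F]

/-- An additive map with `l * f x = f (x / l) + c x` is linear, or the field has four elements. -/
theorem equivariant_shift (hF : 2 < Nat.card F) (f : F →+ F)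
    (h : ∀ l : F, l ≠ 0 → ∃ c : F, ∀ x, l * f x = f (l⁻¹ * x) + c * x) :
    (∃ c : F, ∀ x, f x = c * x) ∨
      (Nat.card F = 4 ∧ ∃ c k : F, k ≠ 0 ∧ ∀ x, f x = c * x + k * x ^ 2) := by
  classical
  haveI := Fintype.ofFinite F
  rw [Nat.card_eq_fintype_card] at hF ⊢
  set g : F → F := fun x => f x - f 1 * x with hg
  have hg1 : g 1 = 0 := by simp [hg]
  have key : ∀ x y : F, x ≠ 0 → y ≠ 0 → g x * (y⁻¹ - y) = g y * (x⁻¹ - x) := by
    have one : ∀ x m : F, m ≠ 0 → g (m * x) = g x * m⁻¹ + x * g m := by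
      intro x m hm
      obtain ⟨c, hc⟩ := h m⁻¹ (inv_ne_zero hm)
      have h1 := hc 1
      have h2 := hc x
      simp only [inv_inv, mul_one] at h1 h2
      simp only [hg]
      linear_combination (-1 : F) * h2 + x * h1
    intro x y hx hy
    have h1 := one x y hy
    have h2 := one y x hx
    rw [mul_comm] at h1
    linear_combination -h1 + h2
  by_cases hall : ∀ x : F, g x = 0
  · exact Or.inl ⟨f 1, fun x => sub_eq_zero.1 (hall x)⟩
  push Not at hall
  obtain ⟨x₀, hx₀⟩ := hall
  have hx00 : x₀ ≠ 0 := fun e => hx₀ (by simp [hg, e])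
  by_cases hsq : ∀ y : F, y ≠ 0 → y⁻¹ - y = 0
  · -- three elements
    refine Or.inl ⟨f 1, fun x => ?_⟩
    by_cases hx : x = 0
    · simp [hx]
    have h1 : x * x = 1 := by
      have := hsq x hx
      rw [sub_eq_zero] at this
      nth_rewrite 1 [← this]
      exact inv_mul_cancel₀ hx
    rcases mul_self_eq_one_iff.1 h1 with rfl | rfl <;> simp
  push Not at hsq
  obtain ⟨y₀, hy₀, hy₀'⟩ := hsq
  set k := g y₀ / (y₀⁻¹ - y₀) with hk
  have hform : ∀ x : F, x ≠ 0 → g x = k * (x⁻¹ - x) := fun x hx => by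
    rw [hk, div_mul_eq_mul_div, ← key x y₀ hx hy₀, mul_div_assoc, div_self hy₀', mul_one]
  have hk0 : k ≠ 0 := fun e => hx₀ (by rw [hform x₀ hx00, e, zero_mul])
  have hquad : ∀ x : F, x ≠ 0 → x + 1 ≠ 0 → x * x + x + 1 = 0 := by
    intro x hx hx1
    have h1 : g (x + 1) = g x + g 1 := by simp [hg]; ring
    rw [hform _ hx1, hform _ hx, hg1, add_zero] at h1
    have h2 := mul_left_cancel₀ hk0 h1
    field_simp at h2
    linear_combination -h2
  have hsmall : (Finset.univ : Finset F) ⊆
      {0, -1} ∪ ((Polynomial.X ^ 2 + Polynomial.X + 1 : Polynomial F).roots.toFinset) := by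
    intro x _
    by_cases hx : x = 0
    · simp [hx]
    by_cases hx1 : x + 1 = 0
    · simp [eq_neg_of_add_eq_zero_left hx1]
    refine Finset.mem_union_right _ (Multiset.mem_toFinset.2 ?_)
    refine (Polynomial.mem_roots ?_).2 ?_
    · intro e
      have := congrArg (fun P : Polynomial F => P.eval 0) e
      simp at this
    · simp only [Polynomial.IsRoot, Polynomial.eval_add, Polynomial.eval_pow, Polynomial.eval_X,
        Polynomial.eval_one]
      linear_combination hquad x hx hx1
  have hle4 : Fintype.card F ≤ 4 := by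
    have h1 := (Finset.card_le_card hsmall).trans (Finset.card_union_le _ _)
    have h2 : ((Polynomial.X ^ 2 + Polynomial.X + 1 : Polynomial F).roots.toFinset).card ≤ 2 := by
      refine (Multiset.toFinset_card_le _).trans ((Polynomial.card_roots' _).trans ?_)
      compute_degree
    have h3 : ({0, -1} : Finset F).card ≤ 2 := Finset.card_le_two
    rw [Finset.card_univ] at h1
    omega
  have h4 : Fintype.card F = 4 := by
    rcases (show Fintype.card F = 3 ∨ Fintype.card F = 4 by omega) with e | e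
    · exfalso
      refine hy₀' (sub_eq_zero.2 (inv_eq_of_mul_eq_one_left ?_))
      have := FiniteField.pow_card_sub_one_eq_one y₀ hy₀
      rw [e] at this
      rw [← sq]
      exact this
    · exact e
  refine Or.inr ⟨h4, f 1 - k, k, hk0, fun x => ?_⟩
  by_cases hx : x = 0
  · simp [hx]
  have h5 := hform x hx
  have h6 := FiniteField.pow_card_sub_one_eq_one x hx
  rw [h4] at h6
  have h7 : x⁻¹ = x ^ 2 := inv_eq_of_mul_eq_one_left (by rw [← h6]; ring)
  simp only [hg, h7] at h5
  linear_combination h5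

end

section CharTwo

variable {F : Type*} [Field F] [Fintype F] [CharP F 2]

/-- The Frobenius automorphism. -/
noncomputable def frobTwo : F ≃+* F :=
  RingEquiv.ofBijective (frobenius F 2)
    ((Finite.injective_iff_bijective).1 (frobenius F 2).injective)

theorem frobTwo_apply (x : F) : frobTwo x = x ^ 2 := rfl

theorem exists_coef [Fintype (F ≃+* F)] (f : F →+ F) :
    ∃ c : (F ≃+* F) → F, ∀ x, f x = ∑ σ, c σ * σ x := by
  classical
  obtain ⟨s, c, hc⟩ := FieldAut.exists_sum_addHom f
  refine ⟨fun σ => if σ ∈ s then c σ else 0, fun x => ?_⟩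
  simp only [hc, ite_mul, zero_mul, Finset.sum_ite_mem, Finset.univ_inter]

omit [Fintype F] [CharP F 2] in
theorem linearIndependent_pairs :
    LinearIndependent F (fun q : (F ≃+* F) × (F ≃+* F) => (fun z : F × F => q.1 z.1 * q.2 z.2)) := by
  refine (linearIndependent_monoidHom (F × F) F).comp
    (fun q : (F ≃+* F) × (F ≃+* F) =>
      ((q.1 : F →* F).comp (MonoidHom.fst F F) * (q.2 : F →* F).comp (MonoidHom.snd F F) :
        F × F →* F)) fun q q' e => ?_
  refine Prod.ext (RingEquiv.ext fun x => ?_) (RingEquiv.ext fun x => ?_)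
  · have := DFunLike.congr_fun e (x, 1)
    simpa using this
  · have := DFunLike.congr_fun e (1, x)
    simpa using this

omit [Fintype F] [CharP F 2] in
/-- Comparing coefficients in an identity of products of automorphisms. -/
theorem coef_zero [Fintype (F ≃+* F)] [DecidableEq (F ≃+* F)] {ι : Type*} [Fintype ι]
    (key : ι → (F ≃+* F) × (F ≃+* F)) (c : ι → F)
    (h : ∀ r x : F, ∑ i, c i * ((key i).1 r * (key i).2 x) = 0) (P : (F ≃+* F) × (F ≃+* F)) :
    ∑ i ∈ Finset.univ.filter (fun i => key i = P), c i = 0 := by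
  have hli : LinearIndependent F
      (fun q : (F ≃+* F) × (F ≃+* F) => (fun z : F × F => q.1 z.1 * q.2 z.2)) :=
    linearIndependent_pairs (F := F)
  have h0 := Fintype.linearIndependent_iff.1 hli
    (fun P => ∑ i ∈ Finset.univ.filter (fun i => key i = P), c i)
  refine h0 ?_ P
  funext ⟨r, x⟩
  simp only [Finset.sum_apply, Pi.smul_apply, smul_eq_mul, Pi.zero_apply]
  rw [← h r x, ← Finset.sum_fiberwise Finset.univ key]
  refine Finset.sum_congr rfl fun P _ => ?_
  rw [Finset.sum_mul]
  exact Finset.sum_congr rfl fun i hi => by rw [(Finset.mem_filter.1 hi).2]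

/-- In a field with four elements two distinct automorphisms differ by the Frobenius map. -/
theorem eq_frob_of_ne (h4 : Fintype.card F = 4) {σ τ : F ≃+* F} (h : σ ≠ τ) (x : F) :
    τ x = σ x ^ 2 := by
  have hroot : ∀ y : F, y ≠ 0 → y ≠ 1 → y ^ 2 + y + 1 = 0 := fun y h0 h1 => by
    have e := FiniteField.pow_card_sub_one_eq_one y h0
    rw [h4] at e
    have : (y - 1) * (y ^ 2 + y + 1) = 0 := by linear_combination e
    exact (mul_eq_zero.1 this).resolve_left (sub_ne_zero.2 h1)
  have hpair : ∀ y z : F, y ≠ 0 → y ≠ 1 → z ≠ 0 → z ≠ 1 → z = y ∨ z = y ^ 2 := fun y z a b c d => by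
    have e := FiniteField.pow_card_sub_one_eq_one y a
    rw [h4] at e
    have : (z - y) * (z - y ^ 2) = 0 := by
      linear_combination hroot z c d - z * hroot y a b + e
    simpa [sub_eq_zero] using mul_eq_zero.1 this
  have hne : ∀ ρ : F ≃+* F, ∀ y : F, y ≠ 0 → y ≠ 1 → ρ y ≠ 0 ∧ ρ y ≠ 1 := fun ρ y a b =>
    ⟨fun e => a (ρ.injective (by rw [e, map_zero])), fun e => b (ρ.injective (by rw [e, map_one]))⟩
  by_cases hx0 : x = 0
  · simp [hx0]
  by_cases hx1 : x = 1
  · simp [hx1]
  refine (hpair (σ x) (τ x) (hne σ x hx0 hx1).1 (hne σ x hx0 hx1).2 (hne τ x hx0 hx1).1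
    (hne τ x hx0 hx1).2).resolve_left fun e => h (RingEquiv.ext fun y => ?_)
  by_cases hy0 : y = 0
  · simp [hy0]
  by_cases hy1 : y = 1
  · simp [hy1]
  rcases hpair x y hx0 hx1 hy0 hy1 with rfl | rfl
  · exact e.symm
  · rw [map_pow, map_pow, e]

/-- The two functional equations coming from two `SL₂`s through one root group: the mixed part
vanishes, or the field has four elements and the pure part vanishes, or the central part vanishes. -/
theorem mixed_eq_zero (hF : 2 < Fintype.card F) (M₁ M₂ γ β m G₁ G₂ : F →+ F)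
    (hγ : Function.Injective γ) (hβ : Function.Injective β)
    (E₁ : ∀ r x, M₁ (r ^ 2 * x) + M₂ (r * x) = γ r ^ 2 * β x)
    (E₂ : ∀ r x, m (γ r * β x) = G₁ (r ^ 2 * x) + G₂ (r * x)) :
    M₂ = 0 ∨ (Fintype.card F = 4 ∧ M₁ = 0) ∨ m = 0 := by
  classical
  haveI : Finite (F ≃+* F) := Finite.of_injective (fun σ => (σ : F → F)) DFunLike.coe_injective
  haveI := Fintype.ofFinite (F ≃+* F)
  obtain ⟨a, ha⟩ := exists_coef M₁
  obtain ⟨b, hb⟩ := exists_coef M₂
  obtain ⟨g, hg⟩ := exists_coef γ
  obtain ⟨e, he⟩ := exists_coef β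
  set φ : F ≃+* F := frobTwo with hφ
  have hφx : ∀ (σ : F ≃+* F) (x : F), (φ.trans σ) x = σ x ^ 2 := fun σ x => by
    rw [RingEquiv.trans_apply, hφ, frobTwo_apply, map_pow]
  have hne : ∀ σ : F ≃+* F, φ.trans σ ≠ σ := fun σ h => by
    have hsub : (Finset.univ : Finset F) ⊆ {0, 1} := fun x _ => by
      have := RingEquiv.congr_fun h x
      rw [RingEquiv.trans_apply, σ.injective.eq_iff, hφ, frobTwo_apply] at this
      have h' : x * (x - 1) = 0 := by linear_combination this
      simpa [sub_eq_zero] using mul_eq_zero.1 h'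
    have := (Finset.card_le_card hsub).trans Finset.card_le_two
    rw [Finset.card_univ] at this
    omega
  have hinj : Function.Injective (fun σ : F ≃+* F => φ.trans σ) := fun σ τ h => RingEquiv.ext fun x => by
    have := RingEquiv.congr_fun h (φ.symm x)
    simpa using this
  -- the first equation
  have c1 : ∀ P, (∑ i ∈ Finset.univ.filter
      (fun i : ((F ≃+* F) ⊕ (F ≃+* F)) ⊕ ((F ≃+* F) × (F ≃+* F)) =>
        Sum.elim (Sum.elim (fun σ => (φ.trans σ, σ)) (fun σ => (σ, σ)))
          (fun q => (φ.trans q.1, q.2)) i = P),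
      Sum.elim (Sum.elim a b) (fun q => -(g q.1 ^ 2 * e q.2)) i) = 0 := by
    refine coef_zero _ _ fun r x => ?_
    simp only [Fintype.sum_sum_type, Sum.elim_inl, Sum.elim_inr]
    have h1 := E₁ r x
    rw [ha, hb, hg, he, sum_pow_char 2, Finset.sum_mul_sum, ← Fintype.sum_prod_type'] at h1
    rw [show ∑ q : (F ≃+* F) × (F ≃+* F), -(g q.1 ^ 2 * e q.2) * ((φ.trans q.1) r * q.2 x) =
      -∑ q : (F ≃+* F) × (F ≃+* F), (g q.1 * q.1 r) ^ 2 * (e q.2 * q.2 x) by
        rw [← Finset.sum_neg_distrib]; exact Finset.sum_congr rfl fun q _ => by rw [hφx]; ring]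
    rw [show ∑ σ : F ≃+* F, a σ * ((φ.trans σ) r * σ x) = ∑ σ, a σ * σ (r ^ 2 * x) from
      Finset.sum_congr rfl fun σ _ => by rw [map_mul, map_pow, hφx],
      show ∑ σ : F ≃+* F, b σ * (σ r * σ x) = ∑ σ, b σ * σ (r * x) from
      Finset.sum_congr rfl fun σ _ => by rw [map_mul]]
    linear_combination h1
  have F1 : ∀ τ σ, g τ * e σ ≠ 0 → τ = σ ∨ φ.trans τ = σ := by
    intro τ σ hne'
    by_contra hn
    push Not at hn
    have h1 := c1 (φ.trans τ, σ)
    rw [Finset.sum_eq_single (Sum.inr (τ, σ))] at h1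
    · simp at h1
      rcases h1 with h1 | h1 <;> simp [h1] at hne'
    · intro i hi hni
      rcases i with (s | s) | ⟨s, t⟩ <;> simp [Finset.mem_filter] at hi
      · exact absurd ((hinj hi.1).symm.trans hi.2) hn.1
      · exact absurd (hi.1.symm.trans hi.2) hn.2
      · exact absurd (by rw [hinj hi.1, hi.2]) hni
    · intro hn'
      simp at hn'
  by_cases hM₂ : M₂ = 0
  · exact Or.inl hM₂
  obtain ⟨σ₀, hσ₀⟩ : ∃ σ, b σ ≠ 0 := by
    by_contra hn
    push Not at hn
    exact hM₂ (AddMonoidHom.ext fun x => by simp [hb, hn])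
  set τ₀ := φ.symm.trans σ₀ with hτ₀
  have hτφ : φ.trans τ₀ = σ₀ := RingEquiv.ext fun x => by simp [hτ₀]
  have hge : g τ₀ * e σ₀ ≠ 0 := by
    intro h0
    have h1 := c1 (σ₀, σ₀)
    rw [Finset.sum_eq_single (Sum.inl (Sum.inr σ₀))] at h1
    · exact hσ₀ (by simpa using h1)
    · intro i hi hni
      rcases i with (s | s) | ⟨s, t⟩ <;> simp [Finset.mem_filter] at hi
      · exact absurd (hi.2 ▸ hi.1) (hne σ₀)
      · exact absurd (by rw [hi]) hni
      · rw [← hτφ] at hi
        obtain ⟨h2, h3⟩ := hi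
        rw [hinj h2, h3, hτφ, Sum.elim_inr]
        rcases mul_eq_zero.1 h0 with h4 | h4 <;> simp [h4]
    · intro hn'
      simp at hn'
  obtain ⟨hg₀, he₀⟩ := mul_ne_zero_iff.1 hge
  by_cases h4 : Fintype.card F = 4
  · refine Or.inr (Or.inl ⟨h4, ?_⟩)
    -- injective additive maps have a single coefficient
    have mono : ∀ (f : F →+ F) (c : (F ≃+* F) → F), Function.Injective f →
        (∀ x, f x = ∑ σ, c σ * σ x) → ∀ σ τ, c σ ≠ 0 → c τ ≠ 0 → σ = τ := by
      intro f c hf hc σ τ hσ hτ
      by_contra hst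
      have hall : ∀ ρ, ρ = σ ∨ ρ = τ := fun ρ => by
        by_contra hn
        push Not at hn
        exact hst (RingEquiv.ext fun x => by
          rw [eq_frob_of_ne h4 hn.1 x, eq_frob_of_ne h4 hn.2 x])
      set y := c σ / c τ with hy
      have hy0 : y ≠ 0 := div_ne_zero hσ hτ
      obtain ⟨x, hx⟩ := σ.surjective y
      have hx0 : x ≠ 0 := fun e' => hy0 (by rw [← hx, e', map_zero])
      refine hx0 (hf ?_)
      rw [map_zero, hc, Finset.sum_eq_add_of_mem σ τ (Finset.mem_univ _) (Finset.mem_univ _) hst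
        (fun ρ _ hρ => absurd (hall ρ) (not_or.2 hρ)), eq_frob_of_ne h4 hst x, hx, hy]
      have h2 : (2 : F) = 0 := CharP.cast_eq_zero F 2
      field_simp
      linear_combination (c σ ^ 2) * h2
    have hga : ∀ σ, a σ = g σ ^ 2 * e σ := fun σ => by
      have h1 := c1 (φ.trans σ, σ)
      rw [Finset.sum_eq_add_of_mem (Sum.inl (Sum.inl σ)) (Sum.inr (σ, σ))] at h1
      · simp at h1
        linear_combination h1
      · simp
      · simp
      · simp
      · intro i hi hni
        rcases i with (s | s) | ⟨s, t⟩ <;> simp [Finset.mem_filter] at hi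
        · exact absurd (by rw [hi.2]) hni.1
        · exact absurd (hi.2 ▸ hi.1) (hne σ).symm
        · exact absurd (by rw [hinj hi.1, hi.2]) hni.2
    refine AddMonoidHom.ext fun x => ?_
    rw [ha, AddMonoidHom.zero_apply]
    refine Finset.sum_eq_zero fun σ _ => ?_
    rw [hga]
    by_contra hn
    simp only [mul_ne_zero_iff, ne_eq, pow_eq_zero_iff two_ne_zero] at hn
    have e1 := mono γ g hγ hg τ₀ σ hg₀ hn.1.1
    have e2 := mono β e hβ he σ₀ σ he₀ hn.1.2
    exact hne τ₀ (by rw [hτφ, e1, e2])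
  · refine Or.inr (Or.inr ?_)
    have hφ4 : ∀ τ : F ≃+* F, φ.trans (φ.trans τ) ≠ τ := fun τ h => by
      have hsub : ∀ x : F, x ^ 4 = x := fun x => by
        have := RingEquiv.congr_fun h x
        simp only [RingEquiv.trans_apply, hφ, frobTwo_apply, τ.injective.eq_iff] at this
        linear_combination this
      have hP : (Polynomial.X ^ 4 - Polynomial.X : Polynomial F).natDegree = 4 := by
        compute_degree!
      have h1 : (Finset.univ : Finset F).card ≤ 4 := by
        rw [← hP]
        refine Polynomial.card_le_degree_of_subset_roots fun x _ => ?_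
        refine (Polynomial.mem_roots ?_).2 (by simp [hsub x])
        intro e'
        rw [e'] at hP
        simp at hP
      rw [Finset.card_univ] at h1
      obtain ⟨n, -, hn⟩ := FiniteField.card F 2
      have hn2 : (n : ℕ) ≤ 2 := by
        by_contra hc
        have : 2 ^ 3 ≤ Fintype.card F := hn ▸ Nat.pow_le_pow_right two_pos (by omega)
        omega
      interval_cases h : (n : ℕ) <;> omega
    obtain ⟨μ, hμ⟩ := exists_coef m
    obtain ⟨u₁, hu₁⟩ := exists_coef G₁
    obtain ⟨u₂, hu₂⟩ := exists_coef G₂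
    refine AddMonoidHom.ext fun x => ?_
    rw [hμ, AddMonoidHom.zero_apply]
    refine Finset.sum_eq_zero fun ρ _ => ?_
    have c2 := coef_zero
      (ι := ((F ≃+* F) ⊕ (F ≃+* F)) ⊕ ((F ≃+* F) × (F ≃+* F) × (F ≃+* F)))
      (Sum.elim (Sum.elim (fun σ => (φ.trans σ, σ)) (fun σ => (σ, σ)))
        (fun q => (q.2.1.trans q.1, q.2.2.trans q.1)))
      (Sum.elim (Sum.elim u₁ u₂) (fun q => -(μ q.1 * q.1 (g q.2.1 * e q.2.2))))
      (fun r y => by
        simp only [Fintype.sum_sum_type, Sum.elim_inl, Sum.elim_inr]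
        have h1 := E₂ r y
        rw [hu₁, hu₂, hg, he, Finset.sum_mul_sum, ← Fintype.sum_prod_type'] at h1
        rw [hμ] at h1
        simp only [map_sum, Finset.mul_sum] at h1
        rw [← Fintype.sum_prod_type'] at h1
        simp only [RingEquiv.trans_apply, hφ, frobTwo_apply, map_mul, map_pow] at h1 ⊢
        rw [Finset.sum_congr rfl (g := fun q : (F ≃+* F) × (F ≃+* F) × (F ≃+* F) =>
          -(μ q.1 * (q.1 (g q.2.1) * q.1 (q.2.1 r) * (q.1 (e q.2.2) * q.1 (q.2.2 y)))))
          (fun q _ => by ring), Finset.sum_neg_distrib]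
        linear_combination -h1) (τ₀.trans ρ, σ₀.trans ρ)
    rw [Finset.sum_eq_single (Sum.inr (ρ, τ₀, σ₀))] at c2
    · simp [hg₀, he₀] at c2
      simp [c2]
    · intro i hi hni
      rcases i with (s | s) | ⟨ρ', τ, σ⟩ <;> simp [Finset.mem_filter] at hi
      · exfalso
        refine hφ4 τ₀ (RingEquiv.ext fun y => ρ.injective ?_)
        have := RingEquiv.congr_fun (hi.2 ▸ hi.1) y
        simp only [← hτφ, RingEquiv.trans_apply] at this ⊢
        exact this
      · exfalso
        refine hne τ₀ (RingEquiv.ext fun y => ρ.injective ?_)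
        have := RingEquiv.congr_fun (hi.2.symm.trans hi.1) y
        simp only [← hτφ, RingEquiv.trans_apply] at this ⊢
        exact this
      · by_contra hc
        simp at hc
        obtain ⟨-, hgτ, heσ⟩ := hc
        have hrt : ∀ y, ρ' (τ y) = ρ (τ₀ y) := fun y => RingEquiv.congr_fun hi.1 y
        have hrs : ∀ y, ρ' (σ y) = ρ (σ₀ y) := fun y => RingEquiv.congr_fun hi.2 y
        rcases F1 τ σ (mul_ne_zero hgτ heσ) with e1 | e1
        · subst e1
          exact hne τ₀ (RingEquiv.ext fun y => ρ.injective (by rw [hτφ, ← hrs, hrt]))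
        · have hτ : τ = τ₀ := by
            rcases F1 τ σ₀ (mul_ne_zero hgτ he₀) with e2 | e2
            · rcases F1 τ₀ σ (mul_ne_zero hg₀ heσ) with e3 | e3
              · exact absurd (by rw [hτφ, ← e2, e1, ← e3]) (hφ4 τ₀)
              · exact hinj (e1.trans e3.symm)
            · exact hinj (e2.trans hτφ.symm)
          subst hτ
          have hρ : ρ' = ρ := RingEquiv.ext fun y => by
            obtain ⟨z, rfl⟩ := τ₀.surjective y
            exact hrt z
          subst hρ
          exact hni (by rw [← e1, hτφ])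
    · intro hn'
      simp at hn'

end CharTwo

end CfsgLib.FFModules.MinimalParabolic
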