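import Cfsg.Agent.Lib.FFModules.MinimalParabolic.UGroup
import Cfsg.Agent.Lib.FFModules.MinimalParabolic.FieldLemmas

/-!
Two root pairs through one root group: the field structures agree, or the field has four elements
and the two lines are swapped; in the first case the `SL₂`s are equal unless the field has four
elements.
-/

set_option autoImplicit false
set_option linter.style.haveILetI false
set_option linter.unusedSectionVars false

namespace CfsgLib.FFModules.MinimalParabolic

open SL2Pair Matrix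
open scoped Pointwise MatrixGroups

/-- A product identity comes from a field automorphism. -/
theorem exists_auto {F : Type*} [Field F] [Finite F] (f α β : F →+ F) (hα : Function.Injective α)
    (hβ : Function.Injective β) (h : ∀ c x, f (c * x) = α c * β x) :
    ∃ (σ : F ≃+* F) (a b : F), a ≠ 0 ∧ b ≠ 0 ∧ (∀ c, α c = a * σ c) ∧ (∀ x, β x = b * σ x) ∧
      ∀ x, f x = a * b * σ x := by
  set a := α 1
  set b := β 1
  have ha : a ≠ 0 := fun e => one_ne_zero (hα (e.trans (map_zero α).symm))
  have hb : b ≠ 0 := fun e => one_ne_zero (hβ (e.trans (map_zero β).symm))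
  have hα' : ∀ c, α c * b = a * β c := fun c => by
    rw [← h, mul_one, ← h, one_mul]
  let s : F →+* F :=
    { toFun := fun x => β x / b
      map_one' := div_self hb
      map_mul' := fun c x => by
        have h1 := h 1 (c * x)
        rw [one_mul, h] at h1
        have h2 := hα' c
        field_simp
        have : α 1 * (β (c * x) * b) = α 1 * (β c * β x) := by
          linear_combination β x * h2 - b * h1
        exact mul_left_cancel₀ ha this
      map_zero' := by simp
      map_add' := fun x y => by simp [map_add, add_div] }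
  let σ : F ≃+* F := RingEquiv.ofBijective s (Finite.injective_iff_bijective.1 s.injective)
  have hσ : ∀ x, σ x = β x / b := fun x => rfl
  refine ⟨σ, a, b, ha, hb, fun c => ?_, fun x => ?_, fun x => ?_⟩
  · rw [hσ, mul_div_assoc', ← hα', mul_div_cancel_right₀ _ hb]
  · rw [hσ, mul_div_cancel₀ _ hb]
  · rw [hσ, mul_assoc, mul_div_cancel₀ _ hb]
    simpa using h 1 x

/-- An additive map constant along the units vanishes. -/
theorem eq_zero_of_const {F : Type*} [Field F] {W : Type*} [AddCommGroup W] (G : F →+ W) {l : F}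
    (hl : l ≠ 0) (hl1 : l ≠ 1) (K : F → W) (h : ∀ r u : F, r ≠ 0 → G (r * u) = K u) : G = 0 := by
  refine AddMonoidHom.ext fun y => ?_
  have h1 := (h l (y / (l - 1)) hl).trans (h 1 (y / (l - 1)) one_ne_zero).symm
  rw [← sub_eq_zero, ← map_sub, ← sub_mul, mul_div_cancel₀ _ (sub_ne_zero.2 hl1)] at h1
  exact h1

variable {H W : Type*} [Group H] [AddCommGroup W] [DistribMulAction H W] [Finite H] [Finite W]
variable {p : ℕ} [Fact p.Prime] {T : Sylow p H} {M : Subgroup H}
variable {A : Subgroup H} {F : Type} [Field F] [Finite F]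

/-- The field structures of two root pairs agree, and so do their lines. -/
structure RootPair.Compat (R R' : RootPair A W F) where
  σ : F ≃+* F
  a : F
  b : F
  a_ne : a ≠ 0
  b_ne : b ≠ 0
  coord : ∀ c : A, R'.coord c = a * σ (R.coord c)
  quot : ∀ v : W, R'.ψ v 1 = b * σ (R.ψ v 1)
  line : ∀ v ∈ fixedSub A, R.proj v = 0 → R'.proj v = 0 ∧ R'.ψ v 0 = a * b * σ (R.ψ v 0)

/-- Four elements and the lines are exchanged. -/
structure RootPair.Swap (R R' : RootPair A W F) : Prop where
  two : p = 2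
  four : Nat.card F = 4
  line : ∀ v ∈ fixedSub A, R.proj v = 0 → v ∈ fixedSub R'.E

namespace Big

variable (hb : Big p T M A W F) (R R' : RootPair A W F)
include hb

theorem exists_swap_data {R R' : RootPair A W F} (hsw : R.Swap (p := p) R') :
    ∃ (σ : F ≃+* F) (a b : F), a ≠ 0 ∧ b ≠ 0 ∧
      (∀ c, R'.coord (R.root (c ^ 2)) = a * σ c) ∧ (∀ v : W, R'.ψ v 1 = b * σ (R.ψ v 1)) ∧
        (∀ u, R'.ψ (hb.nu R u) 0 = a * b * σ u) ∧ ∀ u, R'.proj (hb.nu R u) = 0 := by
  obtain rfl := hsw.two
  haveI := hb.charP R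
  haveI := Fintype.ofFinite F
  -- the quotient coordinate
  let β : F →+ F :=
    (Pi.evalAddMonoidHom (fun _ : Fin 2 => F) 1).comp (R'.ψ.comp (hb.sx R))
  have hquot : ∀ v, R'.ψ v 1 = β (R.ψ v 1) := fun v => by
    conv_lhs => rw [hb.decomp R v]
    rw [map_add, map_add, Pi.add_apply, Pi.add_apply, (R'.mem_fix _).1 (hb.sy_mem R _),
      (R'.mem_fix _).1 (fixedSub_anti R.le (hb.proj_mem R v)), zero_add, add_zero]
    rfl
  have hβ : Function.Injective β := (injective_iff_map_eq_zero _).2 fun x hx => by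
    have h1 : hb.sx R x ∈ fixedSub A := (R'.mem_fix _).2 hx
    rw [R.mem_fix, hb.ψ_sx] at h1
    simpa using h1
  let α : F →+ F := AddMonoidHom.mk' (fun c => R'.coord (R.root (c ^ 2))) fun c d => by
    rw [← R'.coord_mul]
    congr 1
    refine R.coord_bijective.1 ?_
    rw [R.coord_mul, R.coord_root, R.coord_root, R.coord_root, add_pow_char]
  have hα : Function.Injective α := fun c d e => by
    have h1 := congrArg R.coord (R'.coord_bijective.1 e)
    rw [R.coord_root, R.coord_root] at h1
    exact (frobenius F 2).injective h1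
  let M₂ : F →+ F :=
    (Pi.evalAddMonoidHom (fun _ : Fin 2 => F) 0).comp (R'.ψ.comp (hb.nu R))
  have hsy : ∀ y, R'.ψ (hb.sy R y) = 0 := fun y =>
    (R'.ker _).2 (hsw.line _ (hb.sy_mem R y) (hb.proj_sy R y))
  have hE : ∀ c x, M₂ (c * x) = α c * β x := fun c x => by
    have h1 := R'.ψ_smul (R.root (c ^ 2)) (hb.sx R x)
    rw [hb.smul_sq R _ (R.coord_root _), map_add, map_add, hsy, zero_add, hb.ψ_sx] at h1
    have h2 := congrFun h1 0
    simp only [Pi.add_apply, Matrix.cons_val_zero, add_right_inj, Matrix.cons_val_one] at h2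
    exact h2
  obtain ⟨σ, a, b, ha, hb', hσα, hσβ, hσf⟩ := exists_auto M₂ α β hα hβ hE
  refine ⟨σ, a, b, ha, hb', hσα, fun v => by rw [hquot, hσβ], hσf, ?_⟩
  -- the central part
  obtain ⟨l, hl⟩ := hb.exists_unit R
  let G₁ : F →+ W := R'.proj.comp (hb.sy R)
  let G₂ : F →+ W := R'.proj.comp (hb.nu R)
  obtain ⟨d, hd⟩ := (frobenius F 2).injective |> fun h =>
    (Finite.injective_iff_surjective.1 h) a
  have h4 : ∀ z : F, z ^ 4 = z := fun z => by
    have := FiniteField.pow_card z
    rwa [← Nat.card_eq_fintype_card, hsw.four] at this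
  have hE2 : ∀ c x : F, G₁ (c ^ 2 * x) + G₂ (c * x) = hb.nu R' (d * b * σ (c ^ 2 * x)) := by
    intro c x
    have hd' : R'.coord (R.root (c ^ 2)) = (d * σ (c ^ 2)) ^ 2 := by
      rw [show R'.coord (R.root (c ^ 2)) = α c from rfl, hσα, mul_pow, ← map_pow, ← pow_mul,
        h4, show d ^ 2 = a from hd]
    have h1 := congrArg R'.proj
      ((hb.smul_sq R _ (R.coord_root (c ^ 2)) (hb.sx R x)).symm.trans
        (hb.smul_sq R' _ hd' (hb.sx R x)))
    rw [hquot, hb.ψ_sx, R.coord_root] at h1
    simp only [map_add, hb.proj_sy, zero_add, hb.proj_of_mem R' (hb.nu_mem R' _),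
      Matrix.cons_val_one, Matrix.cons_val_zero, hσβ] at h1
    have h2 := add_left_cancel h1
    rw [show G₁ (c ^ 2 * x) + G₂ (c * x) = _ from h2]
    congr 1
    rw [map_mul]
    ring
  intro u
  have := eq_zero_of_const G₂ l.ne_zero hl (fun w => hb.nu R' (d * b * σ w) - G₁ w)
    (fun r w hr => by
      have h1 := hE2 r⁻¹ (r ^ 2 * w)
      rw [show (r⁻¹) ^ 2 * (r ^ 2 * w) = w by field_simp,
        show r⁻¹ * (r ^ 2 * w) = r * w by field_simp] at h1
      rw [← h1]; abel)
  exact DFunLike.congr_fun this u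

theorem compare : Nonempty (R.Compat R') ∨ R.Swap (p := p) R' := by
  classical
  haveI := hb.charP R
  haveI := Fintype.ofFinite F
  obtain ⟨l, hl⟩ := hb.exists_unit R
  let β : F →+ F :=
    (Pi.evalAddMonoidHom (fun _ : Fin 2 => F) 1).comp (R'.ψ.comp (hb.sx R))
  have hquot : ∀ v, R'.ψ v 1 = β (R.ψ v 1) := fun v => by
    conv_lhs => rw [hb.decomp R v]
    rw [map_add, map_add, Pi.add_apply, Pi.add_apply, (R'.mem_fix _).1 (hb.sy_mem R _),
      (R'.mem_fix _).1 (fixedSub_anti R.le (hb.proj_mem R v)), zero_add, add_zero]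
    rfl
  have hβ : Function.Injective β := (injective_iff_map_eq_zero _).2 fun x hx => by
    have h1 : hb.sx R x ∈ fixedSub A := (R'.mem_fix _).2 hx
    rw [R.mem_fix, hb.ψ_sx] at h1
    simpa using h1
  let α : F →+ F := AddMonoidHom.mk' (fun c => R'.coord (R.root c)) fun c d => by
    rw [← R'.coord_mul]
    congr 1
    refine R.coord_bijective.1 ?_
    rw [R.coord_mul, R.coord_root, R.coord_root, R.coord_root]
  have hα : Function.Injective α := fun c d e => by
    have h1 := congrArg R.coord (R'.coord_bijective.1 e)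
    rwa [R.coord_root, R.coord_root] at h1
  let M₁ : F →+ F :=
    (Pi.evalAddMonoidHom (fun _ : Fin 2 => F) 0).comp (R'.ψ.comp (hb.sy R))
  let M₂ : F →+ F :=
    (Pi.evalAddMonoidHom (fun _ : Fin 2 => F) 0).comp (R'.ψ.comp (hb.nu R))
  have hE1 : ∀ c x, M₁ (c ^ 2 * x) + M₂ (c * x) = α (c ^ 2) * β x := fun c x => by
    have h1 := R'.ψ_smul (R.root (c ^ 2)) (hb.sx R x)
    rw [hb.smul_sq R _ (R.coord_root _), map_add, map_add, hb.ψ_sx, R.coord_root] at h1
    have h2 := congrFun h1 0
    simp only [Pi.add_apply, Matrix.cons_val_zero, add_right_inj, Matrix.cons_val_one] at h2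
    exact h2
  -- once the mixed part vanishes
  have finish : M₂ = 0 → (∀ c x, M₁ (c * x) = α c * β x) →
      (∀ y, R'.proj (hb.sy R y) = 0) → Nonempty (R.Compat R') := by
    intro _ hM hG
    obtain ⟨σ, a, b, ha, hb', hσα, hσβ, hσf⟩ := exists_auto M₁ α β hα hβ hM
    refine ⟨⟨σ, a, b, ha, hb', fun c => ?_, fun v => by rw [hquot, hσβ], fun v hv h0 => ?_⟩⟩
    · have e : R.root (R.coord c) = c := R.coord_bijective.1 (R.coord_root _)
      conv_lhs => rw [← e]
      exact hσα _
    · have e : v = hb.sy R (R.ψ v 0) := by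
        conv_lhs => rw [hb.decomp_fix R hv, h0, add_zero]
      rw [e, hb.ψ_sy]
      exact ⟨hG _, hσf _⟩
  -- elements of `moves A W` for a trivial central part
  have hline' : hb.nu R' = 0 → ∀ v ∈ moves A W, R'.proj v = 0 := fun h0 v hv => by
    obtain ⟨y, u, rfl⟩ := hb.mem_moves R' hv
    rw [map_add, hb.proj_sy, h0, AddMonoidHom.zero_apply, map_zero, add_zero]
  have hsmall : hb.nu R' = 0 → hb.nu R = 0 := fun h0 => by
    refine AddMonoidHom.ext fun u => ?_
    let f : F → moves A W := fun y => ⟨hb.sy R y, hb.sy_mem_moves R y⟩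
    have hf : Function.Injective f := fun y z e => hb.sy_injective R (congrArg Subtype.val e)
    let g : moves A W → F := fun v => R'.ψ v 0
    have hg : Function.Injective g := fun v w e => Subtype.ext <| hb.ext R' (funext fun i => by
      fin_cases i
      · exact e
      · obtain ⟨y, z, e1⟩ := hb.mem_moves R' v.2
        obtain ⟨y', z', e2⟩ := hb.mem_moves R' w.2
        simp [e1, e2, hb.ψ_sy, h0]) (by rw [hline' h0 _ v.2, hline' h0 _ w.2])
    obtain ⟨y, hy⟩ := ((Nat.bijective_iff_injective_and_card f).2 ⟨hf,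
      le_antisymm (Nat.card_le_card_of_injective f hf) (Nat.card_le_card_of_injective g hg)⟩).2
      ⟨hb.nu R u, hb.nu_mem_moves R u⟩
    have e : hb.sy R y = hb.nu R u := congrArg Subtype.val hy
    have h1 := (R.ker _).2 (hb.nu_mem R u)
    rw [← e, hb.ψ_sy] at h1
    rw [← e, show y = 0 from congrFun h1 0, map_zero]
    rfl
  by_cases h0 : hb.nu R' = 0
  · -- no central part
    have hν := hsmall h0
    have hM₂ : M₂ = 0 := by
      refine AddMonoidHom.ext fun u => ?_
      show R'.ψ (hb.nu R u) 0 = 0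
      rw [hν, AddMonoidHom.zero_apply, map_zero]
      rfl
    refine Or.inl (finish hM₂ (fun c x => ?_) fun y => hline' h0 _ (hb.sy_mem_moves R y))
    have h1 := R'.ψ_smul (R.root c) (hb.sx R x)
    obtain ⟨r, -, hr⟩ := hb.exists_smul R (R.root c)
    rw [hr, hν, AddMonoidHom.zero_apply, add_zero, map_add, hb.ψ_sx, R.coord_root] at h1
    have h2 := congrFun h1 0
    simp only [Pi.add_apply, Matrix.cons_val_zero, add_right_inj, Matrix.cons_val_one] at h2
    exact h2
  · obtain rfl : p = 2 := by_contra fun hp => h0 (hb.nu_eq_zero R' hp)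
    let γ : F →+ F := (frobTwo (F := F)).symm.toRingHom.toAddMonoidHom.comp
      (α.comp (frobenius F 2).toAddMonoidHom)
    have hγsq : ∀ r, γ r ^ 2 = α (r ^ 2) := fun r => by
      rw [← frobTwo_apply]
      show frobTwo (frobTwo.symm (α (r ^ 2))) = _
      rw [RingEquiv.apply_symm_apply]
    have hγ : Function.Injective γ := fun r s e => by
      have h1 := congrArg (· ^ 2) e
      simp only [hγsq] at h1
      exact (frobenius F 2).injective (hα h1)
    obtain ⟨x₀, hx₀⟩ : ∃ x, hb.nu R' x ≠ 0 := by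
      by_contra hn
      push Not at hn
      exact h0 (AddMonoidHom.ext hn)
    obtain ⟨f, hf⟩ : ∃ f : W →+ ZMod 2, f (hb.nu R' x₀) ≠ 0 := by
      by_contra hn
      push Not at hn
      exact hx₀ (eq_zero_of_forall_dual hb.set.exponent hn)
    let L : W →+ F := (ZMod.castHom dvd_rfl F).toAddMonoidHom.comp f
    let G₁ : F →+ W := R'.proj.comp (hb.sy R)
    let G₂ : F →+ W := R'.proj.comp (hb.nu R)
    have hE2 : ∀ c x, hb.nu R' (γ c * β x) = G₁ (c ^ 2 * x) + G₂ (c * x) := fun c x => by
      have h1 := congrArg R'.proj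
        ((hb.smul_sq R _ (R.coord_root (c ^ 2)) (hb.sx R x)).symm.trans
          (hb.smul_sq R' _ (r := γ c) (hγsq c).symm (hb.sx R x)))
      rw [hquot, hb.ψ_sx, R.coord_root] at h1
      simp only [map_add, hb.proj_sy, zero_add, hb.proj_of_mem R' (hb.nu_mem R' _),
        Matrix.cons_val_one, Matrix.cons_val_zero] at h1
      exact (add_left_cancel h1).symm
    have hF : 2 < Fintype.card F := by rw [← Nat.card_eq_fintype_card]; exact hb.card_F R
    rcases mixed_eq_zero hF M₁ M₂ γ β (L.comp (hb.nu R')) (L.comp G₁) (L.comp G₂) hγ hβ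
      (fun r x => by rw [hE1, hγsq]) (fun r x => by
        show L (hb.nu R' (γ r * β x)) = L (G₁ (r ^ 2 * x)) + L (G₂ (r * x))
        rw [hE2, map_add]) with hM₂ | ⟨h4, hM₁⟩ | hm
    · -- equal lines
      have hM : ∀ c x, M₁ (c * x) = α c * β x := fun c x => by
        obtain ⟨r, rfl⟩ := (Finite.injective_iff_surjective.1 (frobenius F 2).injective) c
        show M₁ (r ^ 2 * x) = α (r ^ 2) * β x
        rw [← hE1, hM₂, AddMonoidHom.zero_apply, add_zero]
      obtain ⟨σ, a, b, ha, hb', hσα, hσβ, -⟩ := exists_auto M₁ α β hα hβ hM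
      obtain ⟨d, hd⟩ := (Finite.injective_iff_surjective.1 (frobenius F 2).injective) a
      have hγ' : ∀ r, γ r = d * σ r := fun r => (frobenius F 2).injective (by
        show γ r ^ 2 = (d * σ r) ^ 2
        rw [hγsq, hσα, map_pow, mul_pow, show d ^ 2 = a from hd])
      have hG : G₁ = 0 := eq_zero_of_const G₁ l.ne_zero hl
        (fun u => hb.nu R' (d * b * σ u) - G₂ u) fun r u hr => by
          have h1 := hE2 r (r⁻¹ * u)
          rw [show r ^ 2 * (r⁻¹ * u) = r * u by field_simp,
            show r * (r⁻¹ * u) = u by field_simp,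
            show γ r * β (r⁻¹ * u) = d * b * σ u by
              rw [hγ', hσβ, map_mul, map_inv₀]; field_simp [(map_ne_zero σ).2 hr]] at h1
          rw [h1]; abel
      exact Or.inl (finish hM₂ hM fun y => DFunLike.congr_fun hG y)
    · -- swapped lines
      refine Or.inr ⟨rfl, by rwa [Nat.card_eq_fintype_card], fun v hv hv0 => ?_⟩
      rw [← R'.ker]
      funext i
      fin_cases i
      · have := DFunLike.congr_fun hM₁ (R.ψ v 0)
        have e : v = hb.sy R (R.ψ v 0) := by
          conv_lhs => rw [hb.decomp_fix R hv, hv0, add_zero]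
        rw [e]
        exact this
      · exact (R'.mem_fix v).1 hv
    · exfalso
      have h1 : L (hb.nu R' x₀) = 0 := DFunLike.congr_fun hm x₀
      exact hf ((map_eq_zero_iff _ (ZMod.castHom_injective F)).1 h1)

/-- Equal lines force equal tori up to the root group. -/
theorem torus_eq {R R' : RootPair A W F} (C : R.Compat R') (l : Fˣ) :
    ∃ a ∈ A, (R'.torus (Units.map (C.σ : F →* F) l) : H) = a * (R.torus l : H) := by
  set m := Units.map (C.σ : F →* F) l with hm
  have hmv : (m : F) = C.σ l := rfl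
  have hmv' : ((m⁻¹ : Fˣ) : F) = C.σ ((l⁻¹ : Fˣ) : F) := by
    rw [Units.val_inv_eq_inv_val, Units.val_inv_eq_inv_val, hmv, map_inv₀]
  set u : H := (R'.torus m : H) * (R.torus l : H)⁻¹ with hu
  have hU : R.InU u :=
    { comm := fun a ha => by
        have h1 : (R.torus l : H)⁻¹ * a * (R.torus l : H) ∈ A := by
          have := R.torus_conj_mem l⁻¹ ha
          rwa [← R.torus_inv, Subgroup.coe_inv, inv_inv] at this
        set a₁ : A := ⟨_, h1⟩
        have e1 : R.coord ⟨a, ha⟩ = (l : F) ^ 2 * R.coord a₁ := by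
          rw [← R.coord_conj]
          refine congrArg R.coord (Subtype.ext ?_)
          show a = (R.torus l : H) * ((R.torus l : H)⁻¹ * a * (R.torus l : H)) * (R.torus l : H)⁻¹
          group
        have e2 : (⟨_, R'.torus_conj_mem m a₁.2⟩ : A) = ⟨a, ha⟩ := R'.coord_bijective.1 (by
          rw [R'.coord_conj, C.coord, C.coord, e1, map_mul, map_pow, hmv]
          ring)
        have e3 : (R'.torus m : H) * ((R.torus l : H)⁻¹ * a * (R.torus l : H)) *
            (R'.torus m : H)⁻¹ = a := congrArg Subtype.val e2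
        calc u * a = (R'.torus m : H) * ((R.torus l : H)⁻¹ * a * (R.torus l : H)) *
              (R'.torus m : H)⁻¹ * u := by rw [hu]; group
          _ = a * u := by rw [e3]
      line := fun v hv h0 => by
        rw [hu, mul_smul, ← Subgroup.coe_inv, R.torus_inv]
        have hv' := R.smul_torus_mem_fix l⁻¹ hv
        obtain ⟨p1, p2⟩ := C.line _ hv' (by rw [R.proj_torus, h0])
        obtain ⟨q1, q2⟩ := C.line v hv h0
        refine hb.ext R' ?_ (by rw [R'.proj_torus, p1, q1])
        rw [R'.ψ_torus]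
        funext i
        fin_cases i
        · show (m : F) * R'.ψ ((R.torus l⁻¹ : H) • v) 0 = R'.ψ v 0
          rw [p2, q2, R.ψ_torus]
          simp only [Matrix.cons_val_zero, map_mul, ← hmv', mul_comm (a := (m : F))]
          have : ((m⁻¹ : Fˣ) : F) * (m : F) = 1 := by simp
          linear_combination (C.a * C.b * C.σ (R.ψ v 0)) * this
        · show ((m⁻¹ : Fˣ) : F) * R'.ψ ((R.torus l⁻¹ : H) • v) 1 = R'.ψ v 1
          rw [(R'.mem_fix _).1 hv', (R'.mem_fix _).1 hv, mul_zero]
      quot := fun v => by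
        refine C.σ.injective (mul_left_cancel₀ C.b_ne ?_)
        rw [← C.quot, ← C.quot, hu, mul_smul, ← Subgroup.coe_inv, R.torus_inv, R'.ψ_torus]
        simp only [Matrix.cons_val_one, Matrix.cons_val_zero]
        rw [C.quot, R.ψ_torus, C.quot]
        simp only [Matrix.cons_val_one, Matrix.cons_val_zero, inv_inv, map_mul]
        rw [hmv']
        have : C.σ ((l⁻¹ : Fˣ) : F) * C.σ (l : F) = 1 := by rw [← map_mul]; simp
        linear_combination (C.b * C.σ (R.ψ v 1)) * this
      cent := fun z hz => by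
        have hzA := fixedSub_anti R.le hz
        rw [hu, mul_smul, show (R.torus l : H)⁻¹ • z = z from hz _ (R.E.inv_mem (R.torus l).2)]
        set d := (R'.torus m : H) • z - z with hd
        have h1 : d ∈ fixedSub A := sub_mem (R'.smul_torus_mem_fix m hzA) hzA
        have h2 : R'.proj d = 0 := by rw [hd, map_sub, R'.proj_torus, sub_self]
        -- `d` lies on the common line
        obtain ⟨q1, q2⟩ := C.line _ (hb.sy_mem R (R.ψ d 0)) (hb.proj_sy R _)
        have h3 : R.proj d ∈ fixedSub A := fixedSub_anti R.le (hb.proj_mem R d)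
        have h4 : R'.ψ d = R'.ψ (hb.sy R (R.ψ d 0)) + R'.ψ (R.proj d) := by
          conv_lhs => rw [hb.decomp_fix R h1]
          rw [map_add]
        set e := d - hb.sy R (C.σ.symm ((R'.ψ d 0) / (C.a * C.b))) with he
        have he0 : e = 0 := by
          obtain ⟨r1, r2⟩ := C.line _ (hb.sy_mem R (C.σ.symm ((R'.ψ d 0) / (C.a * C.b))))
            (hb.proj_sy R _)
          refine hb.ext R' ?_ (by rw [he, map_sub, h2, r1, sub_self, map_zero])
          rw [he, map_sub, map_zero]
          funext i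
          fin_cases i
          · show R'.ψ d 0 - R'.ψ (hb.sy R (C.σ.symm (R'.ψ d 0 / (C.a * C.b)))) 0 = 0
            rw [r2, hb.ψ_sy]
            simp only [Matrix.cons_val_zero, RingEquiv.apply_symm_apply]
            rw [mul_div_cancel₀ _ (mul_ne_zero C.a_ne C.b_ne), sub_self]
          · show R'.ψ d 1 - R'.ψ (hb.sy R (C.σ.symm (R'.ψ d 0 / (C.a * C.b)))) 1 = 0
            rw [(R'.mem_fix _).1 h1, (R'.mem_fix _).1 (hb.sy_mem R _), sub_self]
        have h5 : R.proj d = 0 := by
          rw [sub_eq_zero.1 (he.symm.trans he0), hb.proj_sy]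
        rw [hd, map_sub, sub_eq_zero] at h5
        rw [h5, hb.proj_of_mem R hz] }
  exact ⟨u, hb.mem_of_inU hU, by rw [hu, inv_mul_cancel_right]⟩

theorem fixE_eq {R R' : RootPair A W F} (C : R.Compat R') :
    (fixedSub R'.E : AddSubgroup W) = fixedSub R.E := by
  obtain ⟨l, hl⟩ := hb.exists_unit R
  obtain ⟨a, ha, e⟩ := hb.torus_eq C l
  have hle : (fixedSub R.E : AddSubgroup W) ≤ fixedSub R'.E := fun z hz => by
    have hzA := fixedSub_anti R.le hz
    have h1 : (R'.torus (Units.map (C.σ : F →* F) l) : H) • z = z := by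
      rw [e, mul_smul, hz _ (R.torus l).2, hzA a ha]
    have h2 := congrArg R'.ψ h1
    rw [R'.ψ_torus] at h2
    rw [← R'.ker]
    funext i
    fin_cases i
    · have h3 := congrFun h2 0
      simp only [Matrix.cons_val_zero] at h3
      have h4 : (C.σ (l : F) - 1) * R'.ψ z 0 = 0 := by rw [sub_mul, one_mul, sub_eq_zero]; exact h3
      exact (mul_eq_zero.1 h4).resolve_left
        (sub_ne_zero.2 fun e1 => hl (C.σ.injective (by rw [e1, map_one])))
    · exact (R'.mem_fix z).1 hzA
  refine (le_antisymm hle fun z hz => ?_).symm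
  have hzA := fixedSub_anti R'.le hz
  have h1 := (R'.ker _).2 hz
  rw [hb.decomp_fix R hzA, map_add, (R'.ker _).2 (hle (hb.proj_mem R z)), add_zero] at h1
  obtain ⟨q1, q2⟩ := C.line _ (hb.sy_mem R (R.ψ z 0)) (hb.proj_sy R _)
  rw [h1, hb.ψ_sy] at q2
  simp [C.a_ne, C.b_ne] at q2
  rw [hb.decomp_fix R hzA, q2, map_zero, zero_add]
  exact hb.proj_mem R z

theorem ψ_eq {R R' : RootPair A W F} (C : R.Compat R') (v : W) :
    R'.ψ v 0 = C.a * C.b * C.σ (R.ψ v 0) + R'.ψ (hb.sx R (R.ψ v 1)) 0 := by
  conv_lhs => rw [hb.decomp R v]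
  have hz : R'.ψ (R.proj v) = 0 := (R'.ker _).2 (hb.fixE_eq C ▸ hb.proj_mem R v)
  rw [map_add, map_add, hz, add_zero, Pi.add_apply,
    (C.line _ (hb.sy_mem R _) (hb.proj_sy R _)).2, hb.ψ_sy]
  simp

/-- The shift between the two opposite root groups. -/
noncomputable def shift {R R' : RootPair A W F} (C : R.Compat R') : F →+ F :=
  AddMonoidHom.mk' (fun x => C.σ.symm (R'.ψ (hb.sx R x) 0 / (C.a * C.b))) fun x y => by
    rw [map_add, map_add, Pi.add_apply, add_div, map_add]

theorem ψ_shift {R R' : RootPair A W F} (C : R.Compat R') (v : W) :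
    R'.ψ v 0 = C.a * C.b * C.σ (R.ψ v 0 + hb.shift C (R.ψ v 1)) := by
  rw [map_add, mul_add, hb.ψ_eq C v]
  congr 1
  show _ = C.a * C.b * C.σ (C.σ.symm _)
  rw [RingEquiv.apply_symm_apply, mul_div_cancel₀ _ (mul_ne_zero C.a_ne C.b_ne)]

theorem shift_equivariant {R R' : RootPair A W F} (C : R.Compat R') {l : F} (hl : l ≠ 0) :
    ∃ c : F, ∀ x, l * hb.shift C x = hb.shift C (l⁻¹ * x) + c * x := by
  set u := Units.mk0 l hl with hu
  obtain ⟨a, ha, e⟩ := hb.torus_eq C u
  refine ⟨R.coord ⟨a, ha⟩ * l⁻¹, fun x => ?_⟩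
  have h1 := hb.ψ_shift C ((R'.torus (Units.map (C.σ : F →* F) u) : H) • hb.sx R x)
  conv_rhs at h1 => rw [e, mul_smul, hb.torus_sx, R.ψ_smul ⟨a, ha⟩, hb.ψ_sx]
  rw [R'.ψ_torus, Matrix.cons_val_zero, hb.ψ_shift C, hb.ψ_sx] at h1
  simp only [Matrix.cons_val_zero, Matrix.cons_val_one, zero_add, Units.coe_map,
    MonoidHom.coe_coe, Units.val_inv_eq_inv_val, hu, Units.val_mk0] at h1
  rw [mul_left_comm, ← map_mul] at h1
  have h2 := C.σ.injective (mul_left_cancel₀ (mul_ne_zero C.a_ne C.b_ne) h1)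
  linear_combination h2

/-- Conjugating the opposite root group by a linear shift. -/
theorem E_eq_of_linear {R R' : RootPair A W F} (C : R.Compat R') {c : F}
    (hc : ∀ x, hb.shift C x = c * x) : R'.E = R.E := by
  set b : A := R.root (-c) with hbdef
  set w : H := (R.weyl : H)
  set w' : H := (R'.weyl : H)
  have hw : ∀ v, R.ψ (w⁻¹ • v) 1 = R.ψ v 0 := fun v => by
    conv_rhs => rw [← smul_inv_smul w v, R.ψ_weyl]
    simp
  have hw' : ∀ v, R'.ψ (w'⁻¹ • v) 1 = R'.ψ v 0 := fun v => by
    conv_rhs => rw [← smul_inv_smul w' v, R'.ψ_weyl]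
    simp
  have hbinv : R.coord b⁻¹ = c := by
    have h1 := R.coord_mul b b⁻¹
    rw [mul_inv_cancel, R.coord_eq_zero.2 rfl, hbdef, R.coord_root] at h1
    linear_combination -h1
  have hfix : (fixedSub (MulAut.conj ((b : H) * w) • A) : AddSubgroup W) =
      fixedSub (MulAut.conj w' • A) := by
    ext v
    rw [mem_fixedSub_smul, mem_fixedSub_smul, R.mem_fix, R'.mem_fix, hw', _root_.mul_inv_rev,
      mul_smul, hw, hb.ψ_shift C, hc, ← Subgroup.coe_inv, R.ψ_smul, hbinv]
    simp [C.a_ne, C.b_ne, -map_add, -map_mul]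
  have heq := hb.set.eq_of_fixedSub_eq (hb.isMin.smul _) (hb.isMin.smul _) hfix
  have hA : MulAut.conj (b : H) • A = A :=
    LLemma.conj_eq_of_mem_normalizer (Subgroup.le_normalizer b.2)
  calc R'.E = A ⊔ MulAut.conj w' • A := R'.eq_sup_weyl
    _ = MulAut.conj (b : H) • (A ⊔ MulAut.conj w • A) := by
      rw [Subgroup.smul_sup, hA, LLemma.conj_conj, heq]
    _ = MulAut.conj (b : H) • R.E := by rw [← R.eq_sup_weyl]
    _ = R.E := LLemma.conj_eq_of_mem_normalizer (Subgroup.le_normalizer (R.le b.2))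

/-- Equal lines give equal `SL₂`s, except over four elements. -/
theorem E_eq_or {R R' : RootPair A W F} (C : R.Compat R') :
    R'.E = R.E ∨
      (Nat.card F = 4 ∧ ∃ c k : F, k ≠ 0 ∧ ∀ x, hb.shift C x = c * x + k * x ^ 2) := by
  rcases equivariant_shift (hb.card_F R) (hb.shift C) (fun l hl => hb.shift_equivariant C hl) with
    ⟨c, hc⟩ | h
  · exact Or.inl (hb.E_eq_of_linear C hc)
  · exact Or.inr h

end Big

end CfsgLib.FFModules.MinimalParabolic
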