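import Cfsg.Agent.Lib.FFModules.MinimalParabolic.Centralise

/-!
Coordinates attached to a root pair with root group of order at least three: the projection to the
fixed points of the `SL₂` and a section of the natural quotient.
-/

set_option autoImplicit false
set_option linter.style.haveILetI false
set_option linter.unusedSectionVars false

namespace CfsgLib.FFModules.MinimalParabolic

open SL2Pair Matrix
open scoped Pointwise MatrixGroups

variable {H W : Type*} [Group H] [AddCommGroup W] [DistribMulAction H W] [Finite H] [Finite W]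
variable {p : ℕ} [Fact p.Prime] {T : Sylow p H} {M : Subgroup H}
variable {A : Subgroup H} {F : Type} [Field F]

/-- The standing data: a root pair with root group of order at least three. -/
structure Big (p : ℕ) [Fact p.Prime] (T : Sylow p H) (M : Subgroup H) (A : Subgroup H) (W : Type*)
    [AddCommGroup W] [DistribMulAction H W] (F : Type) [Field F] : Prop where
  set : Setting p T M W
  isMin : IsMin p A W
  big : 2 < Nat.card A
  finite : Finite F

namespace RootPair

variable (R : RootPair A W F)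

theorem torus_mul (l m : Fˣ) : R.torus l * R.torus m = R.torus (l * m) := by
  rw [torus, torus, torus, ← map_mul]
  refine congrArg _ (Subtype.ext ?_)
  rw [Matrix.SpecialLinearGroup.coe_mul]
  ext i j
  fin_cases i <;> fin_cases j <;> simp [diagSL, Matrix.mul_apply, Fin.sum_univ_two, mul_comm]

variable [Finite F]

/-- Minus the sum over the torus: the projection to the fixed points of the `SL₂`. -/
noncomputable def proj : W →+ W :=
  haveI : Fintype Fˣ := Fintype.ofFinite _;
  -∑ m : Fˣ, DistribSMul.toAddMonoidHom W (R.torus m : H)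

theorem proj_apply [Fintype Fˣ] (v : W) : R.proj v = -∑ m : Fˣ, (R.torus m : H) • v := by
  rw [proj, AddMonoidHom.neg_apply, AddMonoidHom.finsetSum_apply]
  refine congrArg Neg.neg (Finset.sum_congr ?_ fun m _ => rfl)
  ext m
  simp

theorem proj_torus (l : Fˣ) (v : W) : R.proj ((R.torus l : H) • v) = R.proj v := by
  haveI := Fintype.ofFinite Fˣ
  rw [R.proj_apply, R.proj_apply, ← Equiv.sum_comp (Equiv.mulRight l) fun m => (R.torus m : H) • v]
  congr 1
  refine Finset.sum_congr rfl fun m _ => ?_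
  rw [← mul_smul, ← Subgroup.coe_mul, R.torus_mul]
  rfl

theorem torus_smul_proj (l : Fˣ) (v : W) : (R.torus l : H) • R.proj v = R.proj v := by
  haveI := Fintype.ofFinite Fˣ
  rw [R.proj_apply, smul_neg, Finset.smul_sum,
    ← Equiv.sum_comp (Equiv.mulLeft l) fun m => (R.torus m : H) • v]
  congr 1
  refine Finset.sum_congr rfl fun m _ => ?_
  rw [← mul_smul, ← Subgroup.coe_mul, R.torus_mul]
  rfl

theorem proj_weyl (v : W) : R.proj ((R.weyl : H) • v) = (R.weyl : H) • R.proj v := by
  haveI := Fintype.ofFinite Fˣ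
  rw [R.proj_apply, R.proj_apply, smul_neg, Finset.smul_sum,
    ← Equiv.sum_comp (Equiv.inv Fˣ) fun m => (R.torus m : H) • (R.weyl : H) • v]
  congr 1
  refine Finset.sum_congr rfl fun m _ => ?_
  rw [← mul_smul, ← mul_smul, ← Subgroup.coe_mul, ← Subgroup.coe_mul, R.weyl_torus, R.torus_inv]
  rfl

/-- The element of the root group with the given coordinate. -/
noncomputable def root (c : F) : A := Classical.choose (R.coord_bijective.2 c)

omit [Finite F] in
theorem coord_root (c : F) : R.coord (R.root c) = c :=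
  Classical.choose_spec (R.coord_bijective.2 c)

end RootPair

variable (R : RootPair A W F)

namespace Big

variable (hb : Big p T M A W F)
include hb

theorem card_F (R : RootPair A W F) : 2 < Nat.card F := R.card ▸ hb.big

theorem p_dvd : p ∣ Nat.card A := by
  obtain ⟨n, hn⟩ := hb.isMin.isPGroup.exists_card_eq
  rcases Nat.eq_zero_or_pos n with rfl | h0
  · exact absurd (Subgroup.card_eq_one.1 hn) hb.isMin.ne_bot
  · exact hn ▸ dvd_pow_self p h0.ne'

theorem charP (R : RootPair A W F) : CharP F p := by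
  refine (CharP.charP_iff_prime_eq_zero Fact.out).2 ?_
  obtain ⟨v, hv⟩ := R.surj ![1, 0]
  have h1 := congrArg R.ψ (hb.set.exponent v)
  rw [map_nsmul, map_zero, hv] at h1
  simpa using congrFun h1 0

variable [Finite F]

theorem exists_unit (R : RootPair A W F) : ∃ l : Fˣ, (l : F) ≠ 1 := by
  classical
  haveI := Fintype.ofFinite F
  by_contra hn
  push Not at hn
  have hsub : (Finset.univ : Finset F) ⊆ {0, 1} := fun a _ => by
    by_cases h0 : a = 0
    · simp [h0]
    · simp [show a = 1 from hn (Units.mk0 a h0)]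
  have := (Finset.card_le_card hsub).trans Finset.card_le_two
  rw [Finset.card_univ, ← Nat.card_eq_fintype_card] at this
  have := hb.card_F R
  omega

theorem ψ_proj (v : W) : R.ψ (R.proj v) = 0 := by
  haveI := Fintype.ofFinite Fˣ
  obtain ⟨l, hl⟩ := hb.exists_unit R
  have h1 := congrArg R.ψ (R.torus_smul_proj l v)
  rw [R.ψ_torus] at h1
  funext i
  fin_cases i
  · have h2 := congrFun h1 0
    simp only [Matrix.cons_val_zero] at h2
    have h3 : ((l : F) - 1) * R.ψ (R.proj v) 0 = 0 := by rw [sub_mul, h2, one_mul, sub_self]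
    exact (mul_eq_zero.1 h3).resolve_left (sub_ne_zero.2 hl)
  · have h2 := congrFun h1 1
    simp only [Matrix.cons_val_one, Matrix.cons_val_zero] at h2
    have h3 : (((l⁻¹ : Fˣ) : F) - 1) * R.ψ (R.proj v) 1 = 0 := by rw [sub_mul, h2, one_mul, sub_self]
    refine (mul_eq_zero.1 h3).resolve_left (sub_ne_zero.2 fun e => hl ?_)
    rw [Units.val_inv_eq_inv_val] at e
    exact inv_eq_one.1 e

theorem proj_mem (v : W) : R.proj v ∈ fixedSub R.E := (R.ker _).1 (hb.ψ_proj R v)

theorem proj_of_mem {v : W} (hv : v ∈ fixedSub R.E) : R.proj v = v := by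
  haveI := Fintype.ofFinite Fˣ
  rw [R.proj_apply, Finset.sum_congr rfl (g := fun _ => v) (fun m _ => hv _ (R.torus m).2),
    Finset.sum_const, Finset.card_univ, neg_eq_iff_add_eq_zero, ← succ_nsmul]
  haveI := Fintype.ofFinite F
  have e : Fintype.card Fˣ + 1 = Nat.card A := by
    rw [← R.card, ← Nat.card_eq_fintype_card (α := Fˣ), Nat.card_units,
      Nat.sub_add_cancel Nat.card_pos]
  rw [e]
  obtain ⟨c, hc⟩ := hb.p_dvd
  rw [hc, mul_comm, mul_nsmul', hb.set.exponent, nsmul_zero]

theorem proj_proj (v : W) : R.proj (R.proj v) = R.proj v := hb.proj_of_mem R (hb.proj_mem R v)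

/-- Uniqueness of coordinates. -/
theorem ext {u v : W} (h1 : R.ψ u = R.ψ v) (h2 : R.proj u = R.proj v) : u = v := by
  have h3 : u - v ∈ fixedSub R.E := (R.ker _).1 (by rw [map_sub, h1, sub_self])
  have h4 := hb.proj_of_mem R h3
  rw [map_sub, h2, sub_self] at h4
  exact sub_eq_zero.1 h4.symm

theorem exists_sec (u : Fin 2 → F) : ∃ v : W, R.ψ v = u ∧ R.proj v = 0 := by
  obtain ⟨v, hv⟩ := R.surj u
  refine ⟨v - R.proj v, ?_, ?_⟩
  · rw [map_sub, hb.ψ_proj, sub_zero, hv]
  · rw [map_sub, hb.proj_proj, sub_self]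

/-- The section of the natural quotient. -/
noncomputable def sec : (Fin 2 → F) →+ W :=
  AddMonoidHom.mk' (fun u => Classical.choose (hb.exists_sec R u)) fun u u' => by
    have s := fun u => Classical.choose_spec (hb.exists_sec R u)
    refine hb.ext R ?_ ?_
    · rw [map_add, (s _).1, (s u).1, (s u').1]
    · rw [map_add, (s _).2, (s u).2, (s u').2, add_zero]

theorem ψ_sec (u : Fin 2 → F) : R.ψ (hb.sec R u) = u :=
  (Classical.choose_spec (hb.exists_sec R u)).1

theorem proj_sec (u : Fin 2 → F) : R.proj (hb.sec R u) = 0 :=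
  (Classical.choose_spec (hb.exists_sec R u)).2

/-- The line of fixed points of the root group. -/
noncomputable def sy : F →+ W :=
  (hb.sec R).comp (AddMonoidHom.mk' (fun y => ![y, 0]) fun a b => by simp)

/-- The line of fixed points of the opposite root group. -/
noncomputable def sx : F →+ W :=
  (hb.sec R).comp (AddMonoidHom.mk' (fun x => ![0, x]) fun a b => by simp)

theorem ψ_sy (y : F) : R.ψ (hb.sy R y) = ![y, 0] := hb.ψ_sec R _

theorem ψ_sx (x : F) : R.ψ (hb.sx R x) = ![0, x] := hb.ψ_sec R _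

theorem proj_sy (y : F) : R.proj (hb.sy R y) = 0 := hb.proj_sec R _

theorem proj_sx (x : F) : R.proj (hb.sx R x) = 0 := hb.proj_sec R _

theorem sy_mem (y : F) : hb.sy R y ∈ fixedSub A := (R.mem_fix _).2 (by simp [hb.ψ_sy])

theorem decomp (v : W) : v = hb.sy R (R.ψ v 0) + hb.sx R (R.ψ v 1) + R.proj v := by
  refine hb.ext R ?_ ?_
  · rw [map_add, map_add, hb.ψ_sy, hb.ψ_sx, hb.ψ_proj]
    funext i
    fin_cases i <;> simp
  · simp [hb.proj_sy, hb.proj_sx, hb.proj_proj]

theorem decomp_fix {v : W} (hv : v ∈ fixedSub A) : v = hb.sy R (R.ψ v 0) + R.proj v := by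
  conv_lhs => rw [hb.decomp R v, (R.mem_fix v).1 hv, map_zero, add_zero]

theorem sy_injective : Function.Injective (hb.sy R) := fun a b e => by
  simpa [hb.ψ_sy] using congrFun (congrArg R.ψ e) 0

theorem torus_sy (l : Fˣ) (y : F) : (R.torus l : H) • hb.sy R y = hb.sy R ((l : F) * y) := by
  refine hb.ext R ?_ ?_
  · rw [R.ψ_torus, hb.ψ_sy, hb.ψ_sy]
    funext i
    fin_cases i <;> simp
  · rw [R.proj_torus, hb.proj_sy, hb.proj_sy]

theorem torus_sx (l : Fˣ) (x : F) :
    (R.torus l : H) • hb.sx R x = hb.sx R (((l⁻¹ : Fˣ) : F) * x) := by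
  refine hb.ext R ?_ ?_
  · rw [R.ψ_torus, hb.ψ_sx, hb.ψ_sx]
    funext i
    fin_cases i <;> simp
  · rw [R.proj_torus, hb.proj_sx, hb.proj_sx]

theorem weyl_sx (x : F) : (R.weyl : H) • hb.sx R x = hb.sy R x := by
  refine hb.ext R ?_ ?_
  · rw [R.ψ_weyl, hb.ψ_sx, hb.ψ_sy]
    funext i
    fin_cases i <;> simp
  · rw [R.proj_weyl, hb.proj_sx, smul_zero, hb.proj_sy]

theorem weyl_sy (y : F) : (R.weyl : H) • hb.sy R y = hb.sx R (-y) := by
  refine hb.ext R ?_ ?_
  · rw [R.ψ_weyl, hb.ψ_sy, hb.ψ_sx]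
    funext i
    fin_cases i <;> simp
  · rw [R.proj_weyl, hb.proj_sy, smul_zero, hb.proj_sx]

/-- The component of the root action in the fixed points of the `SL₂`. -/
noncomputable def nu : F →+ W :=
  R.proj.comp ((DistribSMul.toAddMonoidHom W (R.root 1 : H)).comp (hb.sx R))

theorem nu_mem (x : F) : hb.nu R x ∈ fixedSub R.E := hb.proj_mem R _

theorem nu_fix (x : F) : hb.nu R x ∈ fixedSub A := fixedSub_anti R.le (hb.nu_mem R x)

theorem root_one_smul (x : F) :
    (R.root 1 : H) • hb.sx R x = hb.sy R x + hb.sx R x + hb.nu R x := by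
  conv_lhs => rw [hb.decomp R ((R.root 1 : H) • hb.sx R x), R.ψ_smul, hb.ψ_sx, R.coord_root]
  simp [nu]

/-- The action of root elements whose coordinate is a square. -/
theorem smul_sq (b : A) {r : F} (hr : R.coord b = r ^ 2) (v : W) :
    (b : H) • v = v + (hb.sy R (R.coord b * R.ψ v 1) + hb.nu R (r * R.ψ v 1)) := by
  have key : ∀ x : F, (b : H) • hb.sx R x = hb.sy R (r ^ 2 * x) + hb.sx R x + hb.nu R (r * x) := by
    intro x
    by_cases h0 : r = 0
    · subst h0
      rw [zero_pow two_ne_zero, R.coord_eq_zero] at hr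
      subst hr
      simp
    · set l : Fˣ := Units.mk0 r h0
      have e : b = ⟨_, R.torus_conj_mem l (R.root 1).2⟩ :=
        R.coord_bijective.1 (by rw [R.coord_conj, R.coord_root, hr, mul_one]; rfl)
      rw [e]
      show ((R.torus l : H) * (R.root 1 : H) * (R.torus l : H)⁻¹) • hb.sx R x = _
      rw [mul_smul, mul_smul, ← Subgroup.coe_inv, R.torus_inv, hb.torus_sx, inv_inv,
        hb.root_one_smul, smul_add, smul_add, hb.torus_sy, hb.torus_sx,
        show (R.torus l : H) • hb.nu R ((l : F) * x) = _ from hb.nu_mem R _ _ (R.torus l).2,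
        ← mul_assoc, ← mul_assoc, ← Units.val_mul, ← Units.val_mul, inv_mul_cancel, Units.val_one,
        one_mul]
      simp [l, sq]
  conv_lhs => rw [hb.decomp R v]
  rw [smul_add, smul_add, hb.sy_mem R _ b b.2, key,
    show (b : H) • R.proj v = R.proj v from fixedSub_anti R.le (hb.proj_mem R v) b b.2, hr]
  conv_rhs => rw [hb.decomp R v]
  simp only [map_add, hb.ψ_sy, hb.ψ_sx, hb.ψ_proj]
  simp
  abel

theorem nu_eq_zero (R : RootPair A W F) (hp : p ≠ 2) : hb.nu R = 0 := by
  refine AddMonoidHom.ext fun x => ?_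
  have h1 := hb.smul_sq R (R.root 1) (r := -1) (by rw [R.coord_root]; ring) (hb.sx R x)
  have h2 := hb.smul_sq R (R.root 1) (r := 1) (by rw [R.coord_root]; ring) (hb.sx R x)
  rw [h2, add_right_inj, add_right_inj] at h1
  simp [hb.ψ_sx] at h1
  obtain ⟨m, hm⟩ := ((Fact.out : p.Prime).odd_of_ne_two hp)
  have h3 : 2 • hb.nu R x = 0 := by
    rw [two_nsmul]
    nth_rewrite 1 [h1]
    simp
  rw [AddMonoidHom.zero_apply]
  generalize hb.nu R x = z at h3 ⊢
  have h4 := hb.set.exponent z
  rw [hm, add_nsmul, mul_nsmul, h3, nsmul_zero, zero_add, one_nsmul] at h4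
  simpa using h4

/-- The action of a root element: the coordinate is a square or the central component vanishes. -/
theorem exists_smul (b : A) : ∃ r : F, (p = 2 → R.coord b = r ^ 2) ∧ ∀ v : W,
    (b : H) • v = v + (hb.sy R (R.coord b * R.ψ v 1) + hb.nu R (r * R.ψ v 1)) := by
  haveI := hb.charP R
  haveI := Fintype.ofFinite F
  rcases eq_or_ne p 2 with rfl | hp
  · obtain ⟨r, hr⟩ := FiniteField.isSquare_of_char_two (CharP.eq F (ringChar.charP F) ‹CharP F 2›) (R.coord b)
    exact ⟨r, fun _ => by rw [hr, sq], hb.smul_sq R b (by rw [hr, sq])⟩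
  · refine ⟨0, fun e => absurd e hp, fun v => ?_⟩
    have h2 : (2 : F) ≠ 0 := by
      intro e
      rcases (Nat.dvd_prime Nat.prime_two).1 ((CharP.cast_eq_zero_iff F p 2).1 (by exact_mod_cast e))
        with e' | e'
      · exact (Fact.out : p.Prime).one_lt.ne' e'
      · exact hp e'
    -- a difference of two squares
    set r := (R.coord b + 1) / 2
    set s := (R.coord b - 1) / 2
    have hb' : b * R.root (s ^ 2) = R.root (r ^ 2) := R.coord_bijective.1 (by
      rw [R.coord_mul, R.coord_root, R.coord_root]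
      simp only [r, s]; field_simp; ring)
    have e := congrArg (fun a : A => (a : H) • v) hb'
    simp only [Subgroup.coe_mul, mul_smul] at e
    rw [hb.smul_sq R _ (R.coord_root (s ^ 2)), hb.smul_sq R _ (R.coord_root (r ^ 2)),
      hb.nu_eq_zero R hp, R.coord_root, R.coord_root, smul_add, smul_add, hb.sy_mem R _ b b.2] at e
    simp only [AddMonoidHom.zero_apply, add_zero, smul_zero] at e
    rw [hb.nu_eq_zero R hp, AddMonoidHom.zero_apply, add_zero]
    have e2 : R.coord b = r ^ 2 - s ^ 2 := by simp only [r, s]; field_simp; ring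
    have e3 : (b : H) • v = v + hb.sy R (r ^ 2 * R.ψ v 1) - hb.sy R (s ^ 2 * R.ψ v 1) :=
      eq_sub_of_add_eq e
    rw [e3, e2, sub_mul, map_sub]
    abel

theorem sy_mem_moves (y : F) : hb.sy R y ∈ moves A W := by
  obtain ⟨l, hl⟩ := hb.exists_unit R
  have key : ∀ m : Fˣ, ∀ u : F, hb.sy R ((m : F) * u) + hb.nu R u ∈ moves A W := by
    intro m u
    have h1 := sub_mem_moves (R.root ((m : F) ^ 2)).2 (hb.sx R (((m⁻¹ : Fˣ) : F) * u))
    rw [hb.smul_sq R _ (R.coord_root _), add_sub_cancel_left, hb.ψ_sx, R.coord_root] at h1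
    simpa [sq, mul_assoc] using h1
  have h1 := sub_mem (key l (y / ((l : F) - 1))) (key 1 (y / ((l : F) - 1)))
  rw [add_sub_add_right_eq_sub, ← map_sub, ← sub_mul, Units.val_one,
    mul_div_cancel₀ _ (sub_ne_zero.2 hl)] at h1
  exact h1

theorem nu_mem_moves (u : F) : hb.nu R u ∈ moves A W := by
  have h1 := sub_mem_moves (R.root 1).2 (hb.sx R u)
  rw [hb.root_one_smul, show hb.sy R u + hb.sx R u + hb.nu R u - hb.sx R u =
    hb.sy R u + hb.nu R u by abel] at h1
  simpa using sub_mem h1 (hb.sy_mem_moves R u)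

theorem mem_moves {v : W} (hv : v ∈ moves A W) : ∃ y u : F, v = hb.sy R y + hb.nu R u := by
  induction hv using AddSubgroup.closure_induction with
  | mem x hx =>
    obtain ⟨a, ha, v, rfl⟩ := hx
    obtain ⟨r, -, hr⟩ := hb.exists_smul R ⟨a, ha⟩
    exact ⟨_, _, by rw [show a • v = _ from hr v, add_sub_cancel_left]⟩
  | zero => exact ⟨0, 0, by simp⟩
  | add x y _ _ hx hy =>
    obtain ⟨a, b, rfl⟩ := hx
    obtain ⟨c, d, rfl⟩ := hy
    exact ⟨a + c, b + d, by rw [map_add, map_add]; abel⟩
  | neg x _ hx =>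
    obtain ⟨a, b, rfl⟩ := hx
    exact ⟨-a, -b, by rw [map_neg, map_neg]; abel⟩

end Big

end CfsgLib.FFModules.MinimalParabolic
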