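import Cfsg.Agent.Lib.FFModules.MinimalParabolic.RootPair
import Mathlib.GroupTheory.PGroup
import Mathlib.LinearAlgebra.Matrix.SpecialLinearGroup
import Mathlib.FieldTheory.Fixed

/-!
An elementary abelian group normalizing `SL₂(F)` on its natural module and having at least as many
elements as the index of its fixed points lies in `SL₂(F)`.
-/

set_option autoImplicit false
set_option linter.style.haveILetI false
set_option linter.unusedSectionVars false

namespace CfsgLib.FFModules.MinimalParabolic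

open Matrix
open scoped MatrixGroups

variable {F : Type*} [Field F]

theorem sl2_upper_of_fix (g : SL(2, F))
    (hg : (g : Matrix (Fin 2) (Fin 2) F).mulVec ![1, 0] = ![1, 0]) :
    ∀ u : Fin 2 → F, (g : Matrix (Fin 2) (Fin 2) F).mulVec u = ![u 0 + g 0 1 * u 1, u 1] := by
  have h0 : g 0 0 = 1 := by simpa [Matrix.mulVec, dotProduct] using congrFun hg 0
  have h1 : g 1 0 = 0 := by simpa [Matrix.mulVec, dotProduct] using congrFun hg 1
  have hd := g.2
  rw [Matrix.det_fin_two, h0, h1, one_mul, mul_zero, sub_zero] at hd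
  intro u
  funext i
  fin_cases i <;> simp [Matrix.mulVec, dotProduct, h0, h1, hd]

/-- The transvection with parameter `t`. -/
def upperSL (t : F) : SL(2, F) := ⟨!![1, t; 0, 1], by simp [Matrix.det_fin_two]⟩

theorem upperSL_mulVec (t : F) (u : Fin 2 → F) :
    ((upperSL t : SL(2, F)) : Matrix (Fin 2) (Fin 2) F).mulVec u = ![u 0 + t * u 1, u 1] := by
  funext i
  fin_cases i <;> simp [upperSL, Matrix.mulVec, dotProduct]

variable [Finite F] {p : ℕ} [Fact p.Prime] {X : Type*} [Group X] [Finite X]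
variable [DistribMulAction X (Fin 2 → F)] [FaithfulSMul X (Fin 2 → F)]

/-- The analysis when the group fixes the first basis vector. -/
theorem sl2_bound_aux (hchar : CharP F p) (hcomm : ∀ x y : X, x * y = y * x)
    (hpow : ∀ x : X, x ^ p = 1)
    (hnorm : ∀ (x : X) (g : SL(2, F)), ∃ g' : SL(2, F), ∀ u : Fin 2 → F,
      x • ((g : Matrix (Fin 2) (Fin 2) F).mulVec u) = (g' : Matrix (Fin 2) (Fin 2) F).mulVec (x • u))
    (hfix : ∀ x : X, x • (![1, 0] : Fin 2 → F) = ![1, 0]) :
    Nat.card X * Nat.card {u : Fin 2 → F // ∀ x : X, x • u = u} ≤ Nat.card F ^ 2 ∧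
      (Nat.card F ^ 2 ≤ Nat.card X * Nat.card {u : Fin 2 → F // ∀ x : X, x • u = u} →
        ∀ x : X, ∃ g : SL(2, F), ∀ u : Fin 2 → F,
          x • u = (g : Matrix (Fin 2) (Fin 2) F).mulVec u) := by
  classical
  haveI := Fintype.ofFinite F
  have hone : ((1 : F)) ≠ 0 := one_ne_zero
  -- conjugates of upper unitriangular matrices
  have hconj : ∀ (x : X) (t : F), ∃ s : F, ∀ u : Fin 2 → F,
      x • ![u 0 + t * u 1, u 1] = ![(x • u) 0 + s * (x • u) 1, (x • u) 1] := by
    intro x t
    obtain ⟨g', hg'⟩ := hnorm x (upperSL t)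
    have h0 := hg' ![1, 0]
    rw [upperSL_mulVec, hfix x] at h0
    simp only [cons_val_zero, cons_val_one, mul_zero, add_zero] at h0
    rw [hfix x] at h0
    refine ⟨g' 0 1, fun u => ?_⟩
    have := hg' u
    rwa [upperSL_mulVec, sl2_upper_of_fix g' h0.symm] at this
  choose τ hτ using hconj
  have hsnd : ∀ (x : X) (t : F), x • (![t, 0] : Fin 2 → F) = ![τ x t * (x • ![0, 1]) 1, 0] := by
    intro x t
    have h := hτ x t ![0, 1]
    simp only [cons_val_zero, cons_val_one, zero_add, mul_one] at h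
    have e : (![t, 1] : Fin 2 → F) = ![t, 0] + ![0, 1] := by
      funext i; fin_cases i <;> simp
    rw [e, smul_add, ← eq_sub_iff_add_eq] at h
    rw [h]
    funext i; fin_cases i <;> simp
  set φ : X → F → F := fun x a => (x • (![a, 0] : Fin 2 → F)) 0 with hφdef
  have hline : ∀ x a, x • (![a, 0] : Fin 2 → F) = ![φ x a, 0] := fun x a => by
    simp only [hφdef, hsnd]; simp
  have hφ1 : ∀ x, φ x 1 = 1 := fun x => by simp [hφdef, hfix x]
  have hvadd : ∀ a b : F, (![a + b, 0] : Fin 2 → F) = ![a, 0] + ![b, 0] := fun a b => by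
    funext i; fin_cases i <;> simp
  have hφadd : ∀ x a b, φ x (a + b) = φ x a + φ x b := fun x a b => by
    simp only [hφdef, hvadd, smul_add, Pi.add_apply]
  have hφmulX : ∀ x y a, φ (x * y) a = φ x (φ y a) := fun x y a => by
    show ((x * y) • (![a, 0] : Fin 2 → F)) 0 = _
    rw [mul_smul, hline y]
  have hφmul : ∀ x l a, φ x (l * a) = φ x l * φ x a := by
    intro x l a
    rcases eq_or_ne l 0 with rfl | hl
    · rw [zero_mul]
      have : φ x 0 = 0 := by simpa using hφadd x 0 0
      rw [this, zero_mul]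
    obtain ⟨g', hg'⟩ := hnorm x ⟨!![l, 0; 0, l⁻¹], by simp [Matrix.det_fin_two, hl]⟩
    have e : ∀ b : F, (!![l, 0; 0, l⁻¹] : Matrix (Fin 2) (Fin 2) F).mulVec ![b, 0] = ![l * b, 0] :=
      fun b => by funext i; fin_cases i <;> simp [Matrix.mulVec, dotProduct]
    have h1 : ∀ b, φ x (l * b) = g' 0 0 * φ x b := fun b => by
      have := congrFun (hg' ![b, 0]) 0
      rw [show ((⟨!![l, 0; 0, l⁻¹], _⟩ : SL(2, F)) : Matrix (Fin 2) (Fin 2) F).mulVec ![b, 0] = _ from
        e b, hline, hline] at this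
      simpa [Matrix.mulVec, dotProduct] using this
    rw [h1 a, ← mul_one l, h1 1, hφ1, mul_one]
  have hφ0 : ∀ x, φ x 0 = 0 := fun x => by simpa using hφadd x 0 0
  have hφinj : ∀ x a, φ x a = 0 → a = 0 := fun x a ha => by
    have e := hline x a
    rw [ha, show (![(0 : F), 0] : Fin 2 → F) = 0 by funext i; fin_cases i <;> simp,
      smul_eq_zero_iff_eq] at e
    simpa using congrFun e 0
  -- the field automorphism attached to each element
  let hom : X → (F →+* F) := fun x =>
    { toFun := φ x, map_one' := hφ1 x, map_mul' := hφmul x, map_zero' := hφ0 x,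
      map_add' := hφadd x }
  let Φ : X →* RingAut F :=
    { toFun := fun x =>
        RingEquiv.ofBijective (hom x)
          (Finite.injective_iff_bijective.1
            ((injective_iff_map_eq_zero (hom x)).2 fun a ha => hφinj x a ha))
      map_one' := RingEquiv.ext fun a => by
        show φ 1 a = a
        simp [hφdef]
      map_mul' := fun x y => RingEquiv.ext fun a => hφmulX x y a }
  have hΦ : ∀ x a, Φ x a = φ x a := fun x a => rfl
  -- the second coordinate
  set c : X → F := fun x => (x • (![0, 1] : Fin 2 → F)) 1 with hc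
  have hcτ : ∀ x t, φ x t = τ x t * c x := fun x t => by
    have := congrFun (hsnd x t) 0
    simpa [hφdef, hc] using this
  have hc0 : ∀ x, c x ≠ 0 := fun x e => by
    have := hcτ x 1
    rw [hφ1, e, mul_zero] at this
    exact hone this
  have hsplit : ∀ u : Fin 2 → F, u = ![u 0, 0] + ![0, u 1] := fun u => by
    funext i; fin_cases i <;> simp
  have hmu : ∀ x (u : Fin 2 → F), (x • u) 1 = c x * φ x (u 1) := by
    intro x u
    set b := u 1
    conv_lhs => rw [hsplit u, smul_add, hline]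
    have h := hτ x b ![0, 1]
    simp only [cons_val_zero, cons_val_one, zero_add, mul_one] at h
    have key : ∀ t : F, φ x (t * b) = τ x t * (x • (![0, b] : Fin 2 → F)) 1 := fun t => by
      have h := hτ x t ![0, b]
      simp only [cons_val_zero, cons_val_one, zero_add] at h
      have e : (![t * b, b] : Fin 2 → F) = ![t * b, 0] + ![0, b] := by
        funext i; fin_cases i <;> simp
      rw [e, smul_add, hline, ← eq_sub_iff_add_eq] at h
      simpa using congrFun h 0
    have h1 := key 1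
    rw [one_mul] at h1
    have h2 := hcτ x 1
    rw [hφ1] at h2
    simp only [Pi.add_apply, cons_val_one, cons_val_zero, zero_add]
    calc (x • (![0, b] : Fin 2 → F)) 1 = (τ x 1 * c x) * (x • (![0, b] : Fin 2 → F)) 1 := by
          rw [← h2, one_mul]
      _ = c x * φ x b := by rw [h1]; ring
  -- the kernel of `Φ` consists of transvections
  have hker : ∀ x, Φ x = 1 → ∃ n : F, ∀ u : Fin 2 → F, x • u = ![u 0 + n * u 1, u 1] := by
    intro x hx
    have hid : ∀ a, φ x a = a := fun a => by rw [← hΦ, hx]; rfl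
    have hc1 : c x = 1 := by
      have hk : ∀ k : ℕ, (x ^ k • (![0, 1] : Fin 2 → F)) 1 = c x ^ k := fun k => by
        induction k with
        | zero => simp
        | succ k ih => rw [pow_succ', mul_smul, hmu, ih, hid, pow_succ']
      have h1 := hk p
      rw [hpow, one_smul] at h1
      rw [show (![0, 1] : Fin 2 → F) 1 = 1 from rfl] at h1
      haveI := hchar
      have h2 : (c x - 1) ^ p = 0 := by rw [sub_pow_char, one_pow, ← h1, sub_self]
      exact sub_eq_zero.1 (eq_zero_of_pow_eq_zero h2)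
    set ν : F → F := fun b => (x • (![0, b] : Fin 2 → F)) 0 with hν
    have hgen : ∀ u : Fin 2 → F, x • u = ![u 0 + ν (u 1), u 1] := fun u => by
      funext i
      fin_cases i
      · conv_lhs => rw [hsplit u, smul_add, hline, hid]
        simp [hν]
      · simp [hmu, hc1, hid]
    have hνadd : ∀ a b, ν (a + b) = ν a + ν b := fun a b => by
      have e : (![0, a + b] : Fin 2 → F) = ![0, a] + ![0, b] := by
        funext i; fin_cases i <;> simp
      show (x • (![0, a + b] : Fin 2 → F)) 0 = _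
      rw [e, smul_add, Pi.add_apply]
    have hν0 : ν 0 = 0 := by simpa using hνadd 0 0
    obtain ⟨g', hg'⟩ := hnorm x ⟨!![1, 0; 1, 1], by simp [Matrix.det_fin_two]⟩
    have hlow : ∀ u : Fin 2 → F,
        (!![1, 0; 1, 1] : Matrix (Fin 2) (Fin 2) F).mulVec u = ![u 0, u 0 + u 1] := fun u => by
      funext i; fin_cases i <;> simp [Matrix.mulVec, dotProduct]
    have h10 : ∀ u : Fin 2 → F, g' 1 0 * (u 0 + ν (u 1)) + g' 1 1 * u 1 = u 0 + u 1 := fun u => by
      have := congrFun (hg' u) 1
      rw [show ((⟨!![1, 0; 1, 1], _⟩ : SL(2, F)) : Matrix (Fin 2) (Fin 2) F).mulVec u = _ from hlow u,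
        hgen, hgen] at this
      simpa [Matrix.mulVec, dotProduct] using this.symm
    have ha := h10 ![1, 0]
    simp only [cons_val_zero, cons_val_one, hν0, add_zero, mul_one, mul_zero] at ha
    refine ⟨ν 1, fun u => ?_⟩
    rw [hgen u]
    congr 1
    have hb := h10 ![0, u 1]
    have hb1 := h10 ![0, 1]
    simp only [cons_val_zero, cons_val_one, zero_add, ha, one_mul, mul_one] at hb hb1
    have : ν (u 1) = ν 1 * u 1 := by linear_combination hb - u 1 * hb1
    rw [this]
  choose! n hn using hker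
  have hn0 : ∀ x, Φ x = 1 → n x = 0 → x = 1 := fun x hx h0 => by
    refine FaithfulSMul.eq_of_smul_eq_smul (α := Fin 2 → F) fun u => ?_
    rw [hn x hx, h0, one_smul, zero_mul, add_zero]
    funext i; fin_cases i <;> simp
  by_cases htriv : ∀ x, Φ x = 1
  · refine ⟨?_, fun _ x => ⟨upperSL (n x), fun u => by rw [hn x (htriv x), upperSL_mulVec]⟩⟩
    by_cases h1 : ∀ x : X, x = 1
    · haveI : Subsingleton X := ⟨fun a b => (h1 a).trans (h1 b).symm⟩
      rw [Nat.card_unique, one_mul]
      refine (Nat.card_le_card_of_injective _ Subtype.val_injective).trans ?_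
      simp [Nat.card_eq_fintype_card]
    push Not at h1
    obtain ⟨y, hy⟩ := h1
    have hX : Nat.card X ≤ Nat.card F := by
      refine Nat.card_le_card_of_injective n fun a b e => ?_
      refine FaithfulSMul.eq_of_smul_eq_smul (α := Fin 2 → F) fun u => ?_
      rw [hn a (htriv a), hn b (htriv b), e]
    have hC : Nat.card {u : Fin 2 → F // ∀ x : X, x • u = u} ≤ Nat.card F := by
      have h0 : ∀ u : {u : Fin 2 → F // ∀ x : X, x • u = u}, (u : Fin 2 → F) 1 = 0 := fun u => by
        have := congrFun (u.2 y) 0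
        rw [hn y (htriv y)] at this
        exact (by simpa using this : n y = 0 ∨ (u : Fin 2 → F) 1 = 0).resolve_left
          fun e => hy (hn0 y (htriv y) e)
      refine Nat.card_le_card_of_injective (fun u => (u : Fin 2 → F) 0) fun a b e => Subtype.ext ?_
      funext i; fin_cases i
      · exact e
      · exact (h0 a).trans (h0 b).symm
    calc _ ≤ Nat.card F * Nat.card F := Nat.mul_le_mul hX hC
      _ = _ := (sq _).symm
  -- a nontrivial group of field automorphisms
  push Not at htriv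
  obtain ⟨x₁, hx₁⟩ := htriv
  set 𝔾 : Subgroup (RingAut F) := Φ.range
  haveI : Finite (RingAut F) := Finite.of_injective (fun e => (e : F → F)) DFunLike.coe_injective
  haveI := Fintype.ofFinite 𝔾
  haveI : FaithfulSMul 𝔾 F := ⟨fun h => Subtype.ext (RingEquiv.ext h)⟩
  set K₀ := FixedPoints.subfield 𝔾 F
  set q₀ := Nat.card K₀ with hq₀
  have hg2 : 2 ≤ Fintype.card 𝔾 :=
    Fintype.one_lt_card_iff.2 ⟨1, ⟨Φ x₁, x₁, rfl⟩, fun e => hx₁ (congrArg Subtype.val e).symm⟩
  have hq : Nat.card F = q₀ ^ Fintype.card 𝔾 := by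
    rw [← FixedPoints.finrank_eq_card 𝔾 F, hq₀]
    exact Module.natCard_eq_pow_finrank (K := K₀) (V := F)
  have hq02 : 2 ≤ q₀ := Finite.one_lt_card
  have hratio : ∀ a b : F, a ≠ 0 → (∀ x, ∃ k, φ x a = k * a ∧ φ x b = k * b) → b / a ∈ K₀ := by
    intro a b ha h g
    obtain ⟨g, x, rfl⟩ := g
    obtain ⟨k, h1, h2⟩ := h x
    show Φ x (b / a) = b / a
    rw [hΦ, ← mul_div_cancel_right₀ (φ x (b / a)) (show k * a ≠ 0 from h1 ▸ fun e => ha (hφinj x a e)),
      ← h1, ← hφmul, div_mul_cancel₀ b ha, h2, h1]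
    have hk : k ≠ 0 := fun e => ha (hφinj x a (by rw [h1, e, zero_mul]))
    field_simp
  have hcardK : ∀ (S : Set F), (∀ a ∈ S, ∀ b ∈ S, a ≠ 0 → b / a ∈ K₀) → Nat.card S ≤ q₀ := by
    intro S hS
    by_cases h0 : ∃ a ∈ S, a ≠ 0
    · obtain ⟨a, ha, ha0⟩ := h0
      exact Nat.card_le_card_of_injective (fun b : S => (⟨(b : F) / a, hS a ha b b.2 ha0⟩ : K₀))
        fun b b' e => Subtype.ext ((div_left_inj' ha0).1 (congrArg Subtype.val e))
    · push Not at h0
      haveI : Subsingleton S := ⟨fun a b => Subtype.ext ((h0 a a.2).trans (h0 b b.2).symm)⟩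
      exact (Finite.card_le_one_iff_subsingleton.2 inferInstance).trans (by omega)
  set N := Φ.ker with hN
  have hswap : ∀ (x : X) (a : N), φ x (n a) = c x * n a := by
    intro x a
    have h1 : x • ((a : X) • (![0, 1] : Fin 2 → F)) = (a : X) • (x • ![0, 1]) := by
      rw [← mul_smul, ← mul_smul, hcomm]
    rw [hn a a.2, hn a a.2] at h1
    have e : (![(![0, 1] : Fin 2 → F) 0 + n a * (![0, 1] : Fin 2 → F) 1, (![0, 1] : Fin 2 → F) 1] :
        Fin 2 → F) = ![n a, 0] + ![0, 1] := by
      funext i; fin_cases i <;> simp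
    rw [e, smul_add, hline] at h1
    have h2 := congrFun h1 0
    simp only [Pi.add_apply, cons_val_zero] at h2
    rw [add_comm ((x • (![0, 1] : Fin 2 → F)) 0), add_left_inj] at h2
    rw [h2, hc, mul_comm]
  have hNcard : Nat.card N ≤ q₀ := by
    refine le_trans ?_ (hcardK (Set.range fun x : N => n x) ?_)
    · refine Nat.card_le_card_of_injective (fun x : N => (⟨n x, x, rfl⟩ : Set.range fun x : N => n x))
        fun a b e => Subtype.ext ?_
      refine FaithfulSMul.eq_of_smul_eq_smul (α := Fin 2 → F) fun u => ?_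
      rw [hn a a.2, hn b b.2, show n a = n b from congrArg Subtype.val e]
    · rintro _ ⟨a, rfl⟩ _ ⟨b, rfl⟩ ha
      refine hratio _ _ ha fun x => ⟨c x, ?_, ?_⟩
      · exact hswap x a
      · exact hswap x b
  set C := {u : Fin 2 → F // ∀ x : X, x • u = u}
  have hC0 : ∀ u : C, (u : Fin 2 → F) 1 = 0 → (u : Fin 2 → F) 0 ∈ K₀ := fun u h1 g => by
    obtain ⟨g, x, rfl⟩ := g
    show Φ x _ = _
    have e : (u : Fin 2 → F) = ![(u : Fin 2 → F) 0, 0] := by
      funext i; fin_cases i <;> simp [h1]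
    have h2 := u.2 x
    rw [e, hline] at h2
    exact congrFun h2 0
  have hNC : Nat.card N * Nat.card C ≤ q₀ * q₀ := by
    by_cases hbot : ∀ u : C, (u : Fin 2 → F) 1 = 0
    · refine Nat.mul_le_mul hNcard (Nat.card_le_card_of_injective
        (fun u => (⟨(u : Fin 2 → F) 0, hC0 u (hbot u)⟩ : K₀)) fun a b e => Subtype.ext ?_)
      funext i; fin_cases i
      · exact congrArg Subtype.val e
      · exact (hbot a).trans (hbot b).symm
    push Not at hbot
    obtain ⟨u, hu⟩ := hbot
    have hN1 : Nat.card N = 1 := by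
      refine Nat.card_eq_one_iff_exists.2 ⟨1, fun a => Subtype.ext (hn0 a a.2 ?_)⟩
      have h1 := congrFun (u.2 (a : X)) 0
      rw [hn a a.2] at h1
      simpa [hu] using h1
    rw [hN1, one_mul]
    set S : Set F := Set.range fun v : C => (v : Fin 2 → F) 1 with hS
    have hSr : ∀ a ∈ S, ∀ b ∈ S, a ≠ 0 → b / a ∈ K₀ := by
      rintro _ ⟨a, rfl⟩ _ ⟨b, rfl⟩ ha
      refine hratio _ _ ha fun x => ⟨(c x)⁻¹, ?_, ?_⟩
      · have h1 := congrFun (a.2 x) 1
        rw [hmu] at h1
        rw [eq_inv_mul_iff_mul_eq₀ (hc0 x), h1]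
      · have h1 := congrFun (b.2 x) 1
        rw [hmu] at h1
        rw [eq_inv_mul_iff_mul_eq₀ (hc0 x), h1]
    let pr : S → C := fun s => Classical.choose s.2
    have hpr : ∀ s : S, ((pr s : Fin 2 → F)) 1 = s := fun s => Classical.choose_spec s.2
    have hfixsub : ∀ (v : C) (x : X),
        x • ((v : Fin 2 → F) - pr ⟨(v : Fin 2 → F) 1, v, rfl⟩) =
          (v : Fin 2 → F) - pr ⟨(v : Fin 2 → F) 1, v, rfl⟩ := fun v x => by
      rw [smul_sub, v.2 x, (pr _).2 x]
    let f : C → S × K₀ := fun v => (⟨(v : Fin 2 → F) 1, v, rfl⟩,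
      ⟨((v : Fin 2 → F) - pr ⟨(v : Fin 2 → F) 1, v, rfl⟩) 0,
        hC0 ⟨_, hfixsub v⟩ (by simp [hpr])⟩)
    have hf : Function.Injective f := by
      intro a b e
      have e1 : (⟨(a : Fin 2 → F) 1, a, rfl⟩ : S) = ⟨(b : Fin 2 → F) 1, b, rfl⟩ := congrArg Prod.fst e
      have e2 := congrArg Subtype.val (congrArg Prod.snd e)
      simp only [f, Pi.sub_apply, e1, sub_left_inj] at e2
      refine Subtype.ext (funext fun i => ?_)
      fin_cases i
      · exact e2
      · exact congrArg Subtype.val e1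
    refine (Nat.card_le_card_of_injective f hf).trans ?_
    rw [Nat.card_prod]
    exact Nat.mul_le_mul_right _ (hcardK S hSr)
  have hX : Nat.card X = Fintype.card 𝔾 * Nat.card N := by
    rw [← Nat.card_eq_fintype_card, N.card_eq_card_quotient_mul_card_subgroup,
      Nat.card_congr (QuotientGroup.quotientKerEquivRange Φ).toEquiv]
  have hlt : Nat.card X * Nat.card C < Nat.card F ^ 2 := by
    rw [hX, hq, mul_assoc, ← pow_mul]
    set g := Fintype.card 𝔾
    calc g * (Nat.card N * Nat.card C) ≤ g * (q₀ * q₀) := Nat.mul_le_mul_left _ hNC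
      _ < q₀ ^ g * (q₀ * q₀) := Nat.mul_lt_mul_of_pos_right
          (lt_of_lt_of_le Nat.lt_two_pow_self (Nat.pow_le_pow_left hq02 g)) (by positivity)
      _ = q₀ ^ (g + 2) := by ring
      _ ≤ q₀ ^ (g * 2) := Nat.pow_le_pow_right (by omega) (by omega)
  exact ⟨hlt.le, fun h => absurd h (not_le.2 hlt)⟩

/-- The action moved by an element of `SL₂`. -/
@[reducible] def conjSL (g : SL(2, F)) : DistribMulAction X (Fin 2 → F) where
  smul x u := (g : Matrix (Fin 2) (Fin 2) F).mulVec
    (x • ((g⁻¹ : SL(2, F)) : Matrix (Fin 2) (Fin 2) F).mulVec u)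
  one_smul u := by
    show (g : Matrix (Fin 2) (Fin 2) F).mulVec ((1 : X) • _) = u
    rw [one_smul, Matrix.mulVec_mulVec, ← Matrix.SpecialLinearGroup.coe_mul, mul_inv_cancel,
      Matrix.SpecialLinearGroup.coe_one, Matrix.one_mulVec]
  mul_smul x y u := by
    show (g : Matrix (Fin 2) (Fin 2) F).mulVec ((x * y) • _) =
      (g : Matrix (Fin 2) (Fin 2) F).mulVec (x • ((g⁻¹ : SL(2, F)) : Matrix (Fin 2) (Fin 2) F).mulVec
        ((g : Matrix (Fin 2) (Fin 2) F).mulVec (y • _)))
    rw [Matrix.mulVec_mulVec _ ((g⁻¹ : SL(2, F)) : Matrix (Fin 2) (Fin 2) F),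
      ← Matrix.SpecialLinearGroup.coe_mul, inv_mul_cancel, Matrix.SpecialLinearGroup.coe_one,
      Matrix.one_mulVec, mul_smul]
  smul_zero x := by
    show (g : Matrix (Fin 2) (Fin 2) F).mulVec (x • _) = 0
    rw [Matrix.mulVec_zero, smul_zero, Matrix.mulVec_zero]
  smul_add x u v := by
    show (g : Matrix (Fin 2) (Fin 2) F).mulVec (x • _) =
      (g : Matrix (Fin 2) (Fin 2) F).mulVec (x • _) + (g : Matrix (Fin 2) (Fin 2) F).mulVec (x • _)
    rw [Matrix.mulVec_add, smul_add, Matrix.mulVec_add]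

/-- An elementary abelian group normalizing `SL₂` on the natural module. -/
theorem sl2_bound (hchar : CharP F p) (hcomm : ∀ x y : X, x * y = y * x)
    (hpow : ∀ x : X, x ^ p = 1)
    (hnorm : ∀ (x : X) (g : SL(2, F)), ∃ g' : SL(2, F), ∀ u : Fin 2 → F,
      x • ((g : Matrix (Fin 2) (Fin 2) F).mulVec u) = (g' : Matrix (Fin 2) (Fin 2) F).mulVec (x • u)) :
    Nat.card X * Nat.card {u : Fin 2 → F // ∀ x : X, x • u = u} ≤ Nat.card F ^ 2 ∧
      (Nat.card F ^ 2 ≤ Nat.card X * Nat.card {u : Fin 2 → F // ∀ x : X, x • u = u} →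
        ∀ x : X, ∃ g : SL(2, F), ∀ u : Fin 2 → F,
          x • u = (g : Matrix (Fin 2) (Fin 2) F).mulVec u) := by
  classical
  haveI := Fintype.ofFinite F
  haveI := hchar
  have hX : IsPGroup p X := fun x => ⟨1, by rw [pow_one, hpow]⟩
  obtain ⟨w, hw, hw0⟩ := hX.exists_fixed_point_of_prime_dvd_card_of_fixed_point (Fin 2 → F)
    (by
      obtain ⟨n, -, hn⟩ := FiniteField.card F p
      rw [Nat.card_eq_fintype_card, Fintype.card_fun, hn, Fintype.card_fin, ← pow_mul]
      exact dvd_pow_self p (by have := n.pos; omega))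
    (a := (0 : Fin 2 → F)) (fun x => smul_zero x)
  obtain ⟨g, hg⟩ := exists_upper w (Ne.symm hw0)
  set A : Matrix (Fin 2) (Fin 2) F := (g : Matrix (Fin 2) (Fin 2) F)
  set B : Matrix (Fin 2) (Fin 2) F := ((g⁻¹ : SL(2, F)) : Matrix (Fin 2) (Fin 2) F)
  have hAB : ∀ u, A.mulVec (B.mulVec u) = u := fun u => by
    rw [Matrix.mulVec_mulVec, ← Matrix.SpecialLinearGroup.coe_mul, mul_inv_cancel,
      Matrix.SpecialLinearGroup.coe_one, Matrix.one_mulVec]
  have hBA : ∀ u, B.mulVec (A.mulVec u) = u := fun u => by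
    rw [Matrix.mulVec_mulVec, ← Matrix.SpecialLinearGroup.coe_mul, inv_mul_cancel,
      Matrix.SpecialLinearGroup.coe_one, Matrix.one_mulVec]
  let act : X → (Fin 2 → F) → (Fin 2 → F) := fun x u => A.mulVec (x • B.mulVec u)
  obtain ⟨h1, h2⟩ := @sl2_bound_aux F _ _ p _ X _ _ (conjSL g)
    (@FaithfulSMul.mk X (Fin 2 → F) (conjSL (X := X) g).toSMul fun {x y} e =>
      FaithfulSMul.eq_of_smul_eq_smul (α := Fin 2 → F) fun u => by
        have h1 : A.mulVec (x • B.mulVec (A.mulVec u)) = A.mulVec (y • B.mulVec (A.mulVec u)) :=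
          e (A.mulVec u)
        rw [hBA] at h1
        have h2 := congrArg (fun v => B.mulVec v) h1
        simpa only [hBA] using h2) hchar hcomm hpow
    (fun x k => by
      obtain ⟨k', hk'⟩ := hnorm x (g⁻¹ * k * g)
      refine ⟨g * k' * g⁻¹, fun u => ?_⟩
      show A.mulVec (x • B.mulVec ((k : Matrix (Fin 2) (Fin 2) F).mulVec u)) =
        ((g * k' * g⁻¹ : SL(2, F)) : Matrix (Fin 2) (Fin 2) F).mulVec (A.mulVec (x • B.mulVec u))
      have e1 : B.mulVec ((k : Matrix (Fin 2) (Fin 2) F).mulVec u) =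
          ((g⁻¹ * k * g : SL(2, F)) : Matrix (Fin 2) (Fin 2) F).mulVec (B.mulVec u) := by
        simp only [Matrix.SpecialLinearGroup.coe_mul, ← Matrix.mulVec_mulVec]
        exact (congrArg (fun v => B.mulVec ((k : Matrix (Fin 2) (Fin 2) F).mulVec v)) (hAB u)).symm
      rw [e1, hk']
      simp only [Matrix.SpecialLinearGroup.coe_mul, ← Matrix.mulVec_mulVec]
      exact congrArg (fun v => A.mulVec ((k' : Matrix (Fin 2) (Fin 2) F).mulVec v)) (hBA _).symm)
    (fun x => by
      show A.mulVec (x • B.mulVec ![1, 0]) = ![1, 0]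
      rw [← hg, hBA, hw x])
  let e : {u : Fin 2 → F // ∀ x : X, act x u = u} ≃ {u : Fin 2 → F // ∀ x : X, x • u = u} :=
    { toFun := fun u => ⟨B.mulVec u, fun x => by
        have := congrArg (fun v => B.mulVec v) (u.2 x)
        simpa only [act, hBA] using this⟩
      invFun := fun u => ⟨A.mulVec u, fun x => by
        show A.mulVec (x • B.mulVec (A.mulVec u)) = _
        rw [hBA, u.2 x]⟩
      left_inv := fun u => Subtype.ext (hAB _)
      right_inv := fun u => Subtype.ext (hBA _) }
  have hc := Nat.card_congr e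
  refine ⟨(congrArg (Nat.card X * ·) hc).symm.le.trans h1, fun h x => ?_⟩
  obtain ⟨k, hk⟩ := h2 (h.trans (congrArg (Nat.card X * ·) hc).symm.le) x
  refine ⟨g⁻¹ * k * g, fun u => ?_⟩
  have h0 : A.mulVec (x • B.mulVec (A.mulVec u)) = (k : Matrix (Fin 2) (Fin 2) F).mulVec (A.mulVec u) :=
    hk (A.mulVec u)
  have := congrArg (fun v => B.mulVec v) h0
  simp only [Matrix.SpecialLinearGroup.coe_mul, ← Matrix.mulVec_mulVec]
  rw [show B.mulVec (A.mulVec (x • B.mulVec (A.mulVec u))) = x • u by rw [hBA, hBA]] at this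
  exact this

end CfsgLib.FFModules.MinimalParabolic
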