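import Mathlib.GroupTheory.Perm.Sign
import Mathlib.GroupTheory.Perm.Cycle.Type
import Mathlib.Algebra.Field.ZMod
import Mathlib.Algebra.BigOperators.Pi

/-!
An elementary abelian two-group normalizing a symmetric group of odd degree on its even module
lies in that symmetric group and has at most as many elements as the index of its fixed points.
-/

set_option autoImplicit false
set_option linter.style.haveILetI false
set_option linter.unusedSectionVars false

namespace CfsgLib.FFModules.MinimalParabolic

theorem zmodTwo_cases (c : ZMod 2) : c = 0 ∨ c = 1 := by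
  revert c; decide

theorem zmodTwo_of_ne : ∀ a b : ZMod 2, a ≠ b → b = a + 1 ∧ a + b = 1 := by decide

theorem two_mul_le_two_pow' (a : ℕ) (ha : 1 ≤ a) : a * 2 ≤ 2 ^ a := by
  induction a with
  | zero => omega
  | succ a ih =>
    rcases Nat.eq_zero_or_pos a with rfl | h
    · norm_num
    · have := ih h
      rw [pow_succ]
      omega

/-- The vectors of even weight. -/
def evenVec (m : ℕ) : AddSubgroup (Fin m → ZMod 2) where
  carrier := {v | ∑ i, v i = 0}
  zero_mem' := by simp
  add_mem' {u v} hu hv := by
    simp only [Set.mem_setOf_eq, Pi.add_apply, Finset.sum_add_distrib] at *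
    rw [hu, hv, add_zero]
  neg_mem' {u} hu := by
    simp only [Set.mem_setOf_eq, Pi.neg_apply, Finset.sum_neg_distrib] at *
    rw [hu, neg_zero]

/-- The permutation action on vectors of even weight. -/
def permV {m : ℕ} (σ : Equiv.Perm (Fin m)) (v : evenVec m) : evenVec m :=
  ⟨fun i => (v : Fin m → ZMod 2) (σ⁻¹ i), by
    show ∑ i, (v : Fin m → ZMod 2) (σ⁻¹ i) = 0
    rw [Equiv.sum_comp σ⁻¹ (v : Fin m → ZMod 2)]
    exact v.2⟩

@[simp] theorem permV_apply {m : ℕ} (σ : Equiv.Perm (Fin m)) (v : evenVec m) (i : Fin m) :
    (permV σ v : Fin m → ZMod 2) i = (v : Fin m → ZMod 2) (σ⁻¹ i) := rfl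

theorem permV_mul {m : ℕ} (σ τ : Equiv.Perm (Fin m)) (v : evenVec m) :
    permV (σ * τ) v = permV σ (permV τ v) :=
  Subtype.ext (funext fun i => by simp [mul_inv_rev])

theorem permV_one {m : ℕ} (v : evenVec m) : permV 1 v = v :=
  Subtype.ext (funext fun i => by simp)

/-- The vector of a pair. -/
def prVec {m : ℕ} (i j : Fin m) : evenVec m :=
  ⟨Pi.single i 1 + Pi.single j 1, by
    show ∑ k, ((Pi.single i (1 : ZMod 2) : Fin m → ZMod 2) k + (Pi.single j 1 : Fin m → ZMod 2) k) = 0
    rw [Finset.sum_add_distrib, Finset.sum_pi_single', Finset.sum_pi_single']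
    simp only [Finset.mem_univ, if_true]
    decide⟩

theorem prVec_apply {m : ℕ} (i j k : Fin m) :
    (prVec i j : Fin m → ZMod 2) k = (if k = i then 1 else 0) + (if k = j then 1 else 0) := by
  simp [prVec, Pi.single_apply]

theorem permV_prVec {m : ℕ} (σ : Equiv.Perm (Fin m)) (i j : Fin m) :
    permV σ (prVec i j) = prVec (σ i) (σ j) :=
  Subtype.ext (funext fun k => by
    rw [permV_apply, prVec_apply, prVec_apply]
    simp only [Equiv.Perm.inv_def, Equiv.symm_apply_eq])

theorem exists_third {m : ℕ} (h3 : 3 ≤ m) (a b : Fin m) : ∃ c : Fin m, c ≠ a ∧ c ≠ b := by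
  have : ({a, b} : Finset (Fin m)).card < (Finset.univ : Finset (Fin m)).card := by
    rw [Finset.card_univ, Fintype.card_fin]
    have := Finset.card_le_two (a := a) (b := b)
    omega
  obtain ⟨c, -, hc⟩ := Finset.exists_mem_notMem_of_card_lt_card this
  simp only [Finset.mem_insert, Finset.mem_singleton, not_or] at hc
  exact ⟨c, hc⟩

theorem permV_injective {m : ℕ} (h3 : 3 ≤ m) {σ τ : Equiv.Perm (Fin m)}
    (h : ∀ v, permV σ v = permV τ v) : σ = τ := by
  refine Equiv.ext fun a => ?_
  by_contra hne
  obtain ⟨b, hb1, hb2⟩ := exists_third h3 a (τ⁻¹ (σ a))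
  have e := congrArg (fun v : evenVec m => (v : Fin m → ZMod 2) (σ a)) (h (prVec a b))
  simp only [permV_prVec, prVec_apply] at e
  have h1 : σ a ≠ σ b := σ.injective.ne hb1.symm
  have h2 : σ a ≠ τ b := fun e' => hb2 (by rw [e', Equiv.Perm.inv_def, Equiv.symm_apply_apply])
  simp [h1, h2, hne] at e

variable {m : ℕ} {X : Type*} [Group X] [Finite X]
variable [DistribMulAction X (evenVec m)] [FaithfulSMul X (evenVec m)]

/-- An elementary abelian two-group normalizing the symmetric group on the even module. -/
theorem sym_bound (h3 : 3 ≤ m) (hodd : Odd m) (hcomm : ∀ x y : X, x * y = y * x)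
    (hnorm : ∀ (x : X) (σ : Equiv.Perm (Fin m)), ∃ σ' : Equiv.Perm (Fin m), ∀ v : evenVec m,
      x • permV σ v = permV σ' (x • v)) :
    Nat.card X * Nat.card {v : evenVec m // ∀ x : X, x • v = v} ≤ Nat.card (evenVec m) ∧
      ∀ x : X, ∃ σ : Equiv.Perm (Fin m), ∀ v : evenVec m, x • v = permV σ v := by
  classical
  haveI : Fact (Nat.Prime 2) := ⟨Nat.prime_two⟩
  have htwo : ∀ c : ZMod 2, c + c = 0 := fun c => by
    rcases zmodTwo_cases c with rfl | rfl <;> rfl
  have hpair0 : ∀ {i j : Fin m}, i ≠ j → (prVec i j : Fin m → ZMod 2) i = 1 := fun {i j} h => by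
    simp [prVec_apply, h]
  have hsmulz : ∀ (x : X) (c : ZMod 2) (v : evenVec m), x • (c.val • v) = c.val • (x • v) :=
    fun x c v => map_nsmul (DistribSMul.toAddMonoidHom (evenVec m) x) _ v
  -- pairs go to pairs
  have hpairs : ∀ (x : X) (i j : Fin m), i ≠ j → ∃ a b, a ≠ b ∧ x • prVec i j = prVec a b := by
    intro x i j hij
    obtain ⟨σ', hσ'⟩ := hnorm x (Equiv.swap i j)
    have hswap : ∀ v : evenVec m, permV (Equiv.swap i j) v = v ∨
        permV (Equiv.swap i j) v = v + prVec i j := by
      intro v
      rcases eq_or_ne ((v : Fin m → ZMod 2) i) ((v : Fin m → ZMod 2) j) with e | e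
      · refine Or.inl (Subtype.ext (funext fun k => ?_))
        rw [permV_apply, Equiv.swap_inv]
        rcases eq_or_ne k i with rfl | h1
        · rw [Equiv.swap_apply_left, e]
        rcases eq_or_ne k j with rfl | h2
        · rw [Equiv.swap_apply_right, e]
        rw [Equiv.swap_apply_of_ne_of_ne h1 h2]
      · have e1 := (zmodTwo_of_ne _ _ e).1
        refine Or.inr (Subtype.ext (funext fun k => ?_))
        rw [permV_apply, Equiv.swap_inv, AddSubgroup.coe_add, Pi.add_apply, prVec_apply]
        rcases eq_or_ne k i with rfl | h1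
        · rw [Equiv.swap_apply_left, if_pos rfl, if_neg hij, add_zero, e1]
        rcases eq_or_ne k j with rfl | h2
        · rw [Equiv.swap_apply_right, if_neg h1, if_pos rfl, zero_add, e1, add_assoc, htwo, add_zero]
        rw [Equiv.swap_apply_of_ne_of_ne h1 h2, if_neg h1, if_neg h2, add_zero, add_zero]
    set u := x • prVec i j
    have himg : ∀ w : evenVec m, permV σ' w = w ∨ permV σ' w = w + u := fun w => by
      have e := hσ' (x⁻¹ • w)
      rw [smul_inv_smul] at e
      rcases hswap (x⁻¹ • w) with h | h <;> rw [h] at e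
      · rw [smul_inv_smul] at e; exact Or.inl e.symm
      · rw [smul_add, smul_inv_smul] at e; exact Or.inr e.symm
    have hsq : σ' ^ (2 ^ 1) = 1 := by
      refine permV_injective h3 fun w => ?_
      rw [pow_one, sq, permV_mul, permV_one]
      have e1 := hσ' (x⁻¹ • w)
      rw [smul_inv_smul] at e1
      rw [← e1, ← hσ', ← permV_mul, Equiv.swap_mul_self, permV_one, smul_inv_smul]
    have hne : σ' ≠ 1 := fun e => by
      subst e
      have e1 : Equiv.swap i j = 1 := permV_injective h3 fun v => by
        have := hσ' v
        rw [permV_one] at this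
        rw [permV_one]
        exact (smul_left_cancel_iff x).1 this
      exact hij (by simpa using (congrArg (fun σ => σ i) e1).symm)
    obtain ⟨k, hk⟩ := Equiv.Perm.exists_fixed_point_of_prime (p := 2) (n := 1)
      (by rw [Fintype.card_fin]; obtain ⟨r, hr⟩ := hodd; omega) hsq
    obtain ⟨a, ha⟩ : ∃ a, σ' a ≠ a := by
      by_contra hh
      push Not at hh
      exact hne (Equiv.ext fun a => by simp [hh a])
    have hka : k ≠ a := fun e => ha (e ▸ hk)
    have hσk : σ' a ≠ k := fun e => ha (by rw [σ'.injective (e.trans hk.symm)]; exact hk)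
    refine ⟨σ' a, a, ha, ?_⟩
    have h1 := himg (prVec a k)
    rw [permV_prVec, hk] at h1
    rcases h1 with h1 | h1
    · have := congrArg (fun v : evenVec m => (v : Fin m → ZMod 2) a) h1
      simp only [prVec_apply] at this
      simp [Ne.symm ha, hka.symm] at this
    · have e1 : u = prVec (σ' a) k + prVec a k := by
        rw [h1, add_comm (prVec a k) u, add_assoc]
        refine (add_eq_left.2 (Subtype.ext (funext fun r => ?_))).symm
        exact htwo _
      rw [e1]
      refine Subtype.ext (funext fun r => ?_)
      rw [AddSubgroup.coe_add, Pi.add_apply, prVec_apply, prVec_apply, prVec_apply,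
        add_add_add_comm, htwo, add_zero]
  -- each element is a permutation
  have hperm : ∀ x : X, ∃ σ : Equiv.Perm (Fin m), ∀ v : evenVec m, x • v = permV σ v := by
    intro x
    have hp : ∀ p, ∃ π, ∀ v : evenVec m, (x • v : evenVec m).1 p = (v : Fin m → ZMod 2) π := by
      intro p
      let φ : evenVec m →+ ZMod 2 :=
        { toFun := fun v => (x • v : evenVec m).1 p
          map_zero' := by rw [smul_zero]; rfl
          map_add' := fun v w => by rw [smul_add]; rfl }
      let k : Fin m := ⟨0, by omega⟩
      set g : Fin m → ZMod 2 := fun r => φ (prVec r k) with hg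
      have hdec : ∀ v : evenVec m, φ v = ∑ r, (v : Fin m → ZMod 2) r * g r := by
        intro v
        have e : v = ∑ r, ((v : Fin m → ZMod 2) r).val • prVec r k := by
          refine Subtype.ext (funext fun s => ?_)
          rw [AddSubgroup.val_finsetSum, Finset.sum_apply]
          simp only [AddSubgroup.coe_nsmul, Pi.smul_apply, prVec_apply, nsmul_eq_mul, ZMod.natCast_val,
            ZMod.cast_id', id_eq, mul_add, Finset.sum_add_distrib, mul_ite, mul_one, mul_zero,
            Finset.sum_ite_eq, Finset.mem_univ, if_true]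
          have hv : ∑ r, (v : Fin m → ZMod 2) r = 0 := v.2
          by_cases hs : s = k <;> simp [hs, hv]
        conv_lhs => rw [e, map_sum]
        refine Finset.sum_congr rfl fun r _ => ?_
        rw [map_nsmul, nsmul_eq_mul, ZMod.natCast_val, ZMod.cast_id', id_eq]
      have hpr : ∀ r s, φ (prVec r s) = g r + g s := fun r s => by
        simp only [hg, ← map_add]
        congr 1
        refine Subtype.ext (funext fun t => ?_)
        rw [AddSubgroup.coe_add, Pi.add_apply, prVec_apply, prVec_apply, prVec_apply,
          add_add_add_comm, htwo, add_zero]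
      obtain ⟨π, hπ⟩ : ∃ π, ∀ r, r ≠ π → g r ≠ g π := by
        by_contra hno
        push Not at hno
        by_cases hconst : ∀ r, g r = g k
        · obtain ⟨q, hq, -⟩ := exists_third h3 p p
          have h1 : φ (x⁻¹ • prVec p q) = 1 := by
            show (x • x⁻¹ • prVec p q : evenVec m).1 p = 1
            rw [smul_inv_smul]
            exact hpair0 hq.symm
          rw [hdec] at h1
          rw [Finset.sum_congr rfl fun r _ => by rw [hconst r], ← Finset.sum_mul,
            show ∑ r, (x⁻¹ • prVec p q : evenVec m).1 r = 0 from (x⁻¹ • prVec p q : evenVec m).2,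
            zero_mul] at h1
          exact zero_ne_one h1
        push Not at hconst
        obtain ⟨c, hc⟩ := hconst
        obtain ⟨b, hbk, hgb⟩ := hno k
        obtain ⟨d, hdc, hgd⟩ := hno c
        have hkc : k ≠ c := fun e => hc (e ▸ rfl)
        have hbd : b ≠ d := fun e => hc (by rw [← hgd, ← e, hgb])
        have hkd : k ≠ d := fun e => hc (by rw [← hgd, ← e])
        have hbc : b ≠ c := fun e => hc (by rw [← e, hgb])
        have hgkc : g k + g c = 1 := (zmodTwo_of_ne _ _ fun e => hc e.symm).2
        have hedge : ∀ u v, u ≠ v → φ (prVec u v) = 1 → ∃ s, s ≠ p ∧ x • prVec u v = prVec p s := by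
          intro u v huv h1
          obtain ⟨a, b, hab, e⟩ := hpairs x u v huv
          have h2 : (prVec a b : Fin m → ZMod 2) p = 1 := e ▸ h1
          rw [prVec_apply] at h2
          rcases eq_or_ne p a with rfl | hpa
          · exact ⟨b, hab.symm, e⟩
          rcases eq_or_ne p b with rfl | hpb
          · exact ⟨a, hab, e.trans (Subtype.ext (by simp [prVec, add_comm]))⟩
          rw [if_neg hpa, if_neg hpb, add_zero] at h2
          exact absurd h2 zero_ne_one
        obtain ⟨s, hs, es⟩ := hedge k c hkc (by rw [hpr, hgkc])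
        obtain ⟨t, ht, et⟩ := hedge b d hbd (by rw [hpr, hgb, hgd, hgkc])
        have hst : s ≠ t := fun e => by
          subst e
          have := congrArg (fun v : evenVec m => (v : Fin m → ZMod 2) k)
            ((smul_left_cancel_iff x).1 (es.trans et.symm))
          simp only [prVec_apply, if_neg hkc, if_neg hbk.symm, if_neg hkd, if_pos rfl, add_zero] at this
          exact one_ne_zero this
        obtain ⟨i, j, hij, e⟩ := hpairs x⁻¹ s t hst
        have hsum : prVec k c + prVec b d = prVec i j := by
          rw [← e, eq_inv_smul_iff, smul_add, es, et]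
          refine Subtype.ext (funext fun r => ?_)
          rw [AddSubgroup.coe_add, Pi.add_apply, prVec_apply, prVec_apply, prVec_apply,
            add_add_add_comm, htwo, zero_add]
        have hval : ∀ r, ((prVec k c : Fin m → ZMod 2) r + (prVec b d : Fin m → ZMod 2) r) = 1 →
            r = i ∨ r = j := fun r hr => by
          by_contra hh
          push Not at hh
          have := congrArg (fun v : evenVec m => (v : Fin m → ZMod 2) r) hsum
          simp only [AddSubgroup.coe_add, Pi.add_apply, hr, prVec_apply i j, if_neg hh.1,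
            if_neg hh.2, add_zero] at this
          exact one_ne_zero this
        have a1 := hval k (by simp [prVec_apply, hkc, hbk.symm, hkd])
        have a2 := hval c (by simp [prVec_apply, hkc.symm, hbc.symm, hdc.symm])
        have a3 := hval b (by simp [prVec_apply, hbk, hbc, hbd])
        rcases a1 with rfl | rfl <;> rcases a2 with rfl | rfl <;> rcases a3 with rfl | rfl <;>
          first | exact hkc rfl | exact hbk rfl | exact hbc rfl
      refine ⟨π, fun v => ?_⟩
      show φ v = _
      have hv : ∑ r, (v : Fin m → ZMod 2) r = 0 := v.2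
      rw [hdec, Finset.sum_congr rfl fun r _ =>
        (show (v : Fin m → ZMod 2) r * g r = (v : Fin m → ZMod 2) r * (g π + 1) +
          (if r = π then (v : Fin m → ZMod 2) r else 0) by
          rcases eq_or_ne r π with rfl | hr
          · rw [if_pos rfl, mul_add, mul_one, add_assoc, htwo, add_zero]
          · rw [if_neg hr, add_zero]
            congr 1
            rcases zmodTwo_cases (g r) with a | a <;> rcases zmodTwo_cases (g π) with b | b <;>
              first
              | exact absurd (a.trans b.symm) (hπ r hr)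
              | (rw [a, b]; rfl)),
        Finset.sum_add_distrib, ← Finset.sum_mul, hv, zero_mul, zero_add, Finset.sum_ite_eq',
        if_pos (Finset.mem_univ π)]
    choose π hπ using hp
    have hinj : Function.Injective π := by
      intro p p' e
      by_contra hne
      obtain ⟨q, hq, hq'⟩ := exists_third h3 p p'
      have h1 := hπ p (x⁻¹ • prVec p q)
      have h2 := hπ p' (x⁻¹ • prVec p q)
      rw [smul_inv_smul] at h1 h2
      rw [e, ← h2, hpair0 hq.symm, prVec_apply, if_neg (Ne.symm hne), if_neg hq'.symm,
        add_zero] at h1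
      exact one_ne_zero h1
    refine ⟨(Equiv.ofBijective π (Finite.injective_iff_bijective.1 hinj))⁻¹, fun v => ?_⟩
    refine Subtype.ext (funext fun p => ?_)
    rw [permV_apply, inv_inv]
    exact hπ p v
  refine ⟨?_, hperm⟩
  choose s hs using hperm
  let ρ : X →* Equiv.Perm (Fin m) := MonoidHom.mk' s fun x y => permV_injective h3 fun v => by
    rw [← hs, mul_smul, hs, hs, permV_mul]
  letI : MulAction X (Fin m) := MulAction.compHom _ ρ
  have hact : ∀ (x : X) (i : Fin m), x • i = s x i := fun _ _ => rfl
  set Ω := MulAction.orbitRel.Quotient X (Fin m)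
  haveI : Fintype Ω := Fintype.ofFinite Ω
  have hrep : ∀ i : Fin m, ∃ y : X, y • (Quotient.out (Quotient.mk'' i : Ω)) = i := fun i => by
    have h1 : MulAction.orbitRel X (Fin m) (Quotient.out (Quotient.mk'' i : Ω)) i :=
      Quotient.exact' (Quotient.out_eq' _)
    obtain ⟨y, hy⟩ := MulAction.orbitRel_apply.1 h1
    exact ⟨y⁻¹, by rw [← hy, inv_smul_smul]⟩
  -- fixed vectors
  set C := {v : evenVec m // ∀ x : X, x • v = v}
  have hC : Nat.card C * 2 ≤ 2 ^ Fintype.card Ω := by
    have hcst : ∀ (v : C) (i : Fin m),
        (v.1 : Fin m → ZMod 2) i = (v.1 : Fin m → ZMod 2) (Quotient.out (Quotient.mk'' i : Ω)) := by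
      intro v i
      obtain ⟨y, hy⟩ := hrep i
      have := congrArg (fun w : evenVec m => (w : Fin m → ZMod 2) i) (v.2 y)
      simp only [hs, permV_apply] at this
      rw [← this]
      congr 1
      conv_lhs => rw [← hy, hact]
      exact congrArg (v.1 : Fin m → ZMod 2) (Equiv.symm_apply_apply _ _)
    let f : C × ZMod 2 → (Ω → ZMod 2) := fun z O => (z.1.1 : Fin m → ZMod 2) (Quotient.out O) + z.2
    have hf : Function.Injective f := by
      rintro ⟨v, c⟩ ⟨w, d⟩ e
      have h1 : ∀ i, (v.1 : Fin m → ZMod 2) i + c = (w.1 : Fin m → ZMod 2) i + d := fun i => by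
        rw [hcst v i, hcst w i]; exact congrFun e _
      have h2 := Finset.sum_congr (rfl : (Finset.univ : Finset (Fin m)) = _) fun i _ => h1 i
      rw [Finset.sum_add_distrib, Finset.sum_add_distrib,
        show ∑ i, (v.1 : Fin m → ZMod 2) i = 0 from v.1.2,
        show ∑ i, (w.1 : Fin m → ZMod 2) i = 0 from w.1.2, zero_add, zero_add, Finset.sum_const,
        Finset.sum_const, Finset.card_univ, Fintype.card_fin] at h2
      obtain ⟨r, hr⟩ := hodd
      have h4 : ∀ c : ZMod 2, m • c = c := fun c => by
        rw [hr, add_smul, one_smul, mul_smul, two_smul, htwo, zero_add]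
      rw [h4, h4] at h2
      subst h2
      exact Prod.ext (Subtype.ext (Subtype.ext (funext fun i => add_right_cancel (h1 i)))) rfl
    have := Nat.card_le_card_of_injective f hf
    rwa [Nat.card_prod, Nat.card_zmod, Nat.card_fun, Nat.card_zmod, Nat.card_eq_fintype_card (α := Ω)]
      at this
  -- the group
  have hX : Nat.card X ≤ ∏ O : Ω, Nat.card (MulAction.orbit X (Quotient.out O)) := by
    rw [← Nat.card_pi]
    refine Nat.card_le_card_of_injective
      (fun x O => (⟨x • Quotient.out O, x, rfl⟩ : MulAction.orbit X (Quotient.out O))) fun a b e => ?_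
    refine FaithfulSMul.eq_of_smul_eq_smul (α := evenVec m) fun v => ?_
    rw [hs, hs]
    congr 1
    refine Equiv.ext fun i => ?_
    obtain ⟨y, hy⟩ := hrep i
    have h1 := congrArg Subtype.val (congrFun e (Quotient.mk'' i))
    simp only at h1
    show a • i = b • i
    rw [← hy, smul_smul, smul_smul, hcomm a, hcomm b, mul_smul, mul_smul, h1]
  have hsum : ∑ O : Ω, Nat.card (MulAction.orbit X (Quotient.out O)) = m := by
    rw [← Nat.card_sigma, ← Nat.card_congr (MulAction.selfEquivSigmaOrbits X (Fin m)), Nat.card_fin]
  have hY : 2 ^ m ≤ Nat.card (evenVec m) * 2 := by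
    let g : (Fin m → ZMod 2) → evenVec m × ZMod 2 := fun w =>
      (⟨fun i => w i + ∑ j, w j, by
        show ∑ i, (w i + ∑ j, w j) = 0
        obtain ⟨r, hr⟩ := hodd
        have h4 : ∀ c : ZMod 2, m • c = c := fun c => by
          rw [hr, add_smul, one_smul, mul_smul, two_smul, htwo, zero_add]
        rw [Finset.sum_add_distrib, Finset.sum_const, Finset.card_univ, Fintype.card_fin, h4, htwo]⟩, ∑ j, w j)
    have hg : Function.Injective g := fun a b e => by
      have e2 : ∑ j, a j = ∑ j, b j := congrArg Prod.snd e
      funext i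
      have e1 := congrArg (fun v : evenVec m => (v : Fin m → ZMod 2) i) (congrArg Prod.fst e)
      simp only [g, e2, add_left_inj] at e1
      exact e1
    have := Nat.card_le_card_of_injective g hg
    rwa [Nat.card_prod, Nat.card_zmod, Nat.card_fun, Nat.card_zmod, Nat.card_fin] at this
  have key : Nat.card X * (Nat.card C * 2) ≤ 2 ^ m := by
    calc Nat.card X * (Nat.card C * 2)
        ≤ (∏ O : Ω, Nat.card (MulAction.orbit X (Quotient.out O))) * 2 ^ Fintype.card Ω :=
          Nat.mul_le_mul hX hC
      _ = ∏ O : Ω, Nat.card (MulAction.orbit X (Quotient.out O)) * 2 := by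
          rw [Finset.prod_mul_distrib, Finset.prod_const, Finset.card_univ]
      _ ≤ ∏ O : Ω, 2 ^ Nat.card (MulAction.orbit X (Quotient.out O)) :=
          Finset.prod_le_prod' fun O _ => two_mul_le_two_pow' _ (Nat.one_le_iff_ne_zero.2 (by
            haveI : Nonempty (MulAction.orbit X (Quotient.out O)) :=
              ⟨⟨_, MulAction.mem_orbit_self _⟩⟩
            exact Nat.card_pos.ne'))
      _ = 2 ^ m := by rw [Finset.prod_pow_eq_pow_sum, hsum]
  rw [← mul_assoc] at key
  exact Nat.le_of_mul_le_mul_right (key.trans hY) two_pos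

end CfsgLib.FFModules.MinimalParabolic
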