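import Cfsg.Agent.Lib.FFModules.MinimalParabolic.Structure
import Cfsg.Agent.Lib.FFModules.MinimalParabolic.ElabSL2
import Cfsg.Agent.Lib.FFModules.MinimalParabolic.ElabSym
import Mathlib.GroupTheory.Index
import Mathlib.FieldTheory.Finite.Basic

/-!
An elementary abelian group normalizing a component, seen on the module modulo the fixed points
of the component.
-/

set_option autoImplicit false
set_option linter.style.haveILetI false
set_option linter.unusedSectionVars false

namespace CfsgLib.FFModules.MinimalParabolic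

open SL2Pair Matrix
open scoped Pointwise MatrixGroups

universe u

variable {H W : Type*} [Group H] [AddCommGroup W] [DistribMulAction H W]

/-- The vectors fixed by `S` modulo `Z`. -/
def modFix (S : Subgroup H) {Z : AddSubgroup W} (hZ : ∀ a ∈ S, ∀ z ∈ Z, a • z ∈ Z) : AddSubgroup W where
  carrier := {v | ∀ a ∈ S, a • v - v ∈ Z}
  zero_mem' a _ := by simp
  add_mem' {u v} hu hv a ha := by
    rw [smul_add, add_sub_add_comm]; exact add_mem (hu a ha) (hv a ha)
  neg_mem' {v} hv a ha := by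
    rw [smul_neg, ← neg_sub']; exact neg_mem (hv a ha)

theorem smul_mem_fixedSub_of_normalizer {E : Subgroup H} {a : H}
    (ha : a ∈ Subgroup.normalizer (E : Set H)) {z : W} (hz : z ∈ fixedSub E) : a • z ∈ fixedSub E := by
  intro e he
  have h1 : a⁻¹ * e * a ∈ E := (Subgroup.mem_normalizer_iff.1 ha _).2 (by
    rw [show a * (a⁻¹ * e * a) * a⁻¹ = e by group]; exact he)
  have h2 := hz _ h1
  rwa [mul_smul, mul_smul, inv_smul_eq_iff] at h2

variable [Finite H] [Finite W]

/-- What is used about a component. -/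
def IsGoodComp (p : ℕ) (E : Subgroup H) (W : Type*) [AddCommGroup W] [DistribMulAction H W]
    [Finite W] : Prop :=
  4 ≤ (fixedSub E : AddSubgroup W).index ∧
    (∀ e ∈ E, (∀ v : W, e • v - v ∈ fixedSub E) → e = 1) ∧
    ∀ S : Subgroup H, (∀ a ∈ S, ∀ b ∈ S, a * b = b * a) → (∀ a ∈ S, a ^ p = 1) →
      ∀ (hS : S ≤ Subgroup.normalizer (E : Set H)),
      (trivOn (fixedSub E : AddSubgroup W)).relIndex S *
          ((fixedSub E : AddSubgroup W).relIndex
            (modFix S fun a ha _ hz => smul_mem_fixedSub_of_normalizer (hS ha) hz)) ≤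
        (fixedSub E : AddSubgroup W).index ∧
      ((fixedSub E : AddSubgroup W).index ≤ (trivOn (fixedSub E : AddSubgroup W)).relIndex S *
          ((fixedSub E : AddSubgroup W).relIndex
            (modFix S fun a ha _ hz => smul_mem_fixedSub_of_normalizer (hS ha) hz)) →
        ∀ a ∈ S, ∃ e ∈ E, ∀ v : W, a • v - e • v ∈ fixedSub E)

/-- Reduction to a bound for groups of automorphisms of the coordinate space. -/
theorem component_transfer {p : ℕ} {E : Subgroup H} {Y : Type u} [AddCommGroup Y] [Finite Y]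
    (ψ : W →+ Y) (hsurj : Function.Surjective ψ) (hker : ∀ v, ψ v = 0 ↔ v ∈ fixedSub E)
    (hkey : ∀ (X : Type u) [Group X] [Finite X] [DistribMulAction X Y] [FaithfulSMul X Y],
      (∀ x y : X, x * y = y * x) → (∀ x : X, x ^ p = 1) →
      (∀ (x : X) (f : Y → Y), (∃ e ∈ E, ∀ v, ψ (e • v) = f (ψ v)) →
        ∃ f' : Y → Y, (∃ e ∈ E, ∀ v, ψ (e • v) = f' (ψ v)) ∧ ∀ y, x • f y = f' (x • y)) →
      Nat.card X * Nat.card {y : Y // ∀ x : X, x • y = y} ≤ Nat.card Y ∧
        (Nat.card Y ≤ Nat.card X * Nat.card {y : Y // ∀ x : X, x • y = y} →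
          ∀ x : X, ∃ e ∈ E, ∀ v, ψ (e • v) = x • ψ v))
    (h4 : 4 ≤ Nat.card Y) (hfaith : ∀ e ∈ E, (∀ v, ψ (e • v) = ψ v) → e = 1) :
    IsGoodComp p E W := by
  classical
  have hidx : (fixedSub E : AddSubgroup W).index = Nat.card Y := by
    rw [show (fixedSub E : AddSubgroup W) = ψ.ker from SetLike.ext fun v => (hker v).symm,
      AddSubgroup.index_ker, AddMonoidHom.range_eq_top.2 hsurj, AddSubgroup.card_top]
  have hsub : ∀ a b : W, ψ a = ψ b ↔ a - b ∈ fixedSub E := fun a b => by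
    rw [← hker, map_sub, sub_eq_zero]
  refine ⟨hidx ▸ h4, fun e he h => hfaith e he fun v => (hsub _ _).2 (h v), fun S hcomm hpow hS => ?_⟩
  set Z : AddSubgroup W := fixedSub E with hZ
  have hpres : ∀ a ∈ S, ∀ z ∈ Z, a • z ∈ Z := fun a ha z hz => smul_mem_fixedSub_of_normalizer (hS ha) hz
  let sec := Function.surjInv hsurj
  have hsec : ∀ y, ψ (sec y) = y := Function.surjInv_eq hsurj
  let L : S → Y → Y := fun a y => ψ ((a : H) • sec y)
  have hL : ∀ (a : S) (v : W), ψ ((a : H) • v) = L a (ψ v) := fun a v => (hsub _ _).2 (by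
    rw [← smul_sub]
    exact hpres a a.2 _ ((hsub _ _).1 (hsec _).symm))
  have hLmul : ∀ (a b : S) (y : Y), L (a * b) y = L a (L b y) := fun a b y => by
    show ψ (((a * b : S) : H) • sec y) = L a (ψ ((b : H) • sec y))
    rw [← hL, Subgroup.coe_mul, mul_smul]
  have hL1 : ∀ y, L 1 y = y := fun y => by
    show ψ (((1 : S) : H) • sec y) = y
    rw [Subgroup.coe_one, one_smul, hsec]
  let Λ : S →* Equiv.Perm Y :=
    { toFun := fun a => ⟨L a, L a⁻¹, fun y => by rw [← hLmul, inv_mul_cancel, hL1],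
        fun y => by rw [← hLmul, mul_inv_cancel, hL1]⟩
      map_one' := Equiv.ext hL1
      map_mul' := fun a b => Equiv.ext (hLmul a b) }
  set X := Λ.range
  have hXadd : ∀ (x : X) (y z : Y), (x : Equiv.Perm Y) (y + z) =
      (x : Equiv.Perm Y) y + (x : Equiv.Perm Y) z := by
    rintro ⟨x, a, rfl⟩ y z
    show L a (y + z) = L a y + L a z
    rw [← hsec y, ← hsec z, ← map_add, ← hL, ← hL, ← hL, smul_add, map_add]
  letI : DistribMulAction X Y :=
    { smul := fun x y => (x : Equiv.Perm Y) y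
      one_smul := fun y => rfl
      mul_smul := fun x x' y => rfl
      smul_zero := fun x => by
        have := hXadd x 0 0
        rwa [add_zero, left_eq_add] at this
      smul_add := hXadd }
  haveI : FaithfulSMul X Y := ⟨fun h => Subtype.ext (Equiv.ext h)⟩
  have hXa : ∀ (a : S) (v : W), (⟨Λ a, a, rfl⟩ : X) • ψ v = ψ ((a : H) • v) := fun a v => (hL a v).symm
  obtain ⟨h1, h2⟩ := hkey X (by
      rintro ⟨x, a, rfl⟩ ⟨y, b, rfl⟩
      refine Subtype.ext ?_
      show Λ a * Λ b = Λ b * Λ a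
      rw [← map_mul, ← map_mul, show a * b = b * a from Subtype.ext (hcomm a a.2 b b.2)])
    (by
      rintro ⟨x, a, rfl⟩
      refine Subtype.ext ?_
      show Λ a ^ p = 1
      rw [← map_pow, show a ^ p = 1 from Subtype.ext (by simpa using hpow a a.2), map_one])
    (by
      rintro ⟨x, a, rfl⟩ f ⟨e, he, hf⟩
      have he' : (a : H) * e * (a : H)⁻¹ ∈ E := (Subgroup.mem_normalizer_iff.1 (hS a.2) e).1 he
      have hfac : ∀ v, ψ (((a : H) * e * (a : H)⁻¹) • v) =
          ψ (((a : H) * e * (a : H)⁻¹) • sec (ψ v)) := fun v => (hsub _ _).2 (by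
        rw [← smul_sub]
        exact smul_mem_fixedSub_of_normalizer (Subgroup.le_normalizer he') ((hsub _ _).1 (hsec _).symm))
      refine ⟨fun y => ψ (((a : H) * e * (a : H)⁻¹) • sec y), ⟨_, he', hfac⟩, fun y => ?_⟩
      conv_lhs => rw [← hsec y, ← hf, hXa, show (a : H) • e • sec y =
        ((a : H) * e * (a : H)⁻¹) • ((a : H) • sec y) by rw [mul_smul, mul_smul, inv_smul_smul], hfac]
      conv_rhs => rw [← hsec y, hXa])
  have hX : (trivOn Z).relIndex S = Nat.card X := by
    rw [← Subgroup.index_ker Λ]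
    refine congrArg Subgroup.index (SetLike.ext fun a => ?_)
    rw [Subgroup.mem_subgroupOf, MonoidHom.mem_ker, mem_trivOn]
    refine ⟨fun h => Equiv.ext fun y => ?_, fun h => ⟨hpres a a.2, fun v => (hsub _ _).1 ?_⟩⟩
    · show L a y = y
      rw [← hsec y, ← hL]
      exact (hsub _ _).2 (h.2 _)
    · rw [hL]
      exact congrFun (congrArg DFunLike.coe h) _
  have hCz : ∀ v, v ∈ modFix S hpres ↔ ∀ x : X, x • ψ v = ψ v := by
    intro v
    refine ⟨fun hv => ?_, fun hv a ha => (hsub _ _).1 (by rw [← hXa ⟨a, ha⟩ v]; exact hv _)⟩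
    rintro ⟨x, a, rfl⟩
    rw [hXa]
    exact (hsub _ _).2 (hv a a.2)
  have hC : Z.relIndex (modFix S hpres) = Nat.card {y : Y // ∀ x : X, x • y = y} := by
    have e : Z.addSubgroupOf (modFix S hpres) = (ψ.comp (modFix S hpres).subtype).ker :=
      AddSubgroup.ext fun v => (hker (v : W)).symm
    rw [AddSubgroup.relIndex, e, AddSubgroup.index_ker]
    refine Nat.card_congr
      { toFun := fun y => ⟨y, by
          obtain ⟨y, v, rfl⟩ := y
          exact (hCz _).1 v.2⟩
        invFun := fun y => ⟨y, ⟨sec y, (hCz _).2 (by rw [hsec]; exact y.2)⟩, hsec _⟩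
        left_inv := fun y => rfl
        right_inv := fun y => rfl }
  rw [hidx, hX, hC]
  refine ⟨h1, fun h a ha => ?_⟩
  obtain ⟨e, he, hev⟩ := h2 h ⟨Λ ⟨a, ha⟩, ⟨a, ha⟩, rfl⟩
  refine ⟨e, he, fun v => (hsub _ _).1 ?_⟩
  rw [hev, hXa]

theorem card_evenVec_ge {m : ℕ} (h3 : 3 ≤ m) : 4 ≤ Nat.card (evenVec m) := by
  let a : Fin m := ⟨0, by omega⟩
  let b : Fin m := ⟨1, by omega⟩
  let c : Fin m := ⟨2, by omega⟩
  let f : Fin 4 → evenVec m := ![0, prVec a b, prVec a c, prVec b c]
  have hf : Function.Injective f := by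
    intro x y e
    have e1 := congrArg (fun v : evenVec m => (v : Fin m → ZMod 2) b) e
    have e2 := congrArg (fun v : evenVec m => (v : Fin m → ZMod 2) c) e
    fin_cases x <;> fin_cases y <;> simp [f, a, b, c, prVec_apply] at e1 e2 ⊢
  simpa using Nat.card_le_card_of_injective f hf

theorem isGoodComp {p : ℕ} [Fact p.Prime] {E : Subgroup H}
    (htype : IsSL2Comp p E W ∨ (p = 2 ∧ IsSymComp E W)) : IsGoodComp p E W := by
  classical
  rcases htype with ⟨F, hF, hF', n, ρ, ψ, hn, hcard, hsurj, hker, heq⟩ |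
    ⟨rfl, n, ρ, ψ, hn, hsum, hon, hker, heq⟩
  · have hchar : CharP F p := charP_of_card_eq_prime_pow hcard
    have hq : Nat.card (Fin 2 → F) = Nat.card F ^ 2 := by rw [Nat.card_fun, Nat.card_fin]
    refine component_transfer ψ hsurj hker (fun X _ _ _ _ hc hp hnorm => ?_) ?_ fun e he h => ?_
    · obtain ⟨h1, h2⟩ := sl2_bound (X := X) hchar hc hp fun x g => by
        obtain ⟨f', ⟨e', he', hf'⟩, hx⟩ := hnorm x (fun u => (g : Matrix (Fin 2) (Fin 2) F).mulVec u)
          ⟨(ρ.symm g : H), (ρ.symm g).2, fun v => by rw [heq, ρ.apply_symm_apply]⟩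
        refine ⟨ρ ⟨e', he'⟩, fun u => ?_⟩
        rw [hx u]
        obtain ⟨v, hv⟩ := hsurj (x • u)
        rw [← hv, ← hf']
        exact heq ⟨e', he'⟩ v
      rw [hq]
      refine ⟨h1, fun h x => ?_⟩
      obtain ⟨g, hg⟩ := h2 h x
      exact ⟨_, (ρ.symm g).2, fun v => by rw [heq, ρ.apply_symm_apply, hg]⟩
    · rw [hq]
      have : 2 ≤ Nat.card F := Finite.one_lt_card
      nlinarith
    · have h1 : ρ ⟨e, he⟩ = 1 := by
        refine Subtype.ext (Matrix.ext fun i j => ?_)
        obtain ⟨v, hv⟩ := hsurj (Pi.single j 1)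
        have h2 := heq ⟨e, he⟩ v
        rw [show ψ (((⟨e, he⟩ : E) : H) • v) = ψ v from h v, hv] at h2
        have h3 := (congrFun h2 i).symm
        rw [Matrix.mulVec_single_one] at h3
        rw [Matrix.SpecialLinearGroup.coe_one, Matrix.one_apply]
        simpa [Pi.single_apply] using h3
      simpa using congrArg Subtype.val ((MulEquiv.map_eq_one_iff ρ).1 h1)
  · have h3 : 3 ≤ 2 ^ n + 1 := by
      have : 2 ≤ 2 ^ n := Nat.le_self_pow (by omega) 2
      omega
    have hodd : Odd (2 ^ n + 1) := (Nat.even_pow.2 ⟨even_two, by omega⟩).add_one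
    let ψ' : W →+ evenVec (2 ^ n + 1) := ψ.codRestrict _ hsum
    have hψ' : ∀ v, ((ψ' v : evenVec (2 ^ n + 1)) : Fin (2 ^ n + 1) → ZMod 2) = ψ v := fun v => rfl
    have hequ : ∀ (g : E) (v : W), ψ' ((g : H) • v) = permV (ρ g) (ψ' v) := fun g v =>
      Subtype.ext (funext fun i => heq g v i)
    have hsurj : Function.Surjective ψ' := fun u => by
      obtain ⟨v, hv⟩ := hon u u.2
      exact ⟨v, Subtype.ext hv⟩
    refine component_transfer ψ' hsurj
      (fun v => by rw [← hker v, ← hψ']; exact Subtype.ext_iff)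
      (fun X _ _ _ _ hc hp hnorm => ?_) (card_evenVec_ge h3) fun e he h => ?_
    · obtain ⟨h1, h2⟩ := sym_bound (X := X) h3 hodd hc fun x σ => by
        obtain ⟨f', ⟨e', he', hf'⟩, hx⟩ := hnorm x (permV σ)
          ⟨(ρ.symm σ : H), (ρ.symm σ).2, fun v => by rw [hequ, ρ.apply_symm_apply]⟩
        refine ⟨ρ ⟨e', he'⟩, fun u => ?_⟩
        rw [hx u]
        obtain ⟨v, hv⟩ := hsurj (x • u)
        rw [← hv, ← hf']
        exact hequ ⟨e', he'⟩ v
      refine ⟨h1, fun _ x => ?_⟩
      obtain ⟨σ, hσ⟩ := h2 x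
      exact ⟨_, (ρ.symm σ).2, fun v => by rw [hequ, ρ.apply_symm_apply, hσ]⟩
    · have h1 : ρ ⟨e, he⟩ = 1 := permV_injective h3 fun u => by
        obtain ⟨v, rfl⟩ := hsurj u
        rw [permV_one, ← hequ]
        exact h v
      simpa using congrArg Subtype.val ((MulEquiv.map_eq_one_iff ρ).1 h1)

end CfsgLib.FFModules.MinimalParabolic
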