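import Cfsg.Agent.Lib.FFModules.MinimalParabolic.Shift

/-!
Four elements: two root pairs with equal lines and tori whose opposite root groups differ by a
quadratic shift.
-/

set_option autoImplicit false
set_option linter.style.haveILetI false
set_option linter.unusedSectionVars false

namespace CfsgLib.FFModules.MinimalParabolic

open SL2Pair Matrix
open scoped Pointwise MatrixGroups

variable {H W : Type*} [Group H] [AddCommGroup W] [DistribMulAction H W] [Finite H] [Finite W]
variable {T : Sylow 2 H} {M : Subgroup H}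
variable {A : Subgroup H} {F : Type} [Field F] [Finite F]

theorem pow_four (hF : Nat.card F = 4) (x : F) : x ^ 4 = x := by
  haveI := Fintype.ofFinite F
  have := FiniteField.pow_card x
  rwa [← Nat.card_eq_fintype_card, hF] at this

theorem pow_three (hF : Nat.card F = 4) {x : F} (hx : x ≠ 0) : x ^ 3 = 1 := by
  have h := pow_four hF x
  exact mul_right_cancel₀ hx (by rw [one_mul, ← pow_succ]; exact h)

theorem exists_omega (hF : Nat.card F = 4) : ∃ ω : Fˣ, (ω : F) ^ 2 + ω + 1 = 0 := by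
  classical
  haveI := Fintype.ofFinite F
  obtain ⟨x, hx⟩ : ∃ x : F, x ∉ ({0, 1} : Finset F) := by
    by_contra hc
    push Not at hc
    have := (Finset.card_le_card (show (Finset.univ : Finset F) ⊆ {0, 1} from fun x _ => hc x)).trans
      Finset.card_le_two
    rw [Finset.card_univ, ← Nat.card_eq_fintype_card, hF] at this
    omega
  simp only [Finset.mem_insert, Finset.mem_singleton, not_or] at hx
  refine ⟨Units.mk0 x hx.1, ?_⟩
  have h := pow_three hF hx.1
  have : (x - 1) * (x ^ 2 + x + 1) = 0 := by linear_combination h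
  exact (mul_eq_zero.1 this).resolve_left (sub_ne_zero.2 hx.2)

theorem omega_inv {ω : Fˣ} (h : (ω : F) ^ 2 + ω + 1 = 0) : ((ω⁻¹ : Fˣ) : F) = (ω : F) ^ 2 := by
  rw [Units.val_inv_eq_inv_val]
  exact inv_eq_of_mul_eq_one_right (by linear_combination ((ω : F) - 1) * h)

namespace RootPair

/-- The opposite involution of the second pair. -/
noncomputable def graphElt (R' : RootPair A W F) (a : Fˣ) : H :=
  (R'.torus a : H) * (R'.weyl : H)

/-- The product `w v w`. -/
noncomputable def graphInv (R R' : RootPair A W F) (a : Fˣ) : H :=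
  (R.weyl : H) * R'.graphElt a * (R.weyl : H)

end RootPair

namespace Big

variable (hb : Big 2 T M A W F) {R R' : RootPair A W F}
include hb

/-- A vector by its coordinates. -/
noncomputable def pt (R : RootPair A W F) (y x : F) (z : W) : W := hb.sy R y + hb.sx R x + z

theorem eq_pt (R : RootPair A W F) (v : W) : v = hb.pt R (R.ψ v 0) (R.ψ v 1) (R.proj v) :=
  hb.decomp R v

theorem ψ_pt (R : RootPair A W F) (y x : F) {z : W} (hz : z ∈ fixedSub R.E) :
    R.ψ (hb.pt R y x z) = ![y, x] := by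
  rw [pt, map_add, map_add, hb.ψ_sy, hb.ψ_sx, (R.ker z).2 hz]
  simp

theorem proj_pt (R : RootPair A W F) (y x : F) {z : W} (hz : z ∈ fixedSub R.E) :
    R.proj (hb.pt R y x z) = z := by
  rw [pt, map_add, map_add, hb.proj_sy, hb.proj_sx, hb.proj_of_mem R hz, zero_add, zero_add]

theorem weyl_pt (R : RootPair A W F) (y x : F) {z : W} (hz : z ∈ fixedSub R.E) :
    (R.weyl : H) • hb.pt R y x z = hb.pt R x y z := by
  haveI := hb.charP R
  rw [pt, smul_add, smul_add, hb.weyl_sy, hb.weyl_sx, CharTwo.neg_eq, hz _ R.weyl.2, pt]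
  abel

theorem torus_pt (R : RootPair A W F) (l : Fˣ) (y x : F) {z : W} (hz : z ∈ fixedSub R.E) :
    (R.torus l : H) • hb.pt R y x z = hb.pt R ((l : F) * y) (((l⁻¹ : Fˣ) : F) * x) z := by
  rw [pt, smul_add, smul_add, hb.torus_sy, hb.torus_sx, hz _ (R.torus l).2, pt]

theorem root_pt (R : RootPair A W F) (r y x : F) {z : W} (hz : z ∈ fixedSub R.E) :
    (R.root (r ^ 2) : H) • hb.pt R y x z =
      hb.pt R (y + r ^ 2 * x) x (z + hb.nu R (r * x)) := by
  rw [hb.smul_sq R _ (R.coord_root _), hb.ψ_pt R y x hz, R.coord_root, pt, pt]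
  simp only [Matrix.cons_val_one, Matrix.cons_val_zero, map_add]
  abel

theorem pt_mem_fix (R : RootPair A W F) {v : W} (hv : v ∈ fixedSub A) :
    v = hb.pt R (R.ψ v 0) 0 (R.proj v) := by
  rw [pt, map_zero, add_zero]
  exact hb.decomp_fix R hv

variable (C : R.Compat R') {k : F}

theorem graphElt_pt (hF : Nat.card F = 4) (hproj : ∀ v, R'.proj v = R.proj v)
    (hsh : ∀ x, hb.shift C x = k * x ^ 2) (hk : k ≠ 0) (y x : F) {z : W} (hz : z ∈ fixedSub R.E) :
    R'.graphElt (Units.mk0 C.a C.a_ne) • hb.pt R y x z =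
      hb.pt R (k * y ^ 2) (y + k * x ^ 2) z := by
  haveI := hb.charP R
  have h2 : (2 : F) = 0 := CharP.cast_eq_zero F 2
  have hk3 := pow_three hF hk
  have hx4 := pow_four hF x
  set v : H := R'.graphElt (Units.mk0 C.a C.a_ne) with hv
  set u := hb.pt R y x z
  have hzE' : z ∈ fixedSub R'.E := by rw [hb.fixE_eq C]; exact hz
  have hψ : R'.ψ (v • u) = ![C.a * R'.ψ u 1, -(C.a⁻¹ * R'.ψ u 0)] := by
    rw [hv, RootPair.graphElt, mul_smul, R'.ψ_torus, R'.ψ_weyl]
    funext i
    fin_cases i <;> simp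
  refine hb.ext R ?_ ?_
  · rw [hb.ψ_pt R _ _ hz]
    have h1 : R.ψ (v • u) 1 = y + k * x ^ 2 := by
      refine C.σ.injective (mul_left_cancel₀ C.b_ne ?_)
      rw [← C.quot, hψ]
      simp only [Matrix.cons_val_one, Matrix.cons_val_zero, CharTwo.neg_eq]
      rw [hb.ψ_shift C, hb.ψ_pt R y x hz]
      simp only [Matrix.cons_val_one, Matrix.cons_val_zero, hsh]
      have := C.a_ne
      field_simp
    funext i
    fin_cases i
    · show R.ψ (v • u) 0 = k * y ^ 2
      have h3 := hb.ψ_shift C (v • u)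
      rw [hψ, h1, hsh] at h3
      simp only [Matrix.cons_val_zero] at h3
      rw [C.quot, hb.ψ_pt R y x hz] at h3
      simp only [Matrix.cons_val_one, Matrix.cons_val_zero] at h3
      rw [← mul_assoc] at h3
      have h4 := C.σ.injective (mul_left_cancel₀ (mul_ne_zero C.a_ne C.b_ne) h3)
      linear_combination -h4 - k ^ 3 * hx4 - x * hk3 - (k * y ^ 2 + k ^ 2 * x ^ 2 * y) * h2
    · exact h1
  · rw [← hproj, hv, RootPair.graphElt, mul_smul, R'.proj_torus, R'.proj_weyl, hproj, hb.proj_pt R y x hz,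
      hzE' _ R'.weyl.2, hb.proj_pt R _ _ hz]

theorem graphInv_pt (hF : Nat.card F = 4) (hproj : ∀ v, R'.proj v = R.proj v)
    (hsh : ∀ x, hb.shift C x = k * x ^ 2) (hk : k ≠ 0) (y x : F) {z : W} (hz : z ∈ fixedSub R.E) :
    R.graphInv R' (Units.mk0 C.a C.a_ne) • hb.pt R y x z =
      hb.pt R (x + k * y ^ 2) (k * x ^ 2) z := by
  rw [RootPair.graphInv, mul_smul, mul_smul, hb.weyl_pt R y x hz, hb.graphElt_pt C hF hproj hsh hk x y hz,
    hb.weyl_pt R _ _ hz]

theorem graphInv_sq (hF : Nat.card F = 4) (hproj : ∀ v, R'.proj v = R.proj v)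
    (hsh : ∀ x, hb.shift C x = k * x ^ 2) (hk : k ≠ 0) :
    R.graphInv R' (Units.mk0 C.a C.a_ne) * R.graphInv R' (Units.mk0 C.a C.a_ne) = 1 := by
  haveI := hb.charP R
  have h2 : (2 : F) = 0 := CharP.cast_eq_zero F 2
  refine hb.set.faithful _ fun v => ?_
  rw [hb.eq_pt R v, mul_smul, hb.graphInv_pt C hF hproj hsh hk _ _ (hb.proj_mem R v),
    hb.graphInv_pt C hF hproj hsh hk _ _ (hb.proj_mem R v)]
  have hk3 := pow_three hF hk
  have hy := pow_four hF (R.ψ v 0)
  have hx := pow_four hF (R.ψ v 1)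
  congr 1
  · linear_combination k ^ 3 * hy + R.ψ v 0 * hk3 +
      (k * R.ψ v 1 ^ 2 + k ^ 2 * R.ψ v 1 * R.ψ v 0 ^ 2) * h2
  · linear_combination k ^ 3 * hx + R.ψ v 1 * hk3

theorem graphInv_normalises (hF : Nat.card F = 4) (hproj : ∀ v, R'.proj v = R.proj v)
    (hsh : ∀ x, hb.shift C x = k * x ^ 2) (hk : k ≠ 0) {a : H} (ha : a ∈ A) :
    R.graphInv R' (Units.mk0 C.a C.a_ne) * a * (R.graphInv R' (Units.mk0 C.a C.a_ne))⁻¹ ∈ A := by
  set s := R.graphInv R' (Units.mk0 C.a C.a_ne)
  have hinv : s⁻¹ = s := inv_eq_of_mul_eq_one_right (hb.graphInv_sq C hF hproj hsh hk)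
  have hfix : ∀ v ∈ fixedSub A, s • v ∈ fixedSub A := fun v hv => by
    rw [hb.pt_mem_fix R hv, hb.graphInv_pt C hF hproj hsh hk _ _ (hb.proj_mem R v), R.mem_fix,
      hb.ψ_pt R _ _ (hb.proj_mem R v)]
    simp
  refine hb.set.mem_of_series hb.isMin.toIsQuad hb.isMin.mu_eq (fun v hv => ?_) fun v => ?_
  · rw [hinv, mul_smul, mul_smul, hfix v hv a ha]
    rw [← mul_smul, hb.graphInv_sq C hF hproj hsh hk, one_smul]
  · rw [conj_sub]
    exact hfix _ (hb.isMin.quad a ha _)

/-- The central component is invariant under `u ↦ k u²`. -/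
theorem nu_graph (hF : Nat.card F = 4) (hproj : ∀ v, R'.proj v = R.proj v)
    (hsh : ∀ x, hb.shift C x = k * x ^ 2) (hk : k ≠ 0) (x : F) :
    hb.nu R (k * x ^ 2) = hb.nu R x := by
  haveI := hb.charP R
  have h2 : (2 : F) = 0 := CharP.cast_eq_zero F 2
  have hk3 := pow_three hF hk
  have hx4 := pow_four hF x
  set s := R.graphInv R' (Units.mk0 C.a C.a_ne) with hs
  have hmem := hb.graphInv_normalises C hF hproj hsh hk (R.root (1 ^ 2)).2
  have hsinv : s⁻¹ = s := inv_eq_of_mul_eq_one_right (hb.graphInv_sq C hF hproj hsh hk)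
  have h0 : (0 : W) ∈ fixedSub R.E := zero_mem _
  have hν : ∀ u, (0 : W) + hb.nu R u ∈ fixedSub R.E := fun u => by
    rw [zero_add]; exact hb.nu_mem R u
  have key : (s * (R.root (1 ^ 2) : H) * s⁻¹) • hb.pt R 0 x 0 =
      hb.pt R x x (0 + hb.nu R (k * x ^ 2)) := by
    rw [hsinv, mul_smul, mul_smul, hs, hb.graphInv_pt C hF hproj hsh hk _ _ h0,
      hb.root_pt R _ _ _ h0, hb.graphInv_pt C hF hproj hsh hk _ _ (hν _)]
    simp only [one_pow, one_mul, mul_zero, zero_pow two_ne_zero, add_zero]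
    congr 1
    · linear_combination k ^ 3 * hx4 + x * hk3 + (k * x ^ 2 + k ^ 2 * x ^ 3) * h2
    · linear_combination k ^ 3 * hx4 + x * hk3
  set b : A := ⟨_, hmem⟩
  have hb1 : R.coord b = 1 := by
    by_cases hx0 : x = 0
    · -- use the coordinate computed at `1`
      have key1 : (s * (R.root (1 ^ 2) : H) * s⁻¹) • hb.pt R 0 1 0 =
          hb.pt R 1 1 (0 + hb.nu R (k * 1 ^ 2)) := by
        rw [hsinv, mul_smul, mul_smul, hs, hb.graphInv_pt C hF hproj hsh hk _ _ h0,
          hb.root_pt R _ _ _ h0, hb.graphInv_pt C hF hproj hsh hk _ _ (hν _)]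
        simp only [one_pow, one_mul, mul_zero, zero_pow two_ne_zero, add_zero, mul_one]
        congr 1
        · linear_combination hk3 + (k + k ^ 2) * h2
        · linear_combination hk3
      have h1 := congrFun (congrArg R.ψ key1) 0
      rw [show s * (R.root (1 ^ 2) : H) * s⁻¹ = (b : H) from rfl, R.ψ_smul, hb.ψ_pt R _ _ h0,
        hb.ψ_pt R _ _ (hν _)] at h1
      simpa using h1
    · have h1 := congrFun (congrArg R.ψ key) 0
      rw [show s * (R.root (1 ^ 2) : H) * s⁻¹ = (b : H) from rfl, R.ψ_smul, hb.ψ_pt R _ _ h0,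
        hb.ψ_pt R _ _ (hν _)] at h1
      simp only [Matrix.cons_val_zero, Matrix.cons_val_one, zero_add] at h1
      exact mul_right_cancel₀ hx0 (h1.trans (one_mul x).symm)
  have e : b = R.root (1 ^ 2) := R.coord_bijective.1 (by rw [R.coord_root, hb1, one_pow])
  rw [show s * (R.root (1 ^ 2) : H) * s⁻¹ = (b : H) from rfl, e, hb.root_pt R _ _ _ h0] at key
  have h3 := congrArg R.proj key
  rw [hb.proj_pt R _ _ (hν _), hb.proj_pt R _ _ (hν _), zero_add, zero_add, one_mul] at h3
  exact h3.symm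

end Big

end CfsgLib.FFModules.MinimalParabolic
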