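import Cfsg.Agent.Lib.FFModules.MinimalParabolic.FourGraph

/-!
Four elements: the quadratic shift contradicts the uniqueness of the maximal subgroup over a Sylow
`2`-subgroup.
-/

set_option autoImplicit false
set_option linter.style.haveILetI false
set_option linter.unusedSectionVars false

namespace CfsgLib.FFModules.MinimalParabolic

open SL2Pair Matrix
open scoped Pointwise MatrixGroups

variable {H W : Type*} [Group H] [AddCommGroup W] [DistribMulAction H W] [Finite H] [Finite W]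

/-- An involution of `M` normalizing `A ≤ T` lies in a Sylow subgroup with the same hypotheses. -/
theorem Setting.exists_sylow_involution {p : ℕ} [Fact p.Prime] {T : Sylow p H} {M : Subgroup H}
    (h : Setting p T M W) {A : Subgroup H} (hA : A ≤ (T : Subgroup H)) {s : H} (hs : s ^ p = 1)
    (hsM : s ∈ M) (hn : ∀ a ∈ A, s * a * s⁻¹ ∈ A) :
    ∃ T' : Sylow p H, Setting p T' M W ∧ A ≤ (T' : Subgroup H) ∧ s ∈ (T' : Subgroup H) := by
  have hz : IsPGroup p ↥(Subgroup.zpowers s) := fun g => ⟨1, Subtype.ext (by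
    obtain ⟨n, hn⟩ := Subgroup.mem_zpowers_iff.1 g.2
    rw [SubgroupClass.coe_pow, pow_one, ← hn, ← zpow_natCast, ← _root_.zpow_mul, mul_comm,
      _root_.zpow_mul, zpow_natCast, hs, _root_.one_zpow]
    rfl)⟩
  have hzn : Subgroup.zpowers s ≤ Subgroup.normalizer (A : Set H) := by
    rw [Subgroup.zpowers_le]
    refine LLemma.mem_normalizer_of_conj_le fun y hy => ?_
    obtain ⟨a, ha, rfl⟩ := (Subgroup.mem_smul_pointwise_iff_exists _ _ _).1 hy
    exact hn a ha
  set Q := Subgroup.zpowers s ⊔ A with hQ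
  have hQp : IsPGroup p ↥Q := hz.to_sup_of_normal_right' (T.2.to_le hA) hzn
  have hQM : Q ≤ M := sup_le ((Subgroup.zpowers_le).2 hsM) (hA.trans h.sylow_le)
  obtain ⟨S, hS⟩ := ((isPGroup_subgroupOf hQM).2 hQp).exists_le_sylow
  obtain ⟨m, hm⟩ := MulAction.exists_smul_eq ↥M (T.subtype h.sylow_le) S
  have hle : Q ≤ MulAut.conj (m : H) • (T : Subgroup H) := by
    intro y hy
    have h1 : (⟨y, hQM hy⟩ : M) ∈ (S : Subgroup M) := hS hy
    rw [← hm, Sylow.coe_subgroup_smul, Subgroup.mem_smul_pointwise_iff_exists] at h1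
    obtain ⟨x, hx, e⟩ := h1
    rw [Sylow.coe_subtype, Subgroup.mem_subgroupOf] at hx
    refine (Subgroup.mem_smul_pointwise_iff_exists _ _ _).2 ⟨x, hx, ?_⟩
    exact congrArg Subtype.val e
  refine ⟨(m : H) • T, ?_, ?_, ?_⟩
  · have := h.conj (m : H)
    rwa [LLemma.conj_eq_of_mem_normalizer (Subgroup.le_normalizer m.2)] at this
  · rw [Sylow.coe_subgroup_smul]; exact le_sup_right.trans hle
  · rw [Sylow.coe_subgroup_smul]; exact hle (Subgroup.mem_sup_left (Subgroup.mem_zpowers s))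

namespace Big

variable {T : Sylow 2 H} {M : Subgroup H}
variable {A : Subgroup H} {F : Type} [Field F] [Finite F]
variable (hb : Big 2 T M A W F) {R R' : RootPair A W F}
include hb

theorem graph_false (hF : Nat.card F = 4) (C : R.Compat R') {k : F}
    (hproj : ∀ v, R'.proj v = R.proj v) (hsh : ∀ x, hb.shift C x = k * x ^ 2) (hk : k ≠ 0)
    (hAT : A ≤ (T : Subgroup H)) (hEM : ¬ R.E ≤ M)
    (hN : ∀ g ∈ R.E ⊔ R'.E, (∀ a ∈ A, g * a * g⁻¹ ∈ A) → g ∈ M) : False := by
  haveI := hb.charP R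
  have h2 : (2 : F) = 0 := CharP.cast_eq_zero F 2
  obtain ⟨ω, hω⟩ := exists_omega hF
  have hk3 := pow_three hF hk
  set a₀ := Units.mk0 C.a C.a_ne
  set s := R.graphInv R' a₀ with hs
  set g : H := R'.graphElt a₀ * (R.root (1 ^ 2) : H) * (R.weyl : H) with hg
  have hvmem : R'.graphElt a₀ ∈ R.E ⊔ R'.E :=
    Subgroup.mem_sup_right (R'.E.mul_mem (R'.torus a₀).2 R'.weyl.2)
  have hwmem : (R.weyl : H) ∈ R.E ⊔ R'.E := Subgroup.mem_sup_left R.weyl.2
  have hsM : s ∈ M := hN _ (Subgroup.mul_mem _ (Subgroup.mul_mem _ hwmem hvmem) hwmem) fun a ha =>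
    hb.graphInv_normalises C hF hproj hsh hk ha
  obtain ⟨T', h', hAT', hsT'⟩ := hb.set.exists_sylow_involution hAT
    (by rw [sq]; exact hb.graphInv_sq C hF hproj hsh hk) hsM
    fun a ha => hb.graphInv_normalises C hF hproj hsh hk ha
  have hgpt : ∀ y x z, z ∈ fixedSub R.E → g • hb.pt R y x z =
      hb.pt R (k * (x + y) ^ 2) (x + y + k * y ^ 2) (z + hb.nu R y) := by
    intro y x z hz
    rw [hg, mul_smul, mul_smul, hb.weyl_pt R y x hz, hb.root_pt R _ _ _ hz,
      hb.graphElt_pt C hF hproj hsh hk _ _ (add_mem hz (hb.nu_mem R _))]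
    simp only [one_pow, one_mul]
  have hgM : g ∈ M := by
    by_contra hgM
    obtain ⟨v, hv, hne⟩ := h'.moved g hgM
    refine hne ?_
    have hvA : v ∈ fixedSub A := fixedSub_anti hAT' hv
    have hz := hb.proj_mem R v
    rw [hb.pt_mem_fix R hvA, hgpt _ _ _ hz]
    have h1 := congrArg R.ψ (hv s hsT')
    nth_rewrite 1 [hb.pt_mem_fix R hvA] at h1
    rw [hs, hb.graphInv_pt C hF hproj hsh hk _ _ hz, hb.ψ_pt R _ _ hz] at h1
    have h3 : k * R.ψ v 0 ^ 2 = R.ψ v 0 := by simpa using congrFun h1 0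
    have h4 : hb.nu R (R.ψ v 0) = 0 := by
      rcases eq_or_ne (R.ψ v 0) 0 with e | e
      · rw [e, map_zero]
      -- `ψ v 0 = k²`
      have e1 : R.ψ v 0 = k ^ 2 := by
        have : k * R.ψ v 0 = 1 := mul_right_cancel₀ e (by rw [one_mul, mul_assoc, ← sq]; exact h3)
        linear_combination k ^ 2 * this - R.ψ v 0 * hk3
      have h5 := hb.nu_graph C hF hproj hsh hk ((ω : F) * k ^ 2)
      rw [show k * ((ω : F) * k ^ 2) ^ 2 = (ω : F) * k ^ 2 + k ^ 2 by
        linear_combination ((ω : F) ^ 2 * k ^ 2) * hk3 + k ^ 2 * hω -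
          ((ω : F) * k ^ 2 + k ^ 2) * h2, map_add, add_eq_left] at h5
      rw [e1, h5]
    congr 1
    · simp [h3]
    · rw [zero_add, h3, CharTwo.add_self_eq_zero]
    · rw [h4, add_zero]
  set t := (R.torus ω : H) with ht
  have htM : t ∈ M := hN _ (Subgroup.mem_sup_left (R.torus ω).2) fun a ha => R.torus_conj_mem ω ha
  set a₂ : H := (R.root ((ω : F) ^ 2) : H)
  have key : s * g * t * g = a₂ * (R.weyl : H) * a₂ := by
    refine inv_mul_eq_one.1 (hb.set.faithful _ fun v => ?_)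
    rw [mul_smul, inv_smul_eq_iff, hb.eq_pt R v]
    generalize R.ψ v 0 = y
    generalize R.ψ v 1 = x
    have hz := hb.proj_mem R v
    generalize R.proj v = z at hz ⊢
    have hzn : ∀ u, z + hb.nu R u ∈ fixedSub R.E := fun u => add_mem hz (hb.nu_mem R u)
    have hzn2 : ∀ u u', z + hb.nu R u + hb.nu R u' ∈ fixedSub R.E := fun u u' =>
      add_mem (hzn u) (hb.nu_mem R u')
    refine Eq.symm ?_
    rw [mul_smul, mul_smul, mul_smul, hgpt _ _ _ hz, ht, hb.torus_pt R _ _ _ (hzn _),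
      hgpt _ _ _ (hzn _), hs, hb.graphInv_pt C hF hproj hsh hk _ _ (hzn2 _ _),
      mul_smul, mul_smul, hb.root_pt R _ _ _ hz, hb.weyl_pt R _ _ (hzn _),
      hb.root_pt R _ _ _ (hzn _), omega_inv hω]
    have hw3 : (ω : F) ^ 3 = 1 := by linear_combination ((ω : F) - 1) * hω
    have hy4 := pow_four hF y
    have hx4 := pow_four hF x
    have hxy4 := pow_four hF (x + y)
    set w := (ω : F) with hwdef
    have hS : w ^ 2 * (x + y + k * y ^ 2) + w * (k * (x + y) ^ 2) =
        w ^ 2 * (x + y) + w * k * x ^ 2 + k * y ^ 2 := by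
      linear_combination (k * y ^ 2) * hω + (w * k * x * y - k * y ^ 2) * h2
    have hP : k * (w * (k * (x + y) ^ 2)) ^ 2 = w ^ 2 * (x + y) := by
      linear_combination (w ^ 2 * (x + y) ^ 4) * hk3 + w ^ 2 * hxy4
    have hX2 : w ^ 2 * (x + y + k * y ^ 2) + w * (k * (x + y) ^ 2) +
        k * (w * (k * (x + y) ^ 2)) ^ 2 = w * k * x ^ 2 + k * y ^ 2 := by
      linear_combination hS + hP + (w ^ 2 * (x + y)) * h2
    have hY2 : k * (w ^ 2 * (x + y + k * y ^ 2) + w * (k * (x + y) ^ 2)) ^ 2 =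
        w * k * (x + y) ^ 2 + w ^ 2 * x + y := by
      rw [hS]
      linear_combination (k * (x + y) ^ 2 * w) * hw3 + (w ^ 2 * x ^ 4 + y ^ 4) * hk3 + w ^ 2 * hx4 +
        hy4 + k * (w ^ 2 * (x + y) * (w * k * x ^ 2) + w ^ 2 * (x + y) * (k * y ^ 2) +
          w * k * x ^ 2 * (k * y ^ 2)) * h2
    have hkY2 : k * (w * k * (x + y) ^ 2 + w ^ 2 * x + y) ^ 2 =
        w ^ 2 * (x + y) + w * k * x ^ 2 + k * y ^ 2 := by
      linear_combination (w ^ 2 * (x + y) ^ 4) * hk3 + w ^ 2 * hxy4 + (w * k * x ^ 2) * hw3 +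
        k * (w * k * (x + y) ^ 2 * (w ^ 2 * x) + w * k * (x + y) ^ 2 * y + w ^ 2 * x * y) * h2
    rw [hX2, hY2, hkY2]
    congr 1
    · linear_combination x * hω - (x * w) * hw3 +
        (w * k * x ^ 2 + k * y ^ 2 - x - x * w) * h2
    · linear_combination (w ^ 2 * x ^ 4 + y ^ 4) * hk3 + w ^ 2 * hx4 + hy4 +
        (k * (w * k * x ^ 2) * (k * y ^ 2)) * h2
    · rw [show w * (k * (x + y) ^ 2) = k * (w ^ 2 * (x + y)) ^ 2 by
        linear_combination -(w * k * (x + y) ^ 2) * hw3, add_assoc, add_assoc,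
        hb.nu_graph C hF hproj hsh hk, ← map_add, ← map_add]
      congr 2
      linear_combination (x + y) * hω - x * hw3 - (w * y + w * x + x) * h2
  have hwM : (R.weyl : H) ∈ M := by
    have h1 : a₂ ∈ M := hb.set.sylow_le (hAT (R.root _).2)
    rw [show (R.weyl : H) = a₂⁻¹ * (s * g * t * g) * a₂⁻¹ by rw [key]; group]
    exact M.mul_mem (M.mul_mem (M.inv_mem h1) (M.mul_mem (M.mul_mem (M.mul_mem hsM hgM) htM) hgM))
      (M.inv_mem h1)
  refine hEM ?_
  rw [R.eq_sup_weyl]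
  refine sup_le (hAT.trans hb.set.sylow_le) ?_
  rintro _ hy
  obtain ⟨b, hb', rfl⟩ := (Subgroup.mem_smul_pointwise_iff_exists _ _ _).1 hy
  exact M.mul_mem (M.mul_mem hwM (hb.set.sylow_le (hAT hb'))) (M.inv_mem hwM)

end Big

end CfsgLib.FFModules.MinimalParabolic
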