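import Cfsg.Agent.Lib.FFModules.MinimalParabolic.FourGraphEnd

/-!
Four elements: exchanged lines contradict the uniqueness of the maximal subgroup over a Sylow
`2`-subgroup.
-/

set_option autoImplicit false
set_option linter.style.haveILetI false
set_option linter.unusedSectionVars false

namespace CfsgLib.FFModules.MinimalParabolic

open SL2Pair Matrix
open scoped Pointwise MatrixGroups

variable {H W : Type*} [Group H] [AddCommGroup W] [DistribMulAction H W] [Finite H] [Finite W]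
variable {T : Sylow 2 H} {M : Subgroup H}
variable {A : Subgroup H} {F : Type} [Field F] [Finite F]

namespace Big

variable (hb : Big 2 T M A W F) {R R' : RootPair A W F}
include hb

theorem swap_nu_injective (hsw : R.Swap (p := 2) R') : Function.Injective (hb.nu R) := by
  obtain ⟨σ, a, b, ha, hb', -, -, hν, -⟩ := hb.exists_swap_data hsw
  refine fun u u' e => σ.injective (mul_left_cancel₀ (mul_ne_zero ha hb') ?_)
  rw [← hν, ← hν, e]

theorem swap_symm (hsw : R.Swap (p := 2) R') : R'.Swap (p := 2) R := by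
  rcases hb.compare R' R with ⟨⟨C⟩⟩ | h
  · exfalso
    obtain ⟨σ, a, b, -, -, -, -, -, hproj⟩ := hb.exists_swap_data hsw
    have h1 := (C.line _ (hb.nu_fix R 1) (hproj 1)).1
    rw [hb.proj_of_mem R (hb.nu_mem R 1), ← map_zero (hb.nu R)] at h1
    exact one_ne_zero (hb.swap_nu_injective hsw h1)
  · exact h

theorem swap_conjA (hsw : R.Swap (p := 2) R') (d : A) :
    R.Swap (p := 2) (R'.conj (d : H) (RootPair.conj_smul_self d)) :=
  ⟨rfl, hsw.four, fun v hv h0 => mem_fixedSub_smul.2 (by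
    rw [hv _ (A.inv_mem d.2)]; exact hsw.line v hv h0)⟩

theorem shift_linear_of_injective (hF : Nat.card F = 4) (hν : Function.Injective (hb.nu R))
    (C : R.Compat R') : ∃ c : F, ∀ x, hb.shift C x = c * x := by
  rcases equivariant_shift (hb.card_F R) (hb.shift C) (fun l hl => hb.shift_equivariant C hl) with
    h | ⟨-, c, k, hk, hc⟩
  · exact h
  · exfalso
    obtain ⟨R'', C'', -, hproj, hsh⟩ := hb.exists_graph hF C hc
    have h1 := hν (hb.nu_graph C'' hF hproj hsh hk 1)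
    obtain ⟨ω, hω⟩ := exists_omega hF
    have h2 := hν (hb.nu_graph C'' hF hproj hsh hk ω)
    haveI := hb.charP R
    rw [one_pow, mul_one] at h1
    rw [h1, one_mul] at h2
    have h3 : (2 : F) = 0 := CharP.cast_eq_zero F 2
    have h4 : (1 : F) = 0 := by linear_combination hω - h2 - (ω : F) * h3
    exact one_ne_zero h4

/-- A torus element of the second pair shifts the opposite root group linearly. -/
theorem swap_shift (hsw : R.Swap (p := 2) R') (m : Fˣ) :
    ∃ c : F, (∀ v, R.ψ ((R'.torus m : H)⁻¹ • v) 0 = R.ψ v 0 + c * R.ψ v 1) ∧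
      (c = 0 → ∀ l : Fˣ, (R'.torus m : H) * (R.torus l : H) = (R.torus l : H) * (R'.torus m : H)) := by
  set t : H := (R'.torus m : H) with ht
  have he : MulAut.conj t • A = A := LLemma.conj_eq_of_mem_normalizer <|
    LLemma.mem_normalizer_of_conj_le fun y hy => by
      obtain ⟨a, ha, rfl⟩ := (Subgroup.mem_smul_pointwise_iff_exists _ _ _).1 hy
      exact R'.torus_conj_mem m ha
  have hfix : ∀ y, t⁻¹ • hb.sy R y = hb.sy R y := fun y =>
    hsw.line _ (hb.sy_mem R y) (hb.proj_sy R y) _ (R'.E.inv_mem (R'.torus m).2)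
  rcases hb.compare R (R.conj t he) with ⟨⟨C⟩⟩ | h
  · obtain ⟨c, hc⟩ := hb.shift_linear_of_injective hsw.four (hb.swap_nu_injective hsw) C
    have hline : ∀ y, y = C.a * C.b * C.σ y := fun y => by
      have h1 := (C.line _ (hb.sy_mem R y) (hb.proj_sy R y)).2
      rw [RootPair.conj_ψ, hfix, hb.ψ_sy] at h1
      simpa using h1
    have hab : C.a * C.b = 1 := by
      have := hline 1
      rw [map_one, mul_one] at this
      exact this.symm
    have hσ : ∀ y, C.σ y = y := fun y => by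
      have := hline y
      rw [hab, one_mul] at this
      exact this.symm
    refine ⟨c, fun v => ?_, fun hc0 l => ?_⟩
    · have := hb.ψ_shift C v
      rwa [RootPair.conj_ψ, hab, one_mul, hσ, hc] at this
    · have h1 := hb.torus_eq_of_shift C l fun x => by simp [hc, hc0]
      rw [show Units.map (C.σ : F →* F) l = l from Units.ext (hσ _), RootPair.conj_torus,
        mul_inv_eq_iff_eq_mul] at h1
      exact h1
  · exfalso
    have h1 := mem_fixedSub_smul.1 (h.line _ (hb.sy_mem R 1) (hb.proj_sy R 1))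
    rw [hfix, ← R.ker, hb.ψ_sy] at h1
    simpa using congrFun h1 0

/-- The normal form: a torus element of the second pair preserving the opposite line. -/
theorem swap_normal (hsw : R.Swap (p := 2) R') :
    ∃ (d : A), ∀ x, (R'.conj (d : H) (RootPair.conj_smul_self d)).ψ (hb.sx R x) 0 = 0 ∧
      (R'.conj (d : H) (RootPair.conj_smul_self d)).proj (hb.sx R x) = 0 := by
  haveI := hb.charP R
  have h2 : (2 : F) = 0 := CharP.cast_eq_zero F 2
  obtain ⟨ω, hω⟩ := exists_omega hsw.four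
  have hw1 : (1 : F) - ω ≠ 0 := fun e => one_ne_zero (by
    linear_combination hω + ((ω : F) + 2) * e - h2 : (1 : F) = 0)
  obtain ⟨σ, a, b, -, hb0, -, hquot, -, -⟩ := hb.exists_swap_data hsw
  set m : Fˣ := Units.map (σ : F →* F) ω with hm
  obtain ⟨c, hc, -⟩ := hb.swap_shift hsw m
  set d : A := R.root (c / (1 - ω)) with hd
  set R₁ := R'.conj (d : H) (RootPair.conj_smul_self d) with hR₁
  have hdinv : R.coord d⁻¹ = -(c / (1 - ω)) := by
    have h1 := R.coord_mul d d⁻¹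
    rw [mul_inv_cancel, R.coord_eq_zero.2 rfl, hd, R.coord_root] at h1
    linear_combination -h1
  set t : H := (R₁.torus m : H) with ht
  have hq : ∀ u, R.ψ ((R'.torus m : H)⁻¹ • u) 1 = (ω : F) * R.ψ u 1 := fun u => by
    refine σ.injective (mul_left_cancel₀ hb0 ?_)
    rw [← hquot, ← Subgroup.coe_inv, R'.torus_inv, R'.ψ_torus]
    simp only [Matrix.cons_val_one, Matrix.cons_val_zero, inv_inv]
    rw [hquot, map_mul, hm]
    show σ (ω : F) * _ = _
    ring
  have htinv : ∀ v, R.ψ (t⁻¹ • v) = ![R.ψ v 0, (ω : F) * R.ψ v 1] := fun v => by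
    rw [ht, RootPair.conj_torus]
    rw [_root_.mul_inv_rev, _root_.mul_inv_rev, inv_inv, mul_smul, mul_smul, R.ψ_smul,
      hc, hq, ← Subgroup.coe_inv, R.ψ_smul, hdinv, hd, R.coord_root]
    funext i
    fin_cases i
    · simp
      field_simp
      ring
    · simp
  have hsw₁ := hb.swap_conjA hsw d
  obtain ⟨c₁, hc₁, hcomm⟩ := hb.swap_shift hsw₁ m
  have hc₁0 : c₁ = 0 := by
    have h1 := hc₁ (hb.sx R 1)
    rw [htinv, hb.ψ_sx] at h1
    simpa using h1.symm
  have hcomm' := hcomm hc₁0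
  have hprojt : ∀ v, R.proj (t⁻¹ • v) = t⁻¹ • R.proj v := fun v => by
    haveI := Fintype.ofFinite Fˣ
    rw [R.proj_apply, R.proj_apply, smul_neg, Finset.smul_sum]
    congr 1
    refine Finset.sum_congr rfl fun l _ => ?_
    rw [← mul_smul, ← mul_smul]
    congr 1
    rw [eq_inv_mul_iff_mul_eq, ← mul_assoc, hcomm' l, mul_inv_cancel_right]
  have htsx : ∀ x, t⁻¹ • hb.sx R x = hb.sx R ((ω : F) * x) := fun x => by
    refine hb.ext R ?_ ?_
    · rw [htinv, hb.ψ_sx, hb.ψ_sx]; simp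
    · rw [hprojt, hb.proj_sx, hb.proj_sx, smul_zero]
  -- the projection of the second pair kills the opposite line
  have hproj0 : ∀ x, R₁.proj (hb.sx R x) = 0 := fun x => by
    have h1 : ∀ u, R₁.proj (hb.sx R ((ω : F) * u)) = R₁.proj (hb.sx R u) := fun u => by
      rw [← htsx, ht, ← Subgroup.coe_inv, R₁.torus_inv, R₁.proj_torus]
    have h3 := h1 (x / ((ω : F) - 1))
    rw [← sub_eq_zero, ← map_sub, ← map_sub, ← sub_one_mul,
      mul_div_cancel₀ _ (fun e => hw1 (by linear_combination -e))] at h3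
    exact h3
  -- the first torus fixes the coordinate
  obtain ⟨c₂, hc₂, -⟩ := hb.swap_shift (hb.swap_symm hsw₁) ω
  set h : H := (R.torus ω : H)
  have hc₂0 : c₂ = 0 := by
    obtain ⟨v, hv⟩ := R₁.surj ![0, 1]
    have e : t⁻¹ * h⁻¹ = h⁻¹ * t⁻¹ := by
      rw [← _root_.mul_inv_rev, ← _root_.mul_inv_rev, hcomm' ω]
    have h1 := congrArg (fun g : H => R₁.ψ (g • v) 0) e
    simp only [mul_smul] at h1
    rw [hc₂, ht, ← Subgroup.coe_inv, R₁.torus_inv, R₁.ψ_torus, R₁.ψ_torus, hc₂, hv] at h1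
    simp only [Matrix.cons_val_zero, Matrix.cons_val_one, inv_inv, mul_zero, zero_add, mul_one] at h1
    have hmne : ((m⁻¹ : Fˣ) : F) ≠ (m : F) := fun e' => by
      rw [Units.val_inv_eq_inv_val] at e'
      have h4 : (m : F) * m = 1 := by nth_rewrite 1 [← e']; exact inv_mul_cancel₀ m.ne_zero
      have h5 : ((m : F) - 1) * ((m : F) - 1) = 0 := by
        linear_combination h4 + (1 - (m : F)) * h2
      have h6 := sub_eq_zero.1 (mul_self_eq_zero.1 h5)
      refine hw1 (sub_eq_zero.2 (σ.injective ?_))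
      rw [map_one]; exact h6.symm
    by_contra hne
    exact hmne (mul_right_cancel₀ hne (by linear_combination h1))
  have hθ : ∀ x, R₁.ψ (hb.sx R x) 0 = 0 := fun x => by
    have h1 : ∀ u, R₁.ψ (hb.sx R ((ω : F) * u)) 0 = R₁.ψ (hb.sx R u) 0 := fun u => by
      have h3 := hc₂ (hb.sx R u)
      rw [hc₂0, zero_mul, add_zero, ← Subgroup.coe_inv, R.torus_inv, hb.torus_sx, inv_inv] at h3
      exact h3
    have h3 := h1 (x / ((ω : F) - 1))
    rw [← sub_eq_zero, ← Pi.sub_apply, ← map_sub, ← map_sub, ← sub_one_mul,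
      mul_div_cancel₀ _ (fun e => hw1 (by linear_combination -e))] at h3
    exact h3
  exact ⟨d, fun x => ⟨hθ x, hproj0 x⟩⟩

/-- A vector by its four coordinates. -/
noncomputable def pt3 (R : RootPair A W F) (y x u : F) (d : W) : W :=
  hb.pt R y x (hb.nu R u + d)

theorem swap_false (hsw : R.Swap (p := 2) R') (hθ : ∀ x, R'.ψ (hb.sx R x) 0 = 0)
    (hV : ∀ x, R'.proj (hb.sx R x) = 0)
    (hAT : A ≤ (T : Subgroup H)) (hEM : ¬ R.E ≤ M)
    (hN : ∀ g ∈ R.E ⊔ R'.E, (∀ a ∈ A, g * a * g⁻¹ ∈ A) → g ∈ M) : False := by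
  haveI := hb.charP R
  have h2 : (2 : F) = 0 := CharP.cast_eq_zero F 2
  have hF := hsw.four
  obtain ⟨ω, hω⟩ := exists_omega hF
  obtain ⟨σ, a, b, ha, hb0, -, hquot, hν, hprojν⟩ := hb.exists_swap_data hsw
  set v : H := R'.graphElt (Units.mk0 a ha) with hv
  set D : AddSubgroup W := fixedSub R.E ⊓ fixedSub R'.E
  have hD : ∀ {d}, d ∈ D → ∀ u, hb.nu R u + d ∈ fixedSub R.E := fun hd u =>
    add_mem (hb.nu_mem R u) hd.1
  have hψv : ∀ u, R'.ψ (v • u) = ![a * R'.ψ u 1, a⁻¹ * R'.ψ u 0] := fun u => by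
    rw [hv, RootPair.graphElt, mul_smul, R'.ψ_torus, R'.ψ_weyl]
    funext i
    fin_cases i <;> simp [CharTwo.neg_eq]
  have hprojv : ∀ u, R'.proj (v • u) = R'.proj u := fun u => by
    rw [hv, RootPair.graphElt, mul_smul, R'.proj_torus, R'.proj_weyl,
      hb.proj_mem R' u _ R'.weyl.2]
  have hνψ : ∀ u, R'.ψ (hb.nu R u) = ![a * b * σ u, 0] := fun u => funext fun i => by
    fin_cases i
    · exact hν u
    · exact (R'.mem_fix _).1 (hb.nu_fix R u)
  have hsxψ : ∀ x, R'.ψ (hb.sx R x) = ![0, b * σ x] := fun x => funext fun i => by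
    fin_cases i
    · exact hθ x
    · show R'.ψ (hb.sx R x) 1 = _
      rw [hquot, hb.ψ_sx]
      simp
  have hvx : ∀ x, v • hb.sx R x = hb.nu R x := fun x => hb.ext R'
    (by rw [hψv, hsxψ, hνψ]; funext i; fin_cases i <;> simp [mul_assoc])
    (by rw [hprojv, hV, hprojν])
  have hvν : ∀ u, v • hb.nu R u = hb.sx R u := fun u => hb.ext R'
    (by rw [hψv, hsxψ, hνψ]; funext i; fin_cases i <;> simp [← mul_assoc, inv_mul_cancel₀ ha])
    (by rw [hprojv, hV, hprojν])
  have hvE' : v ∈ R'.E := R'.E.mul_mem (R'.torus _).2 R'.weyl.2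
  have hvy : ∀ y, v • hb.sy R y = hb.sy R y := fun y =>
    hsw.line _ (hb.sy_mem R y) (hb.proj_sy R y) v hvE'
  have hvpt : ∀ y x u d, d ∈ D → v • hb.pt3 R y x u d = hb.pt3 R y u x d := fun y x u d hd => by
    rw [pt3, pt3, pt, pt, smul_add, smul_add, smul_add, hvy, hvx, hvν, hd.2 v hvE']
    abel
  have hwpt : ∀ y x u d, d ∈ D → (R.weyl : H) • hb.pt3 R y x u d = hb.pt3 R x y u d :=
    fun y x u d hd => hb.weyl_pt R y x (hD hd u)
  have hrpt : ∀ r y x u d, d ∈ D → (R.root (r ^ 2) : H) • hb.pt3 R y x u d =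
      hb.pt3 R (y + r ^ 2 * x) x (u + r * x) d := fun r y x u d hd => by
    rw [pt3, hb.root_pt R r y x (hD hd u), pt3, map_add]
    congr 1
    abel
  have hdec : ∀ z : W, ∃ y x u d, d ∈ D ∧ z = hb.pt3 R y x u d := fun z => by
    have hz := hb.proj_mem R z
    refine ⟨R.ψ z 0, R.ψ z 1, σ.symm (R'.ψ (R.proj z) 0 / (a * b)),
      R.proj z - hb.nu R (σ.symm (R'.ψ (R.proj z) 0 / (a * b))),
      AddSubgroup.mem_inf.2 ⟨sub_mem hz (hb.nu_mem R _), ?_⟩, ?_⟩
    · rw [← R'.ker, map_sub, hνψ]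
      funext i
      fin_cases i
      · simp [mul_div_cancel₀ _ (mul_ne_zero ha hb0)]
      · simp [(R'.mem_fix _).1 (fixedSub_anti R.le hz)]
    · rw [pt3, add_sub_cancel]
      exact hb.eq_pt R z
  set w : H := (R.weyl : H)
  set s : H := w * v * w with hs
  have hspt : ∀ y x u d, d ∈ D → s • hb.pt3 R y x u d = hb.pt3 R u x y d := fun y x u d hd => by
    rw [hs, mul_smul, mul_smul, hwpt _ _ _ _ hd, hvpt _ _ _ _ hd, hwpt _ _ _ _ hd]
  have hs2 : s * s = 1 := hb.set.faithful _ fun z => by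
    obtain ⟨y, x, u, d, hd, rfl⟩ := hdec z
    rw [mul_smul, hspt _ _ _ _ hd, hspt _ _ _ _ hd]
  have hsinv : s⁻¹ = s := inv_eq_of_mul_eq_one_right hs2
  have hsC : ∀ z ∈ fixedSub A, s • z ∈ fixedSub A := fun z hz => by
    obtain ⟨y, x, u, d, hd, rfl⟩ := hdec z
    rw [R.mem_fix, pt3, hb.ψ_pt R _ _ (hD hd u)] at hz
    rw [hspt _ _ _ _ hd, R.mem_fix, pt3, hb.ψ_pt R _ _ (hD hd y)]
    exact hz
  have hsn : ∀ a' ∈ A, s * a' * s⁻¹ ∈ A := fun a' ha' => by
    refine hb.set.mem_of_series hb.isMin.toIsQuad hb.isMin.mu_eq (fun z hz => ?_) fun z => ?_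
    · rw [hsinv, mul_smul, mul_smul, hsC z hz a' ha', ← mul_smul, hs2, one_smul]
    · rw [conj_sub]
      exact hsC _ (hb.isMin.quad a' ha' _)
  have hwm : w ∈ R.E ⊔ R'.E := Subgroup.mem_sup_left R.weyl.2
  have hsM : s ∈ M := hN _ (Subgroup.mul_mem _ (Subgroup.mul_mem _ hwm
    (Subgroup.mem_sup_right hvE')) hwm) hsn
  obtain ⟨T', h', hAT', hsT'⟩ := hb.set.exists_sylow_involution hAT (by rw [sq]; exact hs2) hsM hsn
  set g : H := v * (R.root (1 ^ 2) : H) * w with hg
  have hgpt : ∀ y x u d, d ∈ D → g • hb.pt3 R y x u d = hb.pt3 R (x + y) (u + y) y d :=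
    fun y x u d hd => by
      rw [hg, mul_smul, mul_smul, hwpt _ _ _ _ hd, hrpt _ _ _ _ _ hd, hvpt _ _ _ _ hd]
      simp only [one_pow, one_mul]
  have hgM : g ∈ M := by
    by_contra hgM
    obtain ⟨z, hz, hne⟩ := h'.moved g hgM
    obtain ⟨y, x, u, d, hd, rfl⟩ := hdec z
    refine hne ?_
    have hx : x = 0 := by
      have h1 := (R.mem_fix _).1 (fixedSub_anti hAT' hz)
      rw [pt3, hb.ψ_pt R _ _ (hD hd u)] at h1
      simpa using h1
    have h1 := congrArg R.ψ (hz s hsT')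
    rw [hspt _ _ _ _ hd, pt3, pt3, hb.ψ_pt R _ _ (hD hd u), hb.ψ_pt R _ _ (hD hd y)] at h1
    have hu : u = y := by simpa using congrFun h1 0
    rw [hgpt _ _ _ _ hd, hx, hu, zero_add, CharTwo.add_self_eq_zero]
  set t : H := (R.torus ω : H) with ht
  have htM : t ∈ M := hN _ (Subgroup.mem_sup_left (R.torus ω).2) fun a' ha' =>
    R.torus_conj_mem ω ha'
  have htpt : ∀ y x u d, d ∈ D → t • hb.pt3 R y x u d =
      hb.pt3 R ((ω : F) * y) ((ω : F) ^ 2 * x) u d := fun y x u d hd => by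
    rw [ht, pt3, hb.torus_pt R _ _ _ (hD hd u), omega_inv hω, pt3]
  set a₁ : H := (R.root (1 ^ 2) : H) with ha₁
  set a₃ : H := (R.root ((ω : F) ^ 2) : H) with ha₃
  have key : s * t * g * t * g = a₁ * w * t * a₃ := by
    refine inv_mul_eq_one.1 (hb.set.faithful _ fun z => ?_)
    obtain ⟨y, x, u, d, hd, rfl⟩ := hdec z
    rw [mul_smul, inv_smul_eq_iff]
    refine Eq.symm ?_
    rw [mul_smul, mul_smul, mul_smul, mul_smul, hgpt _ _ _ _ hd, htpt _ _ _ _ hd, hgpt _ _ _ _ hd,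
      htpt _ _ _ _ hd, hspt _ _ _ _ hd, mul_smul, mul_smul, mul_smul, ha₃, hrpt _ _ _ _ _ hd,
      htpt _ _ _ _ hd, hwpt _ _ _ _ hd, ha₁, hrpt _ _ _ _ _ hd]
    simp only [one_pow, one_mul]
    have hw3 : (ω : F) ^ 3 = 1 := by linear_combination ((ω : F) - 1) * hω
    congr 1
    · linear_combination (-x) * hω - x * hw3 + ((ω : F) * x) * h2
    · linear_combination y * hω + y * hw3 - (ω : F) * y * h2
    · linear_combination (x + y) * hω + (u + y - x) * hw3 - (x + (ω : F) * x + (ω : F) * y) * h2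
  have hwM : w ∈ M := by
    have h1 : a₁ ∈ M := hb.set.sylow_le (hAT (R.root _).2)
    have h3 : a₃ ∈ M := hb.set.sylow_le (hAT (R.root _).2)
    rw [show w = a₁⁻¹ * (s * t * g * t * g) * a₃⁻¹ * t⁻¹ by rw [key]; group]
    exact M.mul_mem (M.mul_mem (M.mul_mem (M.inv_mem h1)
      (M.mul_mem (M.mul_mem (M.mul_mem (M.mul_mem hsM htM) hgM) htM) hgM)) (M.inv_mem h3))
      (M.inv_mem htM)
  refine hEM ?_
  rw [R.eq_sup_weyl]
  refine sup_le (hAT.trans hb.set.sylow_le) ?_
  rintro _ hy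
  obtain ⟨a', ha', rfl⟩ := (Subgroup.mem_smul_pointwise_iff_exists _ _ _).1 hy
  exact M.mul_mem (M.mul_mem hwM (hb.set.sylow_le (hAT ha'))) (M.inv_mem hwM)

end Big

end CfsgLib.FFModules.MinimalParabolic
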