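import Cfsg.Agent.Lib.FFModules.MinimalParabolic.Transvections

/-!
Frames: a set of vertices whose pairwise sums are the vectors of transvections with the incidence
of the transpositions of a symmetric group.  A maximal frame is closed under incidence.
-/

set_option autoImplicit false
set_option linter.style.haveILetI false
set_option linter.unusedSectionVars false

namespace CfsgLib.FFModules.MinimalParabolic

open SL2Pair
open scoped Pointwise

variable {H W : Type*} [Group H] [AddCommGroup W] [DistribMulAction H W] [Module (ZMod 2) W]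

open Classical in
/-- The indicator of a pair. -/
noncomputable def ind (p q r : W) : ZMod 2 :=
  (if r = p then 1 else 0) + (if r = q then 1 else 0)

omit [DistribMulAction H W] in
theorem ind_left {p q : W} (h : p ≠ q) : ind p q p = 1 := by simp [ind, h]

omit [DistribMulAction H W] in
theorem ind_right {p q : W} (h : p ≠ q) : ind p q q = 1 := by simp [ind, Ne.symm h]

omit [DistribMulAction H W] in
theorem ind_other {p q r : W} (h1 : r ≠ p) (h2 : r ≠ q) : ind p q r = 0 := by simp [ind, h1, h2]

omit [DistribMulAction H W] in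
theorem ind_comm (p q r : W) : ind p q r = ind q p r := by rw [ind, ind, add_comm]

omit [DistribMulAction H W] in
open Classical in
theorem add_ind_smul {p q : W} (h : p ≠ q) (r : W) :
    r + ind p q r • (p + q) = Equiv.swap p q r := by
  rcases eq_or_ne r p with rfl | h1
  · rw [ind_left h, one_smul, ← add_assoc, add_self_eq, zero_add, Equiv.swap_apply_left]
  rcases eq_or_ne r q with rfl | h2
  · rw [ind_right h, one_smul, add_comm p r, ← add_assoc, add_self_eq, zero_add, Equiv.swap_apply_right]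
  · rw [ind_other h1 h2, zero_smul, add_zero, Equiv.swap_apply_of_ne_of_ne h1 h2]

/-- A frame. -/
structure IsFrame (D : Set H) (P : Finset W) : Prop where
  three : 3 ≤ P.card
  edge : ∀ p ∈ P, ∀ q ∈ P, p ≠ q → ∃ d ∈ D, (vec d : W) = p + q
  rel : ∀ p ∈ P, ∀ q ∈ P, p ≠ q → ∀ d ∈ D, (vec d : W) = p + q → ∀ r ∈ P, ∀ s ∈ P,
    coef d (r + s) = ind p q r + ind p q s
  four : ∀ p ∈ P, ∀ q ∈ P, ∀ r ∈ P, ∀ s ∈ P, p ≠ q → r ≠ s → p ≠ r → p ≠ s → q ≠ r → q ≠ s →
    p + q ≠ r + s

/-- The transvections of a frame. -/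
def edges (D : Set H) (P : Finset W) : Set H :=
  {d | d ∈ D ∧ ∃ p ∈ P, ∃ q ∈ P, p ≠ q ∧ (vec d : W) = p + q}

namespace IsFrame

variable {D : Set H} {P : Finset W} (hP : IsFrame D P)
include hP

theorem eq_or_swap {p q r s : W} (hp : p ∈ P) (hq : q ∈ P) (hr : r ∈ P) (hs : s ∈ P) (hpq : p ≠ q)
    (hrs : r ≠ s) (e : p + q = r + s) : (p = r ∧ q = s) ∨ (p = s ∧ q = r) := by
  by_cases h1 : p = r
  · subst h1; exact Or.inl ⟨rfl, add_left_cancel e⟩
  by_cases h2 : p = s
  · subst h2; exact Or.inr ⟨rfl, add_left_cancel (e.trans (add_comm r p))⟩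
  exfalso
  by_cases h3 : q = r
  · subst h3; exact h2 (add_right_cancel (e.trans (add_comm q s)))
  by_cases h4 : q = s
  · subst h4; exact h1 (add_right_cancel e)
  exact hP.four p hp q hq r hr s hs hpq hrs h1 h2 h3 h4 e

end IsFrame

namespace Tvs

variable [Finite H] [Finite W] {T : Sylow 2 H} {M : Subgroup H} {D : Set H}
variable (hD : Tvs T M D W) {P : Finset W} {d e : H}
include hD

open Classical in
/-- Conjugation of edges is given by the transposition of the vertices. -/
theorem smul_edge (hP : IsFrame D P) {p q : W} (hp : p ∈ P) (hq : q ∈ P) (hpq : p ≠ q)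
    (hd : d ∈ D) (hv : (vec d : W) = p + q) {r s : W} (hr : r ∈ P) (hs : s ∈ P) :
    d • (r + s) = Equiv.swap p q r + Equiv.swap p q s := by
  rw [hD.smul_eq hd, hP.rel p hp q hq hpq d hd hv r hr s hs, hv, ← add_ind_smul hpq,
    ← add_ind_smul hpq, add_smul]
  abel

/-- It suffices to check incidence against one base vertex. -/
theorem rel_of_base (hd : d ∈ D) {p q b : W}
    (h : ∀ s ∈ P, coef d (b + s) = ind p q b + ind p q s) {r s : W} (hr : r ∈ P) (hs : s ∈ P) :
    coef d (r + s) = ind p q r + ind p q s := by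
  have e : r + s = (b + r) + (b + s) := by
    rw [add_add_add_comm, add_self_eq, zero_add]
  rw [e, hD.coef_add hd, h r hr, h s hs, add_add_add_comm,
    show ind p q b + ind p q b = 0 by rcases zmod_two_eq (ind p q b) with e' | e' <;> rw [e'] <;> rfl,
    zero_add]

theorem ne_add_of_commute {a b c c' : H} (ha : a ∈ D) (hb : b ∈ D) (hc : c ∈ D) (hc' : c' ∈ D)
    (hab : a * b = b * a) (hac : a * c = c * a) (hac' : a * c' = c' * a) (hbc : b * c = c * b)
    (hbc' : b * c' = c' * b) (hcc' : c * c' = c' * c) (h1 : a ≠ b) (h2 : a ≠ c) (h3 : a ≠ c') :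
    (vec a : W) ≠ vec b + vec c + vec c' := by
  classical
  intro e
  refine hD.indep {a, b, c, c'} (by simp [ha, hb, hc, hc']) (by simp [hab, hac, hac', hbc, hbc', hcc'])
    (c := a) (by simp)
    (moves (Subgroup.zpowers b) W ⊔ moves (Subgroup.zpowers c) W ⊔ moves (Subgroup.zpowers c') W)
    (fun x hx hne => ?_) ?_ ?_
  · simp only [Finset.mem_insert, Finset.mem_singleton] at hx
    rcases hx.resolve_left hne with rfl | rfl | rfl
    · exact le_sup_of_le_left le_sup_left
    · exact le_sup_of_le_left le_sup_right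
    · exact le_sup_right
  · refine sup_le (sup_le ?_ ?_) ?_ <;>
      refine Finset.le_sup (f := fun x => moves (Subgroup.zpowers x) W) (Finset.mem_erase.2 ⟨?_, ?_⟩)
    · exact h1.symm
    · simp
    · exact h2.symm
    · simp
    · exact h3.symm
    · simp
  · rw [e]
    exact add_mem (add_mem (AddSubgroup.mem_sup_left (AddSubgroup.mem_sup_left (hD.vec_mem_moves hb)))
      (AddSubgroup.mem_sup_left (AddSubgroup.mem_sup_right (hD.vec_mem_moves hc))))
      (AddSubgroup.mem_sup_right (hD.vec_mem_moves hc'))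

open Classical in
/-- A related pair gives a frame of three vertices. -/
theorem frame_of_pair (hd : d ∈ D) (he : e ∈ D) (h : coef d (vec e : W) = 1) :
    IsFrame D ({0, vec d, vec e} : Finset W) ∧ d ∈ edges D ({0, vec d, vec e} : Finset W) ∧
      e ∈ edges D ({0, vec d, vec e} : Finset W) := by
  have hne : (vec d : W) ≠ vec e := fun e' => by
    rw [← e', hD.coef_vec_self hd] at h; exact zero_ne_one h
  have hx := hD.vec_ne hd
  have hy := hD.vec_ne he
  have hcard : ({0, vec d, vec e} : Finset W).card = 3 := by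
    rw [Finset.card_insert_of_notMem (by simp [Ne.symm hx, Ne.symm hy]),
      Finset.card_insert_of_notMem (by simpa using hne), Finset.card_singleton]
  set f := d * e * d⁻¹ with hf
  have hfD : f ∈ D := hD.conj d e he
  have hvf : (vec f : W) = vec d + vec e := by rw [hf, hD.vec_braid hd he h, add_comm]
  have h' : coef e (vec d : W) = 1 := hD.coef_symm hd he ▸ h
  refine ⟨⟨hcard.ge, ?_, ?_, ?_⟩, ⟨hd, 0, by simp, vec d, by simp, Ne.symm hx, (zero_add _).symm⟩,
    ⟨he, 0, by simp, vec e, by simp, Ne.symm hy, (zero_add _).symm⟩⟩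
  · intro p hp q hq hpq
    simp only [Finset.mem_insert, Finset.mem_singleton] at hp hq
    rcases hp with rfl | rfl | rfl <;> rcases hq with rfl | rfl | rfl <;>
      first
      | exact absurd rfl hpq
      | exact ⟨d, hd, (zero_add _).symm⟩
      | exact ⟨d, hd, (add_zero _).symm⟩
      | exact ⟨e, he, (zero_add _).symm⟩
      | exact ⟨e, he, (add_zero _).symm⟩
      | exact ⟨f, hfD, hvf⟩
      | exact ⟨f, hfD, hvf.trans (add_comm _ _)⟩
  · intro p hp q hq hpq c hc hvc r hr s hs
    refine hD.rel_of_base hc (b := 0) (fun s hs => ?_) hr hs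
    simp only [Finset.mem_insert, Finset.mem_singleton] at hp hq hs
    rw [zero_add]
    have ed : ∀ {x : H}, x ∈ D → (vec x : W) = p + q → c = x := fun hx' hv' =>
      hD.vec_injOn hc hx' (hvc.trans hv'.symm)
    rcases hp with rfl | rfl | rfl <;> rcases hq with rfl | rfl | rfl <;>
      (try exact absurd rfl hpq) <;>
      first
      | (obtain rfl := ed hd (zero_add _).symm
         rcases hs with rfl | rfl | rfl <;>
           simp [ind, h, h', hD.coef_zero, hD.coef_vec_self, hd, hx, Ne.symm hx, hy, Ne.symm hy, hne,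
             Ne.symm hne] <;> rfl)
      | (obtain rfl := ed hd (add_zero _).symm
         rcases hs with rfl | rfl | rfl <;>
           simp [ind, h, h', hD.coef_zero, hD.coef_vec_self, hd, hx, Ne.symm hx, hy, Ne.symm hy, hne,
             Ne.symm hne] <;> rfl)
      | (obtain rfl := ed he (zero_add _).symm
         rcases hs with rfl | rfl | rfl <;>
           simp [ind, h, h', hD.coef_zero, hD.coef_vec_self, he, hx, Ne.symm hx, hy, Ne.symm hy, hne,
             Ne.symm hne] <;> rfl)
      | (obtain rfl := ed he (add_zero _).symm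
         rcases hs with rfl | rfl | rfl <;>
           simp [ind, h, h', hD.coef_zero, hD.coef_vec_self, he, hx, Ne.symm hx, hy, Ne.symm hy, hne,
             Ne.symm hne] <;> rfl)
      | (obtain rfl := ed hfD (by first | exact hvf | exact hvf.trans (add_comm _ _))
         rw [hf, hD.coef_braid hd he h]
         rcases hs with rfl | rfl | rfl <;>
           simp [ind, h, h', hD.coef_zero, hD.coef_vec_self, hd, he, hx, Ne.symm hx, hy, Ne.symm hy, hne,
             Ne.symm hne] <;> rfl)
  · intro p hp q hq r hr s hs hpq hrs hpr hps hqr hqs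
    exfalso
    have : ({p, q, r, s} : Finset W) ⊆ {0, vec d, vec e} := by
      simp only [Finset.insert_subset_iff, Finset.singleton_subset_iff]
      exact ⟨hp, hq, hr, hs⟩
    have h1 := Finset.card_le_card this
    rw [hcard, Finset.card_insert_of_notMem (by simp [hpq, hpr, hps]),
      Finset.card_insert_of_notMem (by simp [hqr, hqs]), Finset.card_insert_of_notMem (by simpa using hrs),
      Finset.card_singleton] at h1
    omega

open Classical in
/-- A transvection related to a frame is an edge or extends the frame. -/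
theorem edge_or_extend (hP : IsFrame D P) {c : H} (hc : c ∈ D) (hce : c ∉ edges D P)
    (hrel : ∃ p ∈ P, ∃ q ∈ P, coef c (p + q) = 1) :
    ∃ P' : Finset W, IsFrame D P' ∧ P ⊂ P' := by
  obtain ⟨p₀, hp₀, q₀, hq₀, hone⟩ := hrel
  set g : W → ZMod 2 := fun r => coef c (p₀ + r) with hg
  have hgadd : ∀ r s, coef c (r + s) = g r + g s := fun r s => by
    rw [hg, ← hD.coef_add hc, add_add_add_comm, add_self_eq, zero_add]
  have htwo : ∀ x : ZMod 2, x + x = 0 := fun x => by rcases zmod_two_eq x with e | e <;> rw [e] <;> rfl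
  have hne_edge : ∀ p ∈ P, ∀ q ∈ P, p ≠ q → (vec c : W) ≠ p + q := fun p hp q hq h e =>
    hce ⟨hc, p, hp, q, hq, h, e⟩
  -- one side of the partition is a single vertex
  obtain ⟨i, hi, hsingle⟩ : ∃ i ∈ P, ∀ r ∈ P, r ≠ i → g r ≠ g i := by
    by_contra hno
    push Not at hno
    obtain ⟨b, hb, hba, hgb⟩ := hno p₀ hp₀
    obtain ⟨m, hm, hml, hgm⟩ := hno q₀ hq₀
    have hgne : g p₀ + g q₀ = 1 := by rw [← hgadd]; exact hone
    have hal : p₀ ≠ q₀ := fun e => by rw [e, htwo] at hgne; exact zero_ne_one hgne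
    have hne' : ∀ {u v : W}, g u = g p₀ → g v = g q₀ → u ≠ v := fun hu hv e => by
      subst e
      rw [← hu, hv, htwo] at hgne; exact zero_ne_one hgne
    have ham := hne' (u := p₀) rfl hgm
    have hbl := hne' hgb (v := q₀) rfl
    have hbm := hne' hgb hgm
    obtain ⟨e₁, he₁, hv₁⟩ := hP.edge p₀ hp₀ b hb hba.symm
    obtain ⟨e₂, he₂, hv₂⟩ := hP.edge q₀ hq₀ m hm hml.symm
    obtain ⟨e₃, he₃, hv₃⟩ := hP.edge p₀ hp₀ q₀ hq₀ hal
    obtain ⟨e₄, he₄, hv₄⟩ := hP.edge b hb m hm hbm
    have c3 : coef e₃ (vec c : W) = 1 := by rw [hD.coef_symm he₃ hc, hv₃]; exact hone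
    set c₁ := e₃ * c * e₃⁻¹ with hc₁
    have hc₁D : c₁ ∈ D := hD.conj _ _ hc
    have hf1 : ∀ v, coef c₁ v = coef c v + coef e₃ v := hD.coef_braid he₃ hc c3
    have hv1 : (vec c₁ : W) = vec c + vec e₃ := hD.vec_braid he₃ hc c3
    have r3 := hP.rel p₀ hp₀ q₀ hq₀ hal e₃ he₃ hv₃
    have r4 := hP.rel b hb m hm hbm e₄ he₄ hv₄
    have c4 : coef e₄ (vec c₁ : W) = 1 := by
      rw [hD.coef_symm he₄ hc₁D, hf1, hv₄, hgadd, r3 b hb m hm,
        ind_other hba hbl, ind_other (Ne.symm ham) hml, hgb, hgm, hgne, add_zero, add_zero]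
    set c₂ := e₄ * c₁ * e₄⁻¹ with hc₂
    have hc₂D : c₂ ∈ D := hD.conj _ _ hc₁D
    have hf2 : ∀ v, coef c₂ v = coef c v + coef e₃ v + coef e₄ v := fun v => by
      rw [hc₂, hD.coef_braid he₄ hc₁D c4, hf1]
    have hv2 : (vec c₂ : W) = vec c + vec e₃ + vec e₄ := by rw [hc₂, hD.vec_braid he₄ hc₁D c4, hv1]
    have z1 : coef c (vec e₁ : W) = 0 := by rw [hv₁, hgadd, hgb, htwo]
    have z2 : coef c (vec e₂ : W) = 0 := by rw [hv₂, hgadd, hgm, htwo]
    have z12 : coef e₁ (vec e₂ : W) = 0 := by
      rw [hv₂, hP.rel p₀ hp₀ b hb hba.symm e₁ he₁ hv₁ q₀ hq₀ m hm,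
        ind_other hal.symm hbl.symm, ind_other (Ne.symm ham) (Ne.symm hbm), add_zero]
    have zc2 : coef c₂ (vec c : W) = 0 := by
      rw [hf2, hD.coef_vec_self hc, c3, hD.coef_symm he₄ hc, hv₄, hgadd, hgb, hgm, hgne]
      rfl
    have z21 : coef c₂ (vec e₁ : W) = 0 := by
      rw [hf2, z1, hv₁, r3 p₀ hp₀ b hb, r4 p₀ hp₀ b hb, ind_left hal, ind_other hba hbl,
        ind_other hba.symm ham, ind_left hbm]
      rfl
    have z22 : coef c₂ (vec e₂ : W) = 0 := by
      rw [hf2, z2, hv₂, r3 q₀ hq₀ m hm, r4 q₀ hq₀ m hm, ind_right hal, ind_other (Ne.symm ham) hml,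
        ind_other hbl.symm hml.symm, ind_right hbm]
      rfl
    have hlin : ∀ {x y z : W}, x + y = z → x = z + y := fun {x y z} h => by
      rw [← h, add_assoc, add_self_eq, add_zero]
    refine hD.ne_add_of_commute hc he₁ he₂ hc₂D ((hD.commute_iff hc he₁).2 z1)
      ((hD.commute_iff hc he₂).2 z2) ((hD.commute_iff hc₂D hc).2 zc2).symm
      ((hD.commute_iff he₁ he₂).2 z12) ((hD.commute_iff hc₂D he₁).2 z21).symm
      ((hD.commute_iff hc₂D he₂).2 z22).symm
      (fun e => hne_edge p₀ hp₀ b hb hba.symm (e ▸ hv₁))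
      (fun e => hne_edge q₀ hq₀ m hm hml.symm (e ▸ hv₂)) (fun e => ?_) ?_
    · -- `c₂ ≠ c`
      rw [← e, add_assoc, left_eq_add, hv₃, hv₄] at hv2
      exact hP.four p₀ hp₀ q₀ hq₀ b hb m hm hal hbm hba.symm ham hbl.symm hml.symm
        (by rw [hlin hv2, zero_add])
    · -- the sum vanishes
      rw [hv2, hv₁, hv₂, hv₃, hv₄]
      have : p₀ + b + (q₀ + m) + (vec c + (p₀ + q₀) + (b + m)) =
          vec c + ((p₀ + b + (q₀ + m)) + (p₀ + b + (q₀ + m))) := by abel
      rw [this, add_self_eq, add_zero]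
  -- extend
  have hg1 : ∀ r ∈ P, r ≠ i → g r = g i + 1 := fun r hr hri => by
    rcases zmod_two_eq (g r) with e | e <;> rcases zmod_two_eq (g i) with e' | e' <;>
      first
      | exact absurd (e.trans e'.symm) (hsingle r hr hri)
      | (rw [e, e']; rfl)
  have hcc : ∀ r ∈ P, ∀ s ∈ P, r ≠ i → s ≠ i → coef c (r + s) = 0 := fun r hr s hs h1 h2 => by
    rw [hgadd, hg1 r hr h1, hg1 s hs h2, htwo]
  have hci : ∀ r ∈ P, r ≠ i → coef c (i + r) = 1 := fun r hr h1 => by
    rw [hgadd, hg1 r hr h1, ← add_assoc, htwo, zero_add]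
  set n := i + vec c with hn
  have hnP : n ∉ P := fun hnP => by
    refine hne_edge i hi n hnP (fun e => ?_) (by rw [hn, ← add_assoc, add_self_eq, zero_add])
    rw [hn, left_eq_add] at e
    exact hD.vec_ne hc e
  have hnr : ∀ r ∈ P, n ≠ r := fun r hr e => hnP (e ▸ hr)
  have hedge_new : ∀ r ∈ P, r ≠ i → ∃ f ∈ D, (vec f : W) = n + r ∧ ∀ v : W, ∀ d' ∈ D,
      (vec d' : W) = i + r → coef f v = coef c v + coef d' v := by
    intro r hr hri
    obtain ⟨d', hd', hv'⟩ := hP.edge i hi r hr (Ne.symm hri)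
    have h1 : coef d' (vec c : W) = 1 := by rw [hD.coef_symm hd' hc, hv']; exact hci r hr hri
    refine ⟨d' * c * d'⁻¹, hD.conj _ _ hc, ?_, fun v d'' hd'' hv'' => ?_⟩
    · rw [hD.vec_braid hd' hc h1, hv', hn]; abel
    · rw [hD.coef_braid hd' hc h1, hD.vec_injOn hd'' hd' (hv''.trans hv'.symm)]
  have hnic : n + i = vec c := by rw [hn, add_comm, ← add_assoc, add_self_eq, zero_add]
  refine ⟨insert n P, ⟨?_, ?_, ?_, ?_⟩, Finset.ssubset_insert hnP⟩
  · rw [Finset.card_insert_of_notMem hnP]; have := hP.three; omega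
  · intro p hp q hq hpq
    have key : ∀ r ∈ P, ∃ f ∈ D, (vec f : W) = n + r := fun r hr => by
      rcases eq_or_ne r i with rfl | hri
      · exact ⟨c, hc, hnic.symm⟩
      · obtain ⟨f, hf, hvf, -⟩ := hedge_new r hr hri
        exact ⟨f, hf, hvf⟩
    rcases Finset.mem_insert.1 hp with rfl | hp <;> rcases Finset.mem_insert.1 hq with rfl | hq
    · exact absurd rfl hpq
    · exact key q hq
    · obtain ⟨f, hf, hvf⟩ := key p hp
      exact ⟨f, hf, hvf.trans (add_comm _ _)⟩
    · exact hP.edge p hp q hq hpq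
  · -- incidence
    have hin : i + n = vec c := by rw [add_comm]; exact hnic
    have oldcase : ∀ p ∈ P, ∀ q ∈ P, p ≠ q → ∀ d ∈ D, (vec d : W) = p + q →
        ∀ s ∈ insert n P, coef d (i + s) = ind p q i + ind p q s := by
      intro p hp q hq hpq d hd hv s hs
      rcases Finset.mem_insert.1 hs with rfl | hs
      · rw [hin, hD.coef_symm hd hc, hv, ind_other (r := n) (hnr p hp) (hnr q hq), add_zero]
        rcases eq_or_ne p i with rfl | hpi
        · rw [hci q hq (Ne.symm hpq), ind_left hpq]
        rcases eq_or_ne q i with rfl | hqi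
        · rw [add_comm, hci p hp hpq, ind_right hpq]
        rw [hcc p hp q hq hpi hqi, ind_other (Ne.symm hpi) (Ne.symm hqi)]
      · exact hP.rel p hp q hq hpq d hd hv i hi s hs
    have newcase : ∀ r ∈ P, ∀ d ∈ D, (vec d : W) = n + r →
        ∀ s ∈ insert n P, coef d (i + s) = ind n r i + ind n r s := by
      intro r hr d hd hv s hs
      rcases eq_or_ne r i with rfl | hri
      · obtain rfl := hD.vec_injOn hd hc (hv.trans hnic)
        rw [ind_right (hnr r hr)]
        rcases Finset.mem_insert.1 hs with rfl | hs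
        · rw [hin, hD.coef_vec_self hd, ind_left (hnr r hr)]; rfl
        · rcases eq_or_ne s r with rfl | hsi
          · rw [add_self_eq, hD.coef_zero hd, ind_right (hnr s (by assumption))]; rfl
          · rw [hci s hs hsi, ind_other (hnr s (by assumption)).symm hsi, add_zero]
      · obtain ⟨f, hf, hvf, hcf⟩ := hedge_new r hr hri
        obtain rfl := hD.vec_injOn hd hf (hv.trans hvf.symm)
        obtain ⟨d', hd', hv'⟩ := hP.edge i hi r hr (Ne.symm hri)
        rw [hcf _ d' hd' hv', ind_other (r := i) (hnr i hi).symm (Ne.symm hri), zero_add]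
        rcases Finset.mem_insert.1 hs with rfl | hs
        · rw [hin, hD.coef_vec_self hc, hD.coef_symm hd' hc, hv', hci r hr hri,
            ind_left (hnr r hr), zero_add]
        · rw [hP.rel i hi r hr (Ne.symm hri) d' hd' hv' i hi s hs, ind_left (Ne.symm hri)]
          rcases eq_or_ne s i with rfl | hsi
          · rw [add_self_eq, hD.coef_zero hc, ind_left (Ne.symm hri),
              ind_other (hnr s (by assumption)).symm (Ne.symm hri)]
            rfl
          · rw [hci s hs hsi]
            rcases eq_or_ne s r with rfl | hsr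
            · rw [ind_right (Ne.symm hsi), ind_right (hnr s (by assumption))]; rfl
            · rw [ind_other hsi hsr, ind_other (hnr s (by assumption)).symm hsr]; rfl
    intro p hp q hq hpq d hd hv r hr s hs
    refine hD.rel_of_base hd (b := i) (fun s hs => ?_) hr hs
    rcases Finset.mem_insert.1 hp with rfl | hp <;> rcases Finset.mem_insert.1 hq with rfl | hq
    · exact absurd rfl hpq
    · exact newcase q hq d hd hv s hs
    · rw [ind_comm p n, ind_comm p n]
      exact newcase p hp d hd (hv.trans (add_comm _ _)) s hs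
    · exact oldcase p hp q hq hpq d hd hv s hs
  · -- four vertices
    have key : ∀ r ∈ P, ∀ a ∈ P, ∀ b ∈ P, r ≠ a → r ≠ b → a ≠ b → n + r ≠ a + b := by
      intro r hr a ha b hb hra hrb hab e
      have hsum : (vec c : W) = i + r + (a + b) := by
        rw [← e, hn]
        rw [show i + r + (i + vec c + r) = vec c + ((i + r) + (i + r)) by abel, add_self_eq, add_zero]
      rcases eq_or_ne r i with rfl | hri
      · rw [add_self_eq, zero_add] at hsum
        exact hne_edge a ha b hb hab hsum
      rcases eq_or_ne a i with rfl | hai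
      · refine hne_edge r hr b hb hrb ?_
        rw [hsum, show a + r + (a + b) = (a + a) + (r + b) by abel, add_self_eq, zero_add]
      rcases eq_or_ne b i with rfl | hbi
      · refine hne_edge r hr a ha hra ?_
        rw [hsum, show b + r + (a + b) = (b + b) + (r + a) by abel, add_self_eq, zero_add]
      obtain ⟨e', he', hv'⟩ := hP.edge a ha i hi hai
      have h1 : coef c (a + i) = 1 := by rw [add_comm]; exact hci a ha hai
      rw [← hv', hD.coef_symm hc he', hsum, hD.coef_add he',
        hP.rel a ha i hi hai e' he' hv' i hi r hr, hP.rel a ha i hi hai e' he' hv' a ha b hb,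
        ind_right hai, ind_left hai, ind_other hra hri, ind_other hab.symm hbi] at h1
      exact zero_ne_one h1
    intro p hp q hq r hr s hs hpq hrs hpr hps hqr hqs
    rcases Finset.mem_insert.1 hp with rfl | hp
    · exact key q ((Finset.mem_insert.1 hq).resolve_left hpq.symm) r
        ((Finset.mem_insert.1 hr).resolve_left hpr.symm) s
        ((Finset.mem_insert.1 hs).resolve_left hps.symm) hqr hqs hrs
    rcases Finset.mem_insert.1 hq with rfl | hq
    · rw [add_comm]
      exact key p hp r ((Finset.mem_insert.1 hr).resolve_left hqr.symm) s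
        ((Finset.mem_insert.1 hs).resolve_left hqs.symm) hpr hps hrs
    rcases Finset.mem_insert.1 hr with rfl | hr
    · exact (key s ((Finset.mem_insert.1 hs).resolve_left hrs.symm) p hp q hq hps.symm hqs.symm hpq).symm
    rcases Finset.mem_insert.1 hs with rfl | hs
    · rw [add_comm r]
      exact (key r hr p hp q hq hpr.symm hqr.symm hpq).symm
    exact hP.four p hp q hq r hr s hs hpq hrs hpr hps hqr hqs

/-- Every related pair lies in a frame closed under incidence. -/
theorem exists_closed_frame (hd : d ∈ D) (he : e ∈ D) (h : coef d (vec e : W) = 1) :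
    ∃ P : Finset W, IsFrame D P ∧ d ∈ edges D P ∧ e ∈ edges D P ∧
      ∀ c ∈ D, ∀ f ∈ edges D P, coef c (vec f : W) ≠ 0 → c ∈ edges D P := by
  classical
  haveI := Fintype.ofFinite W
  obtain ⟨P, ⟨hP, hdP, heP⟩, hmax⟩ := Set.Finite.exists_maximal
    (s := {P : Finset W | IsFrame D P ∧ d ∈ edges D P ∧ e ∈ edges D P}) (Set.toFinite _)
    ⟨_, hD.frame_of_pair hd he h⟩
  refine ⟨P, hP, hdP, heP, fun c hc f hf hne => ?_⟩
  by_contra hce
  obtain ⟨-, p, hp, q, hq, -, hv⟩ := hf
  obtain ⟨P', hP', hlt⟩ := hD.edge_or_extend hP hc hce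
    ⟨p, hp, q, hq, by rw [← hv]; exact (zmod_two_eq _).resolve_left hne⟩
  have mono : ∀ {x : H}, x ∈ edges D P → x ∈ edges D P' := fun ⟨hx, a, ha, b, hb, hab, hv'⟩ =>
    ⟨hx, a, hlt.1 ha, b, hlt.1 hb, hab, hv'⟩
  exact hlt.2 (hmax ⟨hP', mono hdP, mono heP⟩ hlt.1)

end Tvs

end CfsgLib.FFModules.MinimalParabolic
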