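import Cfsg.Agent.Lib.FFModules.MinimalParabolic.RootPair
import Mathlib.LinearAlgebra.Dual.Basis
import Mathlib.LinearAlgebra.Dimension.Free
import Mathlib.FieldTheory.Finite.Basic
import Mathlib.Algebra.Module.ZMod

/-!
Irreducible modules: the setting holds, and it passes to the dual module.  In particular a
quadratic subgroup moves the module into a subgroup of at least its own order.
-/

set_option autoImplicit false
set_option linter.style.haveILetI false

namespace CfsgLib.FFModules.MinimalParabolic

open SL2Pair
open scoped Pointwise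

/-- An irreducible module for the standing hypotheses. -/
structure IrrSetting {H : Type*} [Group H] (p : ℕ) [Fact p.Prime] (T : Sylow p H) (M : Subgroup H)
    (W : Type*) [AddCommGroup W] [DistribMulAction H W] : Prop extends Base p T M W where
  irred : ∀ S : AddSubgroup W, (∀ g : H, ∀ v ∈ S, g • v ∈ S) → S = ⊥ ∨ S = ⊤

section Dual

variable {p : ℕ} [Fact p.Prime]

theorem finite_dual {X : Type*} [AddCommGroup X] [Finite X] : Finite (X →+ ZMod p) :=
  Finite.of_injective (fun f => (f : X → ZMod p)) DFunLike.coe_injective

theorem card_dual_of_module {X : Type*} [AddCommGroup X] [Module (ZMod p) X] [Finite X] :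
    Nat.card (Module.Dual (ZMod p) X) = Nat.card X := by
  haveI : Module.Finite (ZMod p) X := Module.Finite.of_finite
  haveI : Finite (Module.Dual (ZMod p) X) :=
    Finite.of_injective (fun f => (f : X → ZMod p)) DFunLike.coe_injective
  rw [@Module.natCard_eq_pow_finrank (ZMod p) (Module.Dual (ZMod p) X),
    @Module.natCard_eq_pow_finrank (ZMod p) X, Subspace.dual_finrank_eq]

/-- The dual of a finite elementary abelian group has the same order. -/
theorem card_dual {X : Type*} [AddCommGroup X] [Finite X] (hX : ∀ v : X, p • v = 0) :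
    Nat.card (X →+ ZMod p) = Nat.card X := by
  letI : Module (ZMod p) X := AddCommGroup.zmodModule hX
  exact (Nat.card_congr
    { toFun := fun f => f.toZModLinearMap p
      invFun := fun f => f.toAddMonoidHom
      left_inv := fun f => rfl
      right_inv := fun f => rfl }).trans card_dual_of_module

/-- The annihilator of a subgroup. -/
def annihilator {X : Type*} [AddCommGroup X] (p : ℕ) (S : AddSubgroup X) :
    AddSubgroup (X →+ ZMod p) where
  carrier := {f | ∀ v ∈ S, f v = 0}
  zero_mem' _ _ := rfl
  add_mem' {f g} hf hg v hv := by rw [AddMonoidHom.add_apply, hf v hv, hg v hv, add_zero]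
  neg_mem' {f} hf v hv := by rw [AddMonoidHom.neg_apply, hf v hv, neg_zero]

theorem card_annihilator {X : Type*} [AddCommGroup X] [Finite X] (hX : ∀ v : X, p • v = 0)
    (S : AddSubgroup X) : Nat.card (annihilator p S) * Nat.card S = Nat.card X := by
  have e : annihilator p S ≃ (X ⧸ S →+ ZMod p) :=
    { toFun := fun f => QuotientAddGroup.lift S f f.2
      invFun := fun f => ⟨f.comp (QuotientAddGroup.mk' S), fun v hv => by
        show f (QuotientAddGroup.mk' S v) = 0
        rw [QuotientAddGroup.mk'_apply, (QuotientAddGroup.eq_zero_iff v).2 hv, map_zero]⟩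
      left_inv := fun f => Subtype.ext (AddMonoidHom.ext fun v => rfl)
      right_inv := fun f => QuotientAddGroup.addMonoidHom_ext S (AddMonoidHom.ext fun v => rfl) }
  rw [Nat.card_congr e, card_dual (X := X ⧸ S) (fun v => ?_),
    ← AddSubgroup.card_eq_card_quotient_mul_card_addSubgroup S]
  obtain ⟨w, rfl⟩ := QuotientAddGroup.mk'_surjective S v
  rw [← map_nsmul, hX, map_zero]

theorem eq_zero_of_forall_dual {X : Type*} [AddCommGroup X] [Finite X] (hX : ∀ v : X, p • v = 0)
    {x : X} (h : ∀ f : X →+ ZMod p, f x = 0) : x = 0 := by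
  have htop : annihilator p (AddSubgroup.zmultiples x) = ⊤ := by
    refine eq_top_iff.2 fun f _ v hv => ?_
    obtain ⟨k, rfl⟩ := AddSubgroup.mem_zmultiples_iff.1 hv
    rw [map_zsmul, h, smul_zero]
  have e := card_annihilator hX (AddSubgroup.zmultiples x)
  rw [htop, AddSubgroup.card_top, card_dual hX] at e
  have h1 : Nat.card (AddSubgroup.zmultiples x) = 1 :=
    Nat.eq_of_mul_eq_mul_left Nat.card_pos (e.trans (mul_one _).symm)
  exact AddSubgroup.zmultiples_eq_bot.1 (AddSubgroup.card_eq_one.1 h1)

variable (p) (H : Type*) [Group H] (W : Type*) [AddCommGroup W] [DistribMulAction H W]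

/-- The action on the dual module. -/
@[reducible] def dualAction : DistribMulAction H (W →+ ZMod p) where
  smul g f := f.comp (DistribSMul.toAddMonoidHom W g⁻¹)
  one_smul f := AddMonoidHom.ext fun v => by
    show f ((1 : H)⁻¹ • v) = f v
    rw [inv_one, one_smul]
  mul_smul g k f := AddMonoidHom.ext fun v => by
    show f ((g * k)⁻¹ • v) = f (k⁻¹ • g⁻¹ • v)
    rw [_root_.mul_inv_rev, mul_smul]
  smul_zero g := AddMonoidHom.ext fun v => rfl
  smul_add g f f' := AddMonoidHom.ext fun v => rfl

end Dual

namespace IrrSetting

variable {H W : Type*} [Group H] [Finite H] [AddCommGroup W] [Finite W] [DistribMulAction H W]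
variable {p : ℕ} [Fact p.Prime] {T : Sylow p H} {M : Subgroup H} (h : IrrSetting p T M W)
include h

theorem exists_ne_zero : ∃ v : W, v ≠ 0 := by
  by_contra hc
  push Not at hc
  refine h.ne_top (top_le_iff.1 fun g _ => ?_)
  rw [h.faithful g fun v => by rw [hc v, smul_zero]]
  exact one_mem M

theorem prime_dvd_card : p ∣ Nat.card W := by
  obtain ⟨v, hv⟩ := h.exists_ne_zero
  rw [← addOrderOf_eq_prime (h.exponent v) hv]
  exact addOrderOf_dvd_natCard v

theorem eq_zero_of_fixed {v : W} (hv : ∀ g : H, g • v = v) : v = 0 := by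
  rcases h.irred (fixedSub (⊤ : Subgroup H)) (fun g u hu => by
      rw [hu g (Subgroup.mem_top g)]; exact hu) with e | e
  · have : v ∈ (⊥ : AddSubgroup W) := e ▸ fun g _ => hv g
    exact AddSubgroup.mem_bot.1 this
  · refine absurd (top_le_iff.1 fun g _ => ?_) h.ne_top
    rw [h.faithful g fun u => (show u ∈ fixedSub (⊤ : Subgroup H) from e ▸ AddSubgroup.mem_top u) g
      (Subgroup.mem_top g)]
    exact one_mem M

theorem exists_fixed {P : Subgroup H} (hP : IsPGroup p P) :
    ∃ v ∈ (fixedSub P : AddSubgroup W), v ≠ 0 := by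
  obtain ⟨v, hv, hne⟩ := hP.exists_fixed_point_of_prime_dvd_card_of_fixed_point (α := W)
    h.prime_dvd_card (a := 0) (fun g => smul_zero g)
  exact ⟨v, fun g hg => hv ⟨g, hg⟩, fun e => hne e.symm⟩

theorem toSetting : Setting p T M W where
  toBase := h.toBase
  moved g hg := by
    by_contra hc
    push Not at hc
    let K : Subgroup H :=
      { carrier := {k | ∀ v ∈ (fixedSub (T : Subgroup H) : AddSubgroup W), k • v = v}
        one_mem' := fun v _ => one_smul H v
        mul_mem' := fun {a b} ha hb v hv => by rw [mul_smul, hb v hv, ha v hv]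
        inv_mem' := fun {a} ha v hv => inv_smul_eq_iff.2 (ha v hv).symm }
    by_cases hK : K = ⊤
    · obtain ⟨v, hv, hne⟩ := h.exists_fixed T.2
      exact hne (h.eq_zero_of_fixed fun k => (show k ∈ K from hK ▸ Subgroup.mem_top k) v hv)
    · exact hg (h.le_M_of_sylow_le (X := K) (fun t ht v hv => hv t ht) hK hc)

theorem dual :
    letI := dualAction p H W
    IrrSetting p T M (W →+ ZMod p) := by
  letI := dualAction p H W
  haveI : Finite (W →+ ZMod p) := finite_dual
  refine
    { faithful := fun g hg => ?_
      exponent := fun f => AddMonoidHom.ext fun v => by simp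
      coatom := h.coatom
      sylow_le := h.sylow_le
      unique := h.unique
      not_normal := h.not_normal
      core := h.core
      irred := fun S hS => ?_ }
  · rw [← inv_eq_one]
    refine h.faithful _ fun v => sub_eq_zero.1 (eq_zero_of_forall_dual (p := p) h.exponent fun f => ?_)
    rw [map_sub, sub_eq_zero]
    exact DFunLike.congr_fun (hg f) v
  · let K : AddSubgroup W :=
      { carrier := {v | ∀ f ∈ S, f v = 0}
        zero_mem' := fun f _ => map_zero f
        add_mem' := fun {u v} hu hv f hf => by rw [map_add, hu f hf, hv f hf, add_zero]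
        neg_mem' := fun {u} hu f hf => by rw [map_neg, hu f hf, neg_zero] }
    rcases h.irred K (fun g v hv f hf => by
        have h1 := hv _ (hS g⁻¹ f hf)
        show f (g • v) = 0
        simpa [show ((g⁻¹ : H) • f) v = f ((g⁻¹ : H)⁻¹ • v) from rfl] using h1) with e | e
    · refine Or.inr (AddSubgroup.eq_top_of_card_eq _ ?_)
      let ev : W →+ (S →+ ZMod p) :=
        { toFun := fun v =>
            { toFun := fun f => (f : W →+ ZMod p) v
              map_zero' := rfl
              map_add' := fun _ _ => rfl }
          map_zero' := AddMonoidHom.ext fun f => map_zero (f : W →+ ZMod p)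
          map_add' := fun u v => AddMonoidHom.ext fun f => map_add (f : W →+ ZMod p) u v }
      have hinj : Function.Injective ev := (injective_iff_map_eq_zero ev).2 fun v hv => by
        have : v ∈ K := fun f hf => DFunLike.congr_fun hv ⟨f, hf⟩
        rwa [e, AddSubgroup.mem_bot] at this
      haveI : Finite (S →+ ZMod p) := finite_dual
      have h1 := Nat.card_le_card_of_injective ev hinj
      rw [card_dual (p := p) (X := S) (fun f => Subtype.ext (AddMonoidHom.ext fun v => by simp))] at h1
      refine le_antisymm (Nat.card_le_card_of_injective _ Subtype.val_injective) ?_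
      rwa [card_dual h.exponent]
    · refine Or.inl (le_bot_iff.1 fun f hf => AddSubgroup.mem_bot.2 (AddMonoidHom.ext fun v => ?_))
      exact (show v ∈ K from e ▸ AddSubgroup.mem_top v) f hf

/-- A quadratic subgroup moves the module into at least its own order. -/
theorem card_le_image {U : Subgroup H} (hU : IsQuad p U W) {S : AddSubgroup W}
    (hS : ∀ u ∈ U, ∀ v : W, u • v - v ∈ S) : Nat.card U ≤ Nat.card S := by
  letI := dualAction p H W
  haveI : Finite (W →+ ZMod p) := finite_dual
  have hq : IsQuad p U (W →+ ZMod p) := by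
    refine ⟨hU.isPGroup, fun a ha f b hb => AddMonoidHom.ext fun v => ?_⟩
    show f (a⁻¹ • b⁻¹ • v) - f (b⁻¹ • v) = f (a⁻¹ • v) - f v
    have h1 := hU.quad _ (U.inv_mem hb) v _ (U.inv_mem ha)
    rw [smul_sub, sub_eq_iff_eq_add] at h1
    rw [h1, map_add, map_sub]
    abel
  have h1 := noOver h.dual.toSetting U hq
  rw [mu, card_dual h.exponent] at h1
  have h2 : annihilator p S ≤ fixedSub U := fun f hf u hu => AddMonoidHom.ext fun v => by
    show f (u⁻¹ • v) = f v
    rw [← sub_eq_zero, ← map_sub]
    exact hf _ (hS _ (U.inv_mem hu) v)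
  have h3 := (Nat.mul_le_mul_left (Nat.card U) (AddSubgroup.card_le_of_le h2)).trans h1
  rw [← card_annihilator (p := p) h.exponent S, mul_comm] at h3
  exact Nat.le_of_mul_le_mul_left h3 Nat.card_pos

end IrrSetting

end CfsgLib.FFModules.MinimalParabolic
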