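import Cfsg.Agent.Lib.FFModules.MinimalParabolic.Points

/-!
A module with an irreducible quotient and a quadratic offender: a minimal offender fixes all lifts
of its fixed points, and the sum over its orbit under `T` gives a fixed point of `T` outside the
kernel.
-/

set_option autoImplicit false
set_option linter.style.haveILetI false
set_option linter.unusedSectionVars false

namespace CfsgLib.FFModules.MinimalParabolic

open SL2Pair Matrix
open scoped Pointwise MatrixGroups

variable {H W V : Type*} [Group H] [AddCommGroup W] [DistribMulAction H W]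
  [AddCommGroup V] [DistribMulAction H V]

/-- A module over the quotient `W` with a quadratic offender `A`. -/
structure IsLift (π : V →+ W) (A : Subgroup H) : Prop where
  equiv : ∀ (g : H) (v : V), π (g • v) = g • π v
  surj : Function.Surjective π
  quad : ∀ a ∈ A, ∀ v : V, a • v - v ∈ fixedSub A
  offender : Nat.card V ≤ Nat.card A * Nat.card (fixedSub A : AddSubgroup V)

/-- A `p`-group acting on a set whose order is divisible by `p` and fixing a point fixes another
point: the quotient of a module by an invariant subgroup. -/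
theorem exists_fixed_mod [Finite W] {p : ℕ} [Fact p.Prime] {N : Subgroup H} (hN : IsPGroup p N)
    {K : AddSubgroup W} (hK : ∀ n ∈ N, ∀ v ∈ K, n • v ∈ K) (hdvd : p ∣ Nat.card (W ⧸ K)) :
    ∃ v : W, v ∉ K ∧ ∀ n ∈ N, n • v - v ∈ K := by
  letI : MulAction N (W ⧸ K) :=
    { smul := fun n => QuotientAddGroup.map K K (DistribSMul.toAddMonoidHom W (n : H))
        fun v hv => hK n n.2 v hv
      one_smul := fun x => QuotientAddGroup.induction_on x fun v => by
        show QuotientAddGroup.mk ((1 : H) • v) = QuotientAddGroup.mk v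
        rw [one_smul]
      mul_smul := fun m n x => QuotientAddGroup.induction_on x fun v => by
        show QuotientAddGroup.mk (((m : H) * n) • v) = QuotientAddGroup.mk ((m : H) • (n : H) • v)
        rw [mul_smul] }
  have h0 : (0 : W ⧸ K) ∈ MulAction.fixedPoints N (W ⧸ K) := fun n => by
    show QuotientAddGroup.mk ((n : H) • (0 : W)) = _
    rw [smul_zero]; rfl
  obtain ⟨x, hx, hne⟩ := hN.exists_fixed_point_of_prime_dvd_card_of_fixed_point (W ⧸ K) hdvd h0
  induction x using QuotientAddGroup.induction_on with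
  | H v =>
    refine ⟨v, fun hv => hne ((QuotientAddGroup.eq_zero_iff v).2 hv).symm, fun n hn => ?_⟩
    have := QuotientAddGroup.eq.1 (hx ⟨n, hn⟩ : QuotientAddGroup.mk (n • v) = (v : W ⧸ K))
    have := neg_mem this
    rwa [neg_add_rev, neg_neg, neg_add_eq_sub] at this

theorem exists_fixed_conj [Finite H] {p : ℕ} [Fact p.Prime] {N B : Subgroup H} (hN : IsPGroup p N)
    (hB : IsPGroup p B) (hne : B ≠ ⊥) (hn : ∀ n ∈ N, ∀ b ∈ B, n * b * n⁻¹ ∈ B) :
    ∃ b ∈ B, b ≠ 1 ∧ ∀ n ∈ N, n * b * n⁻¹ = b := by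
  letI : MulAction N B :=
    { smul := fun n b => ⟨(n : H) * b * (n : H)⁻¹, hn n n.2 b b.2⟩
      one_smul := fun b => Subtype.ext (by show (1 : H) * b * (1 : H)⁻¹ = b; group)
      mul_smul := fun m n b => Subtype.ext (by
        show ((m : H) * n) * b * ((m : H) * n)⁻¹ = m * (n * b * (n : H)⁻¹) * (m : H)⁻¹
        group) }
  have h1 : (1 : B) ∈ MulAction.fixedPoints N B := fun n => Subtype.ext (by
    show (n : H) * 1 * (n : H)⁻¹ = 1
    group)
  obtain ⟨k, hk⟩ := hB.exists_card_eq
  have hdvd : p ∣ Nat.card B := hk ▸ dvd_pow_self p fun e => hne (Subgroup.card_eq_one.1 (by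
    rw [hk, e, pow_zero]))
  obtain ⟨b, hb, hb1⟩ := hN.exists_fixed_point_of_prime_dvd_card_of_fixed_point B hdvd h1
  exact ⟨b, b.2, fun e => hb1 (Subtype.ext e.symm), fun n hn => congrArg Subtype.val (hb ⟨n, hn⟩)⟩

variable [Finite H] [Finite W] [Finite V]
variable {p : ℕ} [Fact p.Prime] {T : Sylow p H} {M : Subgroup H}
variable (h : IrrSetting p T M W) {π : V →+ W} {A : Subgroup H} (hl : IsLift π A)
include h hl

/-- The kernel is fixed by `A`, lifts of fixed points of `A` are fixed and `A` has `μ = |W|`. -/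
theorem lift_fixed (hA : A ≤ (T : Subgroup H)) :
    IsQuad p A W ∧ mu A W = Nat.card W ∧ ∀ v : V, π v ∈ fixedSub A → v ∈ fixedSub A := by
  have hq : IsQuad p A W := ⟨T.2.to_le hA, fun a ha w => by
    obtain ⟨v, rfl⟩ := hl.surj w
    intro b hb
    rw [← hl.equiv, ← map_sub, ← hl.equiv, hl.quad a ha v b hb]⟩
  have hno := noOver h.toSetting A hq
  set X : AddSubgroup V := fixedSub A
  set Y : AddSubgroup V := (fixedSub A : AddSubgroup W).comap π with hY
  have hXY : X ≤ Y := fun v hv a ha => by rw [← hl.equiv, hv a ha]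
  have hYc : Nat.card Y = Nat.card π.ker * Nat.card (fixedSub A : AddSubgroup W) := by
    let f : Y →+ (fixedSub A : AddSubgroup W) :=
      { toFun := fun v => ⟨π (v : V), v.2⟩
        map_zero' := Subtype.ext (map_zero π)
        map_add' := fun u v => Subtype.ext (map_add π (u : V) (v : V)) }
    have hf : Function.Surjective f := fun w => by
      obtain ⟨v, hv⟩ := hl.surj w
      exact ⟨⟨v, show π v ∈ fixedSub A from hv.symm ▸ w.2⟩, Subtype.ext hv⟩
    rw [AddSubgroup.card_eq_card_quotient_mul_card_addSubgroup f.ker,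
      Nat.card_congr (QuotientAddGroup.quotientKerEquivOfSurjective f hf).toEquiv, mul_comm]
    congr 1
    exact Nat.card_congr
      { toFun := fun v => ⟨((v : Y) : V), congrArg Subtype.val v.2⟩
        invFun := fun v => ⟨⟨(v : V), show π v ∈ fixedSub A by rw [v.2]; exact zero_mem _⟩,
          Subtype.ext v.2⟩
        left_inv := fun v => rfl
        right_inv := fun v => rfl }
  have hVc : Nat.card V = Nat.card π.ker * Nat.card W := by
    rw [AddSubgroup.card_eq_card_quotient_mul_card_addSubgroup π.ker,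
      Nat.card_congr (QuotientAddGroup.quotientKerEquivOfSurjective π hl.surj).toEquiv, mul_comm]
  have h1 : Nat.card X ≤ Nat.card Y := AddSubgroup.card_le_of_le hXY
  have hAY : Nat.card A * Nat.card Y ≤ Nat.card V := by
    rw [hYc, hVc]
    calc _ = Nat.card π.ker * mu A W := by rw [mu]; ring
      _ ≤ _ := Nat.mul_le_mul_left _ hno
  have hXc : Nat.card X = Nat.card Y := le_antisymm h1
    (Nat.le_of_mul_le_mul_left (hAY.trans hl.offender) Nat.card_pos)
  refine ⟨hq, le_antisymm hno (Nat.le_of_mul_le_mul_left ?_ (Nat.card_pos (α := π.ker))),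
    fun v hv => (AddSubgroup.eq_of_le_of_card_ge hXY hXc.ge).ge hv⟩
  rw [← hVc, mu]
  refine hl.offender.trans (le_of_eq ?_)
  rw [hXc, hYc]
  ring

theorem ker_fixed_conj (hA : A ≤ (T : Subgroup H)) {v : V} (hv : π v = 0) (g : H) :
    v ∈ fixedSub (MulAut.conj g • A) := by
  refine mem_fixedSub_smul.2 ((lift_fixed h hl hA).2.2 _ ?_)
  rw [hl.equiv, hv, smul_zero]
  exact zero_mem _

/-- A minimal offender in `A` fixes all lifts of its fixed points. -/
theorem lift_fixed_min (hA : A ≤ (T : Subgroup H)) {B : Subgroup H} (hBA : B ≤ A)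
    (hB : IsMin p B W) {v : V} (hv : π v ∈ fixedSub B) : v ∈ fixedSub B := by
  classical
  have hker : ∀ k : V, π k = 0 → ∀ g : H, k ∈ fixedSub (MulAut.conj g • B) := fun k hk g =>
    fixedSub_anti (Subgroup.pointwise_smul_le_pointwise_smul_iff.2 hBA) (ker_fixed_conj h hl hA hk g)
  have hkerB : ∀ k : V, π k = 0 → k ∈ fixedSub B := fun k hk => by
    simpa using hker k hk 1
  set S : AddSubgroup W := (fixedSub B : AddSubgroup V).map π with hS
  suffices hHS : (fixedSub B : AddSubgroup W) ≤ S by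
    obtain ⟨u, hu, e⟩ := AddSubgroup.mem_map.1 (hHS hv)
    have h1 := add_mem hu (hkerB (v - u) (by rw [map_sub, e, sub_self]))
    rwa [add_sub_cancel] at h1
  have hmovesS : moves B W ≤ S := moves_le_iff.2 fun b hb w => by
    obtain ⟨u, rfl⟩ := hl.surj w
    exact AddSubgroup.mem_map.2 ⟨b • u - u, fixedSub_anti hBA (hl.quad b (hBA hb) u),
      by rw [map_sub, hl.equiv]⟩
  have hs := h.toSetting
  obtain ⟨F, hF, hF', ⟨R⟩⟩ := exists_rootPair hs hB
  obtain ⟨k, hk⟩ := hB.isPGroup.exists_card_eq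
  have hk0 : k ≠ 0 := fun e => hB.ne_bot (Subgroup.card_eq_one.1 (by rw [hk, e, pow_zero]))
  by_cases hk1 : k = 1
  · -- prime order
    have hc : Nat.card B = p := by rw [hk, hk1, pow_one]
    have hconj : ∀ g, IsMin p (MulAut.conj g • B) W ∧ Nat.card ↥(MulAut.conj g • B) = p :=
      fun g => ⟨hB.smul g, (card_smul_subgroup B g).trans hc⟩
    -- commutators of commuting conjugates have fixed lifts
    have hcommS : ∀ g : H, (∀ x ∈ MulAut.conj g • B, ∀ b ∈ B, x * b = b * x) →
        moves (MulAut.conj g • B) W ≤ S := by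
      intro g hcomm
      by_cases hgB : MulAut.conj g • B = B
      · rw [hgB]; exact hmovesS
      obtain ⟨c, hc1, hc2⟩ : ∃ c : W, c ∈ fixedSub B ∧ c ∉ fixedSub (MulAut.conj g • B) := by
        by_contra hn
        push Not at hn
        refine hgB (hs.eq_of_fixedSub_eq (hB.smul g) hB ?_)
        exact (AddSubgroup.eq_of_le_of_card_ge hn (card_fixedSub_smul B g).le).symm
      obtain ⟨x, hx, hx1⟩ : ∃ x ∈ MulAut.conj g • B, x ≠ 1 := by
        by_contra hn
        push Not at hn
        exact (hB.smul g).ne_bot ((Subgroup.eq_bot_iff_forall _).2 hn)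
      obtain ⟨u, rfl⟩ := hl.surj c
      have hne : x • π u - π u ≠ 0 := fun e => hc2 (hs.mem_fix (hB.smul g) hx hx1 (sub_eq_zero.1 e))
      refine (hs.moves_le_zmultiples (hB.smul g) (hconj g).2 hx hne).trans
        (AddSubgroup.zmultiples_le.2 (AddSubgroup.mem_map.2
          ⟨x • u - u, fun b hb => ?_, by rw [map_sub, hl.equiv]⟩))
      have hbu : x • (b • u - u) = b • u - u :=
        hker _ (by rw [map_sub, hl.equiv, hc1 b hb, sub_self]) g x hx
      rw [smul_sub, sub_eq_iff_eq_add] at hbu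
      rw [smul_sub, ← mul_smul, ← hcomm x hx b hb, mul_smul, hbu]
      abel
    set P : Set W := {x | ∃ (g : H) (w : W), ∃ b ∈ MulAut.conj g • B, b • w - w = x} with hP
    have hPinv : ∀ (g : H), ∀ x ∈ P, g • x ∈ P := by
      rintro g _ ⟨g', w, b, hb, rfl⟩
      refine ⟨g * g', g • w, g * b * g⁻¹, ?_, by rw [conj_sub, inv_smul_smul]⟩
      rw [← LLemma.conj_conj]
      exact LLemma.conj_mem_conj hb
    set R₀ : AddSubgroup W := AddSubgroup.closure (P ∩ (fixedSub B : AddSubgroup W)) with hR₀
    have hR₀S : R₀ ≤ S := (AddSubgroup.closure_le _).2 fun x ⟨⟨g, w, b, hb, e⟩, hxB⟩ => by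
      by_cases hx0 : x = 0
      · rw [hx0]; exact zero_mem _
      · subst e
        have h1 := hs.moves_le_zmultiples (hB.smul g) (hconj g).2 hb hx0
        have h2 : moves (MulAut.conj g • B) W ≤ fixedSub B :=
          h1.trans (AddSubgroup.zmultiples_le.2 hxB)
        exact hcommS g (fun y hy c hc' =>
          (hs.comm_of_moves_le hB (hB.smul g) (card_smul_subgroup B g).symm h2 c hc' y hy).symm)
          (sub_mem_moves hb w)
    have hR₀B : R₀ ≤ fixedSub B := (AddSubgroup.closure_le _).2 fun x hx => hx.2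
    obtain ⟨b, hb, hb1⟩ : ∃ b ∈ B, b ≠ 1 := by
      by_contra hn
      push Not at hn
      exact hB.ne_bot ((Subgroup.eq_bot_iff_forall _).2 hn)
    obtain ⟨w, hw⟩ := hs.exists_not_mem hB
    set u := b • w - w with hu
    have huP : u ∈ P := ⟨1, w, b, by simpa using hb, rfl⟩
    have hu0 : u ≠ 0 := fun e => hw (hs.mem_fix hB hb hb1 (sub_eq_zero.1 e))
    have hutop : AddSubgroup.closure P = ⊤ := by
      refine (h.irred _ fun g x hx => ?_).resolve_left fun e => hu0 ?_
      · induction hx using AddSubgroup.closure_induction with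
        | mem x hx => exact AddSubgroup.subset_closure (hPinv g x hx)
        | zero => rw [smul_zero]; exact zero_mem _
        | add x y _ _ hx hy => rw [smul_add]; exact add_mem hx hy
        | neg x _ hx => rw [smul_neg]; exact neg_mem hx
      · have := AddSubgroup.subset_closure (k := P) huP
        rwa [e, SetLike.mem_coe, AddSubgroup.mem_bot] at this
    obtain ⟨v₀, ⟨g₀, w₀, b₀, hb₀, e₀⟩, hv₀⟩ : ∃ x ∈ P, x ∉ fixedSub B := by
      by_contra hn
      push Not at hn
      exact hw ((AddSubgroup.closure_le _).2 hn (hutop ▸ AddSubgroup.mem_top w))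
    have hv₀0 : v₀ ≠ 0 := fun e => hv₀ (e ▸ zero_mem _)
    have hm₀ : moves (MulAut.conj g₀ • B) W ≤ AddSubgroup.zmultiples v₀ :=
      e₀ ▸ hs.moves_le_zmultiples (hB.smul g₀) (hconj g₀).2 hb₀ (e₀.symm ▸ hv₀0)
    have hkey : ∀ s ∈ P, s ∈ R₀ ⊔ AddSubgroup.zmultiples v₀ := by
      intro s hs'
      have hsP := hs'
      obtain ⟨g₁, w₁, b₁, hb₁, e₁⟩ := hs'
      by_cases hsB : s ∈ fixedSub B
      · exact AddSubgroup.mem_sup_left (AddSubgroup.subset_closure ⟨hsP, hsB⟩)
      have hs0 : s ≠ 0 := fun e => hsB (e ▸ zero_mem _)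
      have hm₁ : moves (MulAut.conj g₁ • B) W ≤ AddSubgroup.zmultiples s :=
        e₁ ▸ hs.moves_le_zmultiples (hB.smul g₁) (hconj g₁).2 hb₁ (e₁.symm ▸ hs0)
      by_cases hd : b₀ • s - s = 0
      · -- `b₀` fixes `s`
        have hs₀ : s ∈ fixedSub (MulAut.conj g₀ • B) := hs.mem_fix (hB.smul g₀) hb₀
          (fun e => hv₀0 (by rw [← e₀, e, one_smul, sub_self])) (sub_eq_zero.1 hd)
        have hcc : Nat.card ↥(MulAut.conj g₀ • B) = Nat.card ↥(MulAut.conj g₁ • B) :=
          (hconj g₀).2.trans (hconj g₁).2.symm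
        have hc10 := hs.comm_of_moves_le (hB.smul g₀) (hB.smul g₁) hcc
          (hm₁.trans (AddSubgroup.zmultiples_le.2 hs₀))
        have hu0' : b₀ • u - u ≠ 0 := fun e => hv₀ (by
          have h1 : moves B W ≤ fixedSub (MulAut.conj g₀ • B) :=
            (hs.moves_le_zmultiples hB hc hb hu0).trans (AddSubgroup.zmultiples_le.2
              (hs.mem_fix (hB.smul g₀) hb₀ (fun e' => hv₀0 (by rw [← e₀, e', one_smul, sub_self]))
                (sub_eq_zero.1 e)))
          rw [← e₀]
          exact hs.moves_le_of_comm (hB.smul g₀) hB (card_smul_subgroup B g₀)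
            (hs.comm_of_moves_le (hB.smul g₀) hB (card_smul_subgroup B g₀) h1)
            (sub_mem_moves hb₀ w₀))
        have hu1 : b₁ • u - u ≠ 0 := fun e => hsB (by
          have h1 : moves B W ≤ fixedSub (MulAut.conj g₁ • B) :=
            (hs.moves_le_zmultiples hB hc hb hu0).trans (AddSubgroup.zmultiples_le.2
              (hs.mem_fix (hB.smul g₁) hb₁ (fun e' => hs0 (by rw [← e₁, e', one_smul, sub_self]))
                (sub_eq_zero.1 e)))
          rw [← e₁]
          exact hs.moves_le_of_comm (hB.smul g₁) hB (card_smul_subgroup B g₁)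
            (hs.comm_of_moves_le (hB.smul g₁) hB (card_smul_subgroup B g₁) h1)
            (sub_mem_moves hb₁ w₁))
        have huB : u ∈ fixedSub B := hB.quad b hb w
        obtain ⟨j, hj⟩ := exists_nsmul_of_mem_zmultiples
          ((hs.moves_le_zmultiples (hB.smul g₁) (hconj g₁).2 hb₁ hu1) (e₁ ▸ sub_mem_moves hb₁ w₁))
        obtain ⟨n, hn⟩ := exists_nsmul_of_mem_zmultiples (hm₀ (sub_mem_moves hb₀ u))
        obtain ⟨i, hi⟩ := hs.exists_nsmul_add_mem hB hc (y := b₀ • u - u) (fun hd' => hv₀ (by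
          obtain ⟨m, hm⟩ := AddSubgroup.mem_zmultiples_iff.1
            (mem_zmultiples_nsmul (h.exponent v₀) (n := n) (hn ▸ hu0'))
          rw [← hm, hn]
          exact zsmul_mem hd' m)) s
        have hx : b₀ ^ i • b₁ ^ j • u = u + (i • (b₀ • u - u) + s) := by
          rw [pow_smul_sub (hB.smul g₁).toIsQuad hb₁ j u, hj, smul_add,
            pow_smul_sub (hB.smul g₀).toIsQuad hb₀ i u,
            hs₀ _ ((MulAut.conj g₀ • B).pow_mem hb₀ i)]
          abel
        have hxP : u + (i • (b₀ • u - u) + s) ∈ P := hx ▸ hPinv _ _ (hPinv _ _ huP)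
        have h2 : u + (i • (b₀ • u - u) + s) ∈ R₀ := AddSubgroup.subset_closure
          ⟨hxP, add_mem huB (by rwa [add_comm])⟩
        have h3 : i • (b₀ • u - u) + s ∈ R₀ := by
          simpa using sub_mem h2 (AddSubgroup.subset_closure ⟨huP, huB⟩)
        rw [show s = (i • (b₀ • u - u) + s) + -(i • (b₀ • u - u)) by abel]
        exact add_mem (AddSubgroup.mem_sup_left h3)
          (AddSubgroup.mem_sup_right (neg_mem (nsmul_mem (hm₀ (sub_mem_moves hb₀ u)) i)))
      · -- `b₀` moves `s`
        obtain ⟨n, hn⟩ := exists_nsmul_of_mem_zmultiples (hm₀ (sub_mem_moves hb₀ s))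
        obtain ⟨i, hi⟩ := hs.exists_nsmul_add_mem hB hc (y := b₀ • s - s) (fun hd' => hv₀ (by
          obtain ⟨m, hm⟩ := AddSubgroup.mem_zmultiples_iff.1
            (mem_zmultiples_nsmul (h.exponent v₀) (n := n) (hn ▸ hd))
          rw [← hm, hn]
          exact zsmul_mem hd' m)) s
        have hx : b₀ ^ i • s = s + i • (b₀ • s - s) :=
          pow_smul_sub (hB.smul g₀).toIsQuad hb₀ i s
        have h2 : s + i • (b₀ • s - s) ∈ R₀ :=
          AddSubgroup.subset_closure ⟨hx ▸ hPinv _ _ hsP, hi⟩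
        rw [show s = (s + i • (b₀ • s - s)) + -(i • (b₀ • s - s)) by abel]
        exact add_mem (AddSubgroup.mem_sup_left h2)
          (AddSubgroup.mem_sup_right (neg_mem (nsmul_mem (hm₀ (sub_mem_moves hb₀ s)) i)))
    intro x hx
    obtain ⟨r, hr, y, hy, rfl⟩ := AddSubgroup.mem_sup.1
      ((AddSubgroup.closure_le _).2 hkey (hutop ▸ AddSubgroup.mem_top x))
    have hyB : y ∈ fixedSub B := by simpa using sub_mem hx (hR₀B hr)
    obtain ⟨n, rfl⟩ := exists_nsmul_of_mem_zmultiples hy
    by_cases hn : n • v₀ = 0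
    · rw [hn, add_zero]; exact hR₀S hr
    · obtain ⟨m, hm⟩ := AddSubgroup.mem_zmultiples_iff.1 (mem_zmultiples_nsmul (h.exponent v₀) hn)
      exact absurd (hm ▸ zsmul_mem hyB m) hv₀
  · -- the group `SL₂` is perfect
    have hq : 3 < Nat.card B := by
      rw [hk]
      calc 3 < 2 ^ 2 := by norm_num
        _ ≤ p ^ 2 := Nat.pow_le_pow_left (Fact.out : p.Prime).two_le 2
        _ ≤ _ := Nat.pow_le_pow_right (Fact.out : p.Prime).pos (by omega)
    have hEker : ∀ k : V, π k = 0 → k ∈ fixedSub R.E := fun k hk => by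
      rw [R.eq_sup, mem_fixedSub_sup]
      exact ⟨hkerB k hk, hker k hk R.x⟩
    have hZS : (fixedSub R.E : AddSubgroup W) ≤ S := fun z hz => by
      obtain ⟨u, rfl⟩ := hl.surj z
      let φ : R.E →* Multiplicative V :=
        { toFun := fun g => Multiplicative.ofAdd ((g : H) • u - u)
          map_one' := by simp
          map_mul' := fun g g' => by
            rw [← ofAdd_add]
            exact congrArg _ (sub_mul_of_fix
              (hEker _ (by rw [map_sub, hl.equiv, hz _ g'.2, sub_self]) _ g.2)) }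
      refine AddSubgroup.mem_map.2 ⟨u, fun b hb => sub_eq_zero.1 ?_, rfl⟩
      exact congrArg Multiplicative.toAdd (R.hom_trivial hq φ ⟨b, R.le hb⟩)
    intro x hx
    obtain ⟨u, hu⟩ := R.surj ![0, 1]
    obtain ⟨a, ha⟩ := R.coord_bijective.2 (R.ψ x 0)
    have hd : x - ((a : H) • u - u) ∈ fixedSub R.E := by
      rw [← R.ker, map_sub, R.ψ_sub, hu, ha]
      have h1 := (R.mem_fix x).1 hx
      funext i
      fin_cases i <;> simp [h1]
    simpa using add_mem (hZS hd) (hmovesS (sub_mem_moves a.2 u))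

/-- Some fixed point of `T` lies outside the kernel. -/
theorem exists_fixed_lift (hA : A ≤ (T : Subgroup H)) (hA0 : A ≠ ⊥) :
    ∃ w ∈ (fixedSub (T : Subgroup H) : AddSubgroup V), π w ≠ 0 := by
  classical
  obtain ⟨hq, hμ, -⟩ := lift_fixed h hl hA
  obtain ⟨B, hBA, hB⟩ := exists_min hq hA0 hμ
  have hBT : B ≤ (T : Subgroup H) := hBA.trans hA
  have hs := h.toSetting
  set N : Subgroup H := (T : Subgroup H) ⊓ Subgroup.normalizer (B : Set H) with hN
  have hNp : IsPGroup p N := T.2.to_le inf_le_left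
  have hNB : ∀ n ∈ N, ∀ b ∈ B, n * b * n⁻¹ ∈ B := fun n hn b hb =>
    (Subgroup.mem_normalizer_iff.1 hn.2 b).1 hb
  obtain ⟨k, hk⟩ := hB.isPGroup.exists_card_eq
  have hk0 : k ≠ 0 := fun e => hB.ne_bot (Subgroup.card_eq_one.1 (by rw [hk, e, pow_zero]))
  have hdvd : p ∣ Nat.card (W ⧸ (fixedSub B : AddSubgroup W)) := by
    rw [hs.index_fixedSub hB, hk]; exact dvd_pow_self p hk0
  have hNfix : ∀ n ∈ N, ∀ v ∈ (fixedSub B : AddSubgroup W), n • v ∈ fixedSub B :=
    fun n hn v hv b hb => by
      have h1 : n⁻¹ * b * n ∈ B := by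
        have := hNB n⁻¹ (N.inv_mem hn) b hb
        rwa [inv_inv] at this
      calc b • n • v = n • (n⁻¹ * b * n) • v := by
            rw [mul_smul, mul_smul, smul_inv_smul]
        _ = _ := by rw [hv _ h1]
  obtain ⟨v, hv, hvN⟩ := exists_fixed_mod hNp hNfix hdvd
  obtain ⟨a, ha, ha1, haN⟩ := exists_fixed_conj hNp hB.isPGroup hB.ne_bot hNB
  obtain ⟨u, rfl⟩ := hl.surj v
  set w₀ : V := a • u - u with hw₀
  have hw₀N : ∀ n ∈ N, n • w₀ = w₀ := fun n hn => by
    have h1 : n • u - u ∈ fixedSub B := lift_fixed_min h hl hA hBA hB (by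
      rw [map_sub, hl.equiv]; exact hvN n hn)
    have h2 := h1 a ha
    rw [smul_sub, sub_eq_sub_iff_add_eq_add] at h2
    have h3 : a * n = n * a := by
      conv_lhs => rw [← haN n hn]
      rw [inv_mul_cancel_right]
    rw [hw₀, smul_sub, ← mul_smul, ← h3, mul_smul, sub_eq_sub_iff_add_eq_add, h2, add_comm]
  let N' : Subgroup (T : Subgroup H) := (Subgroup.normalizer (B : Set H)).subgroupOf T
  let f : (T : Subgroup H) ⧸ N' → V := fun x => Quotient.liftOn' x (fun t => (t : H) • w₀)
    fun s t hst => by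
      rw [QuotientGroup.leftRel_apply] at hst
      have h1 := hw₀N ((s⁻¹ * t : (T : Subgroup H)) : H) ⟨(s⁻¹ * t).2, hst⟩
      rw [Subgroup.coe_mul, Subgroup.coe_inv, mul_smul, inv_smul_eq_iff] at h1
      exact h1.symm
  let Xf : (T : Subgroup H) ⧸ N' → Subgroup H := fun x =>
    Quotient.liftOn' x (fun t => MulAut.conj (t : H) • B) fun s t hst => by
      rw [QuotientGroup.leftRel_apply] at hst
      have h1 : MulAut.conj ((s⁻¹ * t : (T : Subgroup H)) : H) • B = B :=
        LLemma.conj_eq_of_mem_normalizer hst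
      rw [Subgroup.coe_mul, Subgroup.coe_inv, ← LLemma.conj_conj] at h1
      conv_lhs => rw [← h1]
      rw [LLemma.conj_conj, mul_inv_cancel, map_one, one_smul]
  have hXinj : Function.Injective Xf := fun x y => by
    induction x using Quotient.inductionOn' with
    | h s =>
      induction y using Quotient.inductionOn' with
      | h t =>
        intro e
        apply Quotient.sound'
        rw [QuotientGroup.leftRel_apply]
        refine LLemma.mem_normalizer_of_conj_le (le_of_eq ?_)
        show MulAut.conj ((s : H)⁻¹ * (t : H)) • B = B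
        rw [← LLemma.conj_conj]
        rw [← show MulAut.conj (s : H) • B = MulAut.conj (t : H) • B from e, LLemma.conj_conj,
          inv_mul_cancel, map_one, one_smul]
  have hXmin : ∀ x, IsMin p (Xf x) W ∧ Nat.card (Xf x) = Nat.card B ∧ Xf x ≤ (T : Subgroup H) := by
    intro x
    induction x using Quotient.inductionOn' with
    | h t =>
      exact ⟨hB.smul _, card_smul_subgroup B _,
        (Subgroup.pointwise_smul_le_pointwise_smul_iff.2 hBT).trans
          (LLemma.conj_eq_of_mem_normalizer (Subgroup.le_normalizer t.2)).le⟩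
  have hfmem : ∀ x, π (f x) ∈ moves (Xf x) W := by
    intro x
    induction x using Quotient.inductionOn' with
    | h t =>
      show π ((t : H) • w₀) ∈ moves (MulAut.conj (t : H) • B) W
      have e : π ((t : H) • w₀) = ((t : H) * a * (t : H)⁻¹) • ((t : H) • π u) - (t : H) • π u := by
        rw [conj_sub, inv_smul_smul, hl.equiv, hw₀, map_sub, hl.equiv]
      rw [e]
      exact sub_mem_moves (LLemma.conj_mem_conj ha) _
  set x₀ : (T : Subgroup H) ⧸ N' := QuotientGroup.mk 1 with hx₀
  have hX₀ : Xf x₀ = B := by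
    show MulAut.conj ((1 : (T : Subgroup H)) : H) • B = B
    rw [Subgroup.coe_one, map_one, one_smul]
  have hf₀ : π (f x₀) = a • π u - π u := by
    show π (((1 : (T : Subgroup H)) : H) • w₀) = _
    rw [Subgroup.coe_one, one_smul, hw₀, map_sub, hl.equiv]
  have hne0 : a • π u - π u ≠ 0 := fun e => hv (hs.mem_fix hB ha ha1 (sub_eq_zero.1 e))
  have hcomm : ∀ x y, ∀ s ∈ Xf x, ∀ t ∈ Xf y, s * t = t * s := fun x y =>
    hs.commute_of_le_pgroup T.2 (hXmin x).1 (hXmin y).1 ((hXmin x).2.1.trans (hXmin y).2.1.symm)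
      (hXmin x).2.2 (hXmin y).2.2
  haveI : Fintype ((T : Subgroup H) ⧸ N') := Fintype.ofFinite _
  refine ⟨∑ x, f x, fun t ht => ?_, fun e => hne0 ?_⟩
  · rw [Finset.smul_sum]
    refine Fintype.sum_equiv (MulAction.toPerm (⟨t, ht⟩ : (T : Subgroup H))) _ _ fun x => ?_
    induction x using Quotient.inductionOn' with
    | h s => exact (mul_smul t (s : H) w₀).symm
  · rw [map_sum, ← Finset.add_sum_erase _ _ (Finset.mem_univ x₀), hf₀, add_eq_zero_iff_eq_neg] at e
    by_cases hq2 : 2 < Nat.card B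
    · obtain ⟨F, hF, hF', ⟨R⟩⟩ := exists_rootPair hs hB
      have hrest : ∑ x ∈ Finset.univ.erase x₀, π (f x) ∈ fixedSub R.E := by
        refine sum_mem fun x hx => ?_
        have hne : B ≠ Xf x := fun e' => Finset.ne_of_mem_erase hx (hXinj (e'.symm.trans hX₀.symm))
        exact hs.moves_le_fixE hB (hXmin x).1 (hXmin x).2.1.symm (hX₀ ▸ hcomm x₀ x) hne hq2 R (hfmem x)
      rw [← neg_mem_iff, ← e, ← R.ker, show a = ((⟨a, ha⟩ : B) : H) from rfl, R.ψ_sub] at hrest
      have h1 := congrFun hrest 0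
      simp only [Matrix.cons_val_zero, Pi.zero_apply, mul_eq_zero] at h1
      rcases h1 with h1 | h1
      · exact absurd (congrArg Subtype.val (R.coord_eq_zero.1 h1)) ha1
      · exact absurd ((R.mem_fix _).2 h1) hv
    · have hc : Nat.card B = p := by
        have h1 : p ^ k ≤ 2 := hk ▸ Nat.not_lt.1 hq2
        have h2 : k = 1 := by
          by_contra hk1
          have h3 : 2 ^ 2 ≤ p ^ k := (Nat.pow_le_pow_left (Fact.out : p.Prime).two_le 2).trans
            (Nat.pow_le_pow_right (Fact.out : p.Prime).pos (by omega))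
          omega
        rw [hk, h2, pow_one]
      have hfam : IsFamily p W (Finset.univ.image Xf) := by
        refine ⟨fun X hX => ?_, fun X hX Y hY => ?_⟩
        · obtain ⟨x, -, rfl⟩ := Finset.mem_image.1 hX
          exact ⟨(hXmin x).1, (hXmin x).2.1.trans hc⟩
        · obtain ⟨x, -, rfl⟩ := Finset.mem_image.1 hX
          obtain ⟨y, -, rfl⟩ := Finset.mem_image.1 hY
          exact hcomm x y
      have hinf := hs.inf_moves_eq_bot hfam
        (Finset.mem_image.2 ⟨x₀, Finset.mem_univ _, rfl⟩ : Xf x₀ ∈ Finset.univ.image Xf)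
      have h1 : a • π u - π u ∈ moves (Xf x₀) W ⊓
          ((Finset.univ.image Xf).erase (Xf x₀)).sup (fun Y => moves Y W) := by
        refine AddSubgroup.mem_inf.2 ⟨hX₀.symm ▸ sub_mem_moves ha _, ?_⟩
        rw [e]
        refine neg_mem (sum_mem fun x hx => ?_)
        exact Finset.le_sup (f := fun Y => moves Y W) (Finset.mem_erase.2
          ⟨fun e' => Finset.ne_of_mem_erase hx (hXinj e'),
            Finset.mem_image.2 ⟨x, Finset.mem_univ _, rfl⟩⟩) (hfmem x)
      rw [hinf] at h1
      exact AddSubgroup.mem_bot.1 h1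

end CfsgLib.FFModules.MinimalParabolic
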