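import Cfsg.Agent.Lib.FFModules.MinimalParabolic.Lifting

/-!
A faithful module of a `p`-minimal group with trivial `O_p` and a quadratic offender: some fixed
point of a Sylow `p`-subgroup is moved by the group.
-/

set_option autoImplicit false
set_option linter.style.haveILetI false
set_option linter.unusedSectionVars false

namespace CfsgLib.FFModules.MinimalParabolic

open SL2Pair
open scoped Pointwise

variable {H V : Type*} [Group H] [Finite H] [AddCommGroup V] [DistribMulAction H V] [Finite V]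
variable {p : ℕ} [Fact p.Prime] {T : Sylow p H} {M : Subgroup H}

/-- A quadratic offender forces a fixed point of `T` that is not fixed by the group. -/
theorem exists_moved (h : Base p T M V) {A : Subgroup H} (hA : IsQuad p A V) (hne : A ≠ ⊥)
    (hoff : Nat.card V ≤ mu A V) :
    ∃ v ∈ (fixedSub (T : Subgroup H) : AddSubgroup V), ∃ g : H, g • v ≠ v := by
  classical
  -- move `A` into `T`
  obtain ⟨T', hT'⟩ := hA.isPGroup.exists_le_sylow
  obtain ⟨g₀, rfl⟩ := MulAction.exists_smul_eq H T T'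
  set A₁ := MulAut.conj g₀⁻¹ • A with hA₁
  have hA₁T : A₁ ≤ (T : Subgroup H) := by
    have h1 := Subgroup.pointwise_smul_le_pointwise_smul_iff (a := MulAut.conj g₀⁻¹).2 hT'
    rwa [Sylow.coe_subgroup_smul, LLemma.conj_conj, inv_mul_cancel, map_one, one_smul] at h1
  have hA₁q : IsQuad p A₁ V := hA.smul _
  have hoff₁ : Nat.card V ≤ mu A₁ V := by rw [hA₁, mu_smul]; exact hoff
  have hA₁ne : A₁ ≠ ⊥ := fun e => hne (by
    have h1 := congrArg (fun X : Subgroup H => MulAut.conj g₀ • X) e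
    simpa [hA₁, LLemma.conj_conj, Subgroup.smul_bot] using h1)
  obtain ⟨S, K, hKn, actS, S₀, actW, hact, hπ, hKp, hIrr, hS₀⟩ := h.exists_section
  set mk := QuotientGroup.mk' K with hmk
  have hTb' : ((T.mapSurjective (QuotientGroup.mk'_surjective K) : Sylow p (H ⧸ K)) :
      Subgroup (H ⧸ K)) = (T : Subgroup H).map mk := rfl
  have hA₁K : A₁ ⊓ K = ⊥ := by
    obtain ⟨k, hk⟩ := (hA₁q.isPGroup.to_le (inf_le_left : A₁ ⊓ K ≤ A₁)).exists_card_eq
    rcases k.eq_zero_or_pos with rfl | hk0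
    · exact Subgroup.card_eq_one.1 (by rw [hk, pow_zero])
    · exact absurd ((dvd_pow_self p hk0.ne').trans
        (hk ▸ Subgroup.card_dvd_of_le (inf_le_right : A₁ ⊓ K ≤ K))) hKp
  have hinjA : ∀ a ∈ A₁, ∀ b ∈ A₁, mk a = mk b → a = b := fun a ha b hb e => by
    have h1 : a⁻¹ * b ∈ A₁ ⊓ K := ⟨A₁.mul_mem (A₁.inv_mem ha) hb, QuotientGroup.eq.1 e⟩
    rw [hA₁K, Subgroup.mem_bot, inv_mul_eq_one] at h1
    exact h1
  set Ab : Subgroup (H ⧸ K) := A₁.map mk with hAb
  have hfixmem : ∀ v : S, v ∈ (fixedSub Ab : AddSubgroup S) ↔ (v : V) ∈ fixedSub A₁ := fun v =>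
    ⟨fun hv a ha => (hact a v).symm.trans (congrArg Subtype.val (hv (mk a) ⟨a, ha, rfl⟩)),
      fun hv x ⟨a, ha, e⟩ => e ▸ Subtype.ext ((hact a v).trans (hv a ha))⟩
  have hlift : IsLift (QuotientAddGroup.mk' S₀) Ab :=
    { equiv := fun x v => hπ x v
      surj := QuotientAddGroup.mk'_surjective S₀
      quad := by
        rintro _ ⟨a, ha, rfl⟩ v
        refine (hfixmem _).2 ?_
        rw [AddSubgroup.coe_sub, show ((mk a • v : S) : V) = a • (v : V) from hact a v]
        exact hA₁q.quad a ha (v : V)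
      offender := by
        have hc1 : Nat.card Ab = Nat.card A₁ :=
          (Nat.card_eq_of_bijective (fun a : A₁ => (⟨mk a, a, a.2, rfl⟩ : Ab))
            ⟨fun a b e => Subtype.ext (hinjA _ a.2 _ b.2 (congrArg Subtype.val e)),
              fun ⟨x, a, ha, e⟩ => ⟨⟨a, ha⟩, Subtype.ext e⟩⟩).symm
        have hc2 : Nat.card (fixedSub Ab : AddSubgroup S) =
            Nat.card ↥(S ⊓ fixedSub A₁ : AddSubgroup V) := Nat.card_congr
          { toFun := fun v => ⟨((v : S) : V), AddSubgroup.mem_inf.2 ⟨(v : S).2, (hfixmem _).1 v.2⟩⟩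
            invFun := fun v => ⟨⟨(v : V), v.2.1⟩, (hfixmem _).2 v.2.2⟩
            left_inv := fun v => rfl
            right_inv := fun v => rfl }
        rw [hc1, hc2]
        have hle : Nat.card ↥(S ⊔ fixedSub A₁ : AddSubgroup V) ≤ Nat.card V :=
          Nat.card_le_card_of_injective _ Subtype.val_injective
        have hpos : 0 < Nat.card (fixedSub A₁ : AddSubgroup V) := Nat.card_pos
        refine Nat.le_of_mul_le_mul_right ?_ hpos
        calc _ = Nat.card ↥(S ⊔ fixedSub A₁ : AddSubgroup V) *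
              Nat.card ↥(S ⊓ fixedSub A₁ : AddSubgroup V) := (card_sup_mul _ _).symm
          _ ≤ Nat.card A₁ * Nat.card (fixedSub A₁ : AddSubgroup V) *
              Nat.card ↥(S ⊓ fixedSub A₁ : AddSubgroup V) :=
            Nat.mul_le_mul_right _ (hle.trans hoff₁)
          _ = _ := by ring }
  have hAbne : Ab ≠ ⊥ := fun e => hA₁ne ((Subgroup.eq_bot_iff_forall _).2 fun a ha =>
    hinjA a ha 1 A₁.one_mem (by
      have h1 : mk a ∈ Ab := ⟨a, ha, rfl⟩
      rw [e, Subgroup.mem_bot] at h1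
      rw [h1, map_one]))
  obtain ⟨w, hwT, hw⟩ := exists_fixed_lift hIrr hlift (hTb' ▸ Subgroup.map_mono hA₁T) hAbne
  refine ⟨(w : V), fun t ht => (hact t w).symm.trans
    (congrArg Subtype.val (hwT (mk t) (hTb' ▸ ⟨t, ht, rfl⟩))), ?_⟩
  by_contra hall
  push Not at hall
  exact hw ((QuotientAddGroup.eq_zero_iff w).2 (hS₀ w hall))

end CfsgLib.FFModules.MinimalParabolic
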