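import Cfsg.Agent.Lib.FFModules.MinimalParabolic.Irreducible

/-!
Every faithful module in the basic setting has an irreducible section satisfying the same
hypotheses.  Hence quadratic subgroups move the module into at least their own order.
-/

set_option autoImplicit false
set_option linter.style.haveILetI false
set_option linter.unusedSectionVars false

namespace CfsgLib.FFModules.MinimalParabolic

open SL2Pair
open scoped Pointwise

variable {H V : Type*} [Group H] [Finite H] [AddCommGroup V] [DistribMulAction H V] [Finite V]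
variable {p : ℕ} [Fact p.Prime] {T : Sylow p H} {M : Subgroup H}

omit [Finite H] [Finite V] in
theorem conj_sub (w a : H) (v : V) :
    (w * a * w⁻¹) • v - v = w • (a • (w⁻¹ • v) - w⁻¹ • v) := by
  rw [smul_sub, smul_inv_smul, mul_smul, mul_smul]

/-- A normal subgroup in `M` has order prime to `p`. -/
theorem Base.not_dvd_card (h : Base p T M V) {N : Subgroup H} (hN : N.Normal) (hNM : N ≤ M) :
    ¬ p ∣ Nat.card N := by
  haveI := hN
  intro hdvd
  obtain ⟨P⟩ : Nonempty (Sylow p N) := inferInstance
  obtain ⟨T', hT'⟩ := (P.isPGroup'.map N.subtype).exists_le_sylow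
  obtain ⟨g, rfl⟩ := MulAction.exists_smul_eq H T T'
  set M' := MulAut.conj g • M with hM'
  have h' : Base p (g • T) M' V := h.conj g
  have hNM' : N ≤ M' := fun x hx => by
    rw [hM', Subgroup.mem_pointwise_smul_iff_inv_smul_mem]
    refine hNM ?_
    rw [← map_inv, MulAut.smul_def, MulAut.conj_apply]
    exact hN.conj_mem x hx g⁻¹
  set Q : Subgroup H := ((g • T : Sylow p H) : Subgroup H) ⊓ N with hQ
  have hQP : (P : Subgroup N).map N.subtype = Q := by
    refine le_antisymm (le_inf hT' (Subgroup.map_subtype_le _)) ?_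
    have h1 : IsPGroup p (Q.subgroupOf N) :=
      (isPGroup_subgroupOf inf_le_right).2 ((g • T).isPGroup'.to_le inf_le_left)
    have h2 : (P : Subgroup N) ≤ Q.subgroupOf N := fun x hx =>
      Subgroup.mem_subgroupOf.2 ⟨hT' ⟨x, hx, rfl⟩, x.2⟩
    rw [← P.is_maximal' h1 h2, Subgroup.map_subgroupOf_eq_of_le inf_le_right]
  have hfr := Sylow.normalizer_sup_eq_top P
  rw [hQP] at hfr
  have htop : Subgroup.normalizer (Q : Set H) = ⊤ := by
    by_contra hne
    have hle : ((g • T : Sylow p H) : Subgroup H) ≤ Subgroup.normalizer (Q : Set H) := fun t ht => by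
      refine LLemma.mem_normalizer_of_conj_le ?_
      rintro _ hx
      obtain ⟨y, hy, rfl⟩ := (Subgroup.mem_smul_pointwise_iff_exists _ _ _).1 hx
      exact ⟨Subgroup.mul_mem _ (Subgroup.mul_mem _ ht hy.1) (Subgroup.inv_mem _ ht),
        hN.conj_mem y hy.2 t⟩
    exact h'.ne_top (top_le_iff.1 (hfr ▸ sup_le (h'.le_M_of_sylow_le hle hne) hNM'))
  have hQ0 : Q = ⊥ := by
    rw [← le_bot_iff, ← h.core]
    exact le_pCore (Subgroup.normalizer_eq_top_iff.1 htop) ((g • T).isPGroup'.to_le inf_le_left)
  rw [hQ0, Subgroup.map_eq_bot_iff_of_injective _ N.subtype_injective] at hQP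
  exact P.ne_bot_of_dvd_card hdvd hQP

/-- Elements of order prime to `p` lie in every normal subgroup supplementing `T`. -/
theorem mem_of_sup_eq_top {N : Subgroup H} [N.Normal] (hN : N ⊔ (T : Subgroup H) = ⊤) {g : H}
    (hg : ¬ p ∣ orderOf g) : g ∈ N := by
  have hmap : ((T : Subgroup H).map (QuotientGroup.mk' N)) = ⊤ := by
    have h1 := congrArg (Subgroup.map (QuotientGroup.mk' N)) hN
    rw [Subgroup.map_sup, QuotientGroup.map_mk'_self, bot_sup_eq,
      Subgroup.map_top_of_surjective _ (QuotientGroup.mk'_surjective N)] at h1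
    exact h1
  obtain ⟨t, ht, e⟩ : QuotientGroup.mk' N g ∈ ((T : Subgroup H).map (QuotientGroup.mk' N)) :=
    hmap ▸ Subgroup.mem_top _
  obtain ⟨k, hk⟩ := T.isPGroup' ⟨t, ht⟩
  have h1 : orderOf (QuotientGroup.mk' N g) ∣ p ^ k := orderOf_dvd_of_pow_eq_one (by
    rw [← e, ← map_pow, ← map_one (QuotientGroup.mk' N)]
    exact congrArg _ (congrArg Subtype.val hk))
  have h2 : orderOf (QuotientGroup.mk' N g) ∣ orderOf g := orderOf_map_dvd _ _
  have hcop : Nat.Coprime (p ^ k) (orderOf g) :=
    (((Fact.out : p.Prime).coprime_iff_not_dvd).2 hg).pow_left k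
  have h3 : orderOf (QuotientGroup.mk' N g) = 1 :=
    Nat.eq_one_of_dvd_coprimes hcop h1 h2
  exact (QuotientGroup.eq_one_iff g).1 (orderOf_eq_one_iff.1 h3)

/-- An element of order prime to `p` fixes what it moves by a vector that it fixes. -/
theorem smul_eq_of_fixed_diff {g : H} (hg : ¬ p ∣ orderOf g) {v : V}
    (hp : p • (g • v - v) = 0) (hfix : g • (g • v - v) = g • v - v) : g • v = v := by
  set d := g • v - v with hd
  have e : ∀ n : ℕ, g ^ n • v = v + n • d := fun n => by
    induction n with
    | zero => simp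
    | succ n ih =>
      have hpow : g ^ n • d = d := by
        clear ih
        induction n with
        | zero => simp
        | succ n ihn => rw [pow_succ, mul_smul, hfix, ihn]
      rw [pow_succ, mul_smul, show g • v = v + d by rw [hd]; abel, smul_add, ih, hpow, succ_nsmul]
      abel
  have h1 := e (orderOf g)
  rw [pow_orderOf_eq_one, one_smul, left_eq_add] at h1
  have h2 : addOrderOf d = 1 := Nat.eq_one_of_dvd_coprimes
    (((Fact.out : p.Prime).coprime_iff_not_dvd).2 hg)
    (addOrderOf_dvd_of_nsmul_eq_zero hp) (addOrderOf_dvd_of_nsmul_eq_zero h1)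
  exact sub_eq_zero.1 (AddMonoid.addOrderOf_eq_one_iff.1 h2)

/-- The irreducible section. -/
theorem Base.exists_section (h : Base p T M V) :
    ∃ (S : AddSubgroup V) (K : Subgroup H) (_ : K.Normal) (_ : DistribMulAction (H ⧸ K) S)
      (S₀ : AddSubgroup S) (_ : DistribMulAction (H ⧸ K) (S ⧸ S₀)),
      (∀ (g : H) (v : S), (((g : H ⧸ K) • v : S) : V) = g • (v : V)) ∧
      (∀ (x : H ⧸ K) (v : S), QuotientAddGroup.mk' S₀ (x • v) = x • QuotientAddGroup.mk' S₀ v) ∧
      ¬ p ∣ Nat.card K ∧
      IrrSetting p (T.mapSurjective (QuotientGroup.mk'_surjective K))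
        (M.map (QuotientGroup.mk' K)) (S ⧸ S₀) ∧
      ∀ w : S, (∀ g : H, g • (w : V) = w) → w ∈ S₀ := by
  classical
  -- the points fixed by all elements of order prime to `p`
  let Fix : AddSubgroup V :=
    { carrier := {v | ∀ g : H, ¬ p ∣ orderOf g → g • v = v}
      zero_mem' := fun g _ => smul_zero g
      add_mem' := fun {u v} hu hv g hg => by rw [smul_add, hu g hg, hv g hg]
      neg_mem' := fun {u} hu g hg => by rw [smul_neg, hu g hg] }
  have hFix : ∀ (k : H), ∀ v ∈ Fix, k • v ∈ Fix := fun k v hv g hg => by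
    have h1 := hv (k⁻¹ * g * k) (by
      have : orderOf (MulAut.conj k⁻¹ g) = orderOf g := MulEquiv.orderOf_eq _ g
      simp only [MulAut.conj_apply, inv_inv] at this
      rwa [this])
    rwa [mul_smul, mul_smul, inv_smul_eq_iff] at h1
  have hnt : ¬ (⊤ : AddSubgroup V) ≤ Fix := by
    intro hall
    refine h.not_normal ?_
    have htop : (T : Subgroup H) = ⊤ := by
      refine Subgroup.eq_top_of_card_eq _ ?_
      have hp : IsPGroup p H := by
        refine IsPGroup.iff_card.2 ⟨(Nat.card H).factorization p, ?_⟩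
        by_contra hne'
        obtain ⟨q, hq, hqdvd⟩ := Nat.exists_prime_and_dvd
          (n := Nat.card H / p ^ (Nat.card H).factorization p) (fun e => hne'
            (Nat.eq_of_dvd_of_div_eq_one (Nat.ordProj_dvd _ _) e).symm)
        haveI := Fact.mk hq
        obtain ⟨g, hg⟩ := exists_prime_orderOf_dvd_card' (G := H) q
          (hqdvd.trans (Nat.ordCompl_dvd _ _))
        have hqp : ¬ p ∣ orderOf g := fun hd => by
          rw [hg, Nat.prime_dvd_prime_iff_eq (Fact.out : p.Prime) hq] at hd
          subst hd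
          exact Nat.not_dvd_ordCompl (n := Nat.card H) (Fact.out : p.Prime) Nat.card_pos.ne' hqdvd
        have hg1 := h.faithful g fun v => hall (AddSubgroup.mem_top v) g hqp
        rw [hg1, orderOf_one] at hg
        exact hq.one_lt.ne hg
      obtain ⟨n, hn⟩ := hp.exists_card_eq
      rw [T.card_eq_multiplicity, hn, (Fact.out : p.Prime).factorization_pow, Finsupp.single_eq_same]
    rw [htop]
    infer_instance
  obtain ⟨S, ⟨hS, hSF⟩, hmin⟩ := Set.Finite.exists_minimal
    (s := {S : AddSubgroup V | (∀ g : H, ∀ v ∈ S, g • v ∈ S) ∧ ¬ S ≤ Fix}) (Set.toFinite _)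
    ⟨⊤, fun g v _ => AddSubgroup.mem_top _, hnt⟩
  -- the kernels
  let K : Subgroup H :=
    { carrier := {g | ∀ v ∈ S, g • v = v}
      one_mem' := fun v _ => one_smul H v
      mul_mem' := fun {a b} ha hb v hv => by rw [mul_smul, hb v hv, ha v hv]
      inv_mem' := fun {a} ha v hv => inv_smul_eq_iff.2 (ha v hv).symm }
  let K' : Subgroup H :=
    { carrier := {g | ∀ v ∈ S, g • v - v ∈ Fix}
      one_mem' := fun v _ => by rw [one_smul, sub_self]; exact zero_mem _
      mul_mem' := fun {a b} ha hb v hv => by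
        have e : (a * b) • v - v = (a • (b • v) - b • v) + (b • v - v) := by rw [mul_smul]; abel
        rw [e]; exact add_mem (ha _ (hS b v hv)) (hb v hv)
      inv_mem' := fun {a} ha v hv => by
        have := neg_mem (ha _ (hS a⁻¹ v hv))
        rwa [smul_inv_smul, neg_sub] at this }
  have hKK' : K ≤ K' := fun g hg v hv => by rw [hg v hv, sub_self]; exact zero_mem _
  haveI hKn : K.Normal := ⟨fun n hn g v hv => by
    rw [mul_smul, mul_smul, hn _ (hS g⁻¹ v hv), smul_inv_smul]⟩
  haveI hK'n : K'.Normal := ⟨fun n hn g v hv => by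
    rw [conj_sub]; exact hFix g _ (hn _ (hS g⁻¹ v hv))⟩
  have hfixdiff : ∀ g ∈ K', ¬ p ∣ orderOf g → g ∈ K := fun g hg hgo v hv =>
    smul_eq_of_fixed_diff hgo (h.exponent _) (hg v hv g hgo)
  have hK'M : K' ≤ M := by
    refine le_sup_left.trans (h.le_M_of_sylow_le le_sup_right fun e => hSF fun v hv g hg => ?_)
    exact hfixdiff g (mem_of_sup_eq_top e hg) hg v hv
  have hK'p := h.not_dvd_card hK'n hK'M
  have hKeq : K' = K := le_antisymm (fun g hg => hfixdiff g hg fun hd => hK'p (hd.trans
    ((Subgroup.orderOf_mk g hg).symm.dvd.trans (orderOf_dvd_natCard _)))) hKK'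
  have hKM : K ≤ M := hKK'.trans hK'M
  have hKp := h.not_dvd_card hKn hKM
  -- the actions of `H ⧸ K`
  letI actS : DistribMulAction (H ⧸ K) S :=
    { smul := fun x v => Quotient.liftOn' x (fun g => (⟨g • (v : V), hS g v v.2⟩ : S))
        fun a b hab => Subtype.ext (by
          rw [QuotientGroup.leftRel_apply] at hab
          have h1 := hab v v.2
          rwa [mul_smul, inv_smul_eq_iff, eq_comm] at h1)
      one_smul := fun v => Subtype.ext (one_smul H (v : V))
      mul_smul := fun x y v => Quotient.inductionOn₂' x y fun a b =>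
        Subtype.ext (mul_smul a b (v : V))
      smul_zero := fun x => Quotient.inductionOn' x fun a => Subtype.ext (smul_zero a)
      smul_add := fun x u v => Quotient.inductionOn' x fun a =>
        Subtype.ext (smul_add a (u : V) (v : V)) }
  have hact : ∀ (g : H) (v : S), (((g : H ⧸ K) • v : S) : V) = g • (v : V) := fun g v => rfl
  set S₀ : AddSubgroup S := Fix.addSubgroupOf S with hS₀
  letI actW : DistribMulAction (H ⧸ K) (S ⧸ S₀) :=
    { smul := fun x => QuotientAddGroup.map S₀ S₀ (DistribSMul.toAddMonoidHom S x)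
        (fun v hv => Quotient.inductionOn' x fun a => hFix a (v : V) hv)
      one_smul := fun w => QuotientAddGroup.induction_on w fun v => by
        show QuotientAddGroup.mk ((1 : H ⧸ K) • v) = QuotientAddGroup.mk v
        rw [one_smul]
      mul_smul := fun x y w => QuotientAddGroup.induction_on w fun v => by
        show QuotientAddGroup.mk ((x * y) • v) = QuotientAddGroup.mk (x • y • v)
        rw [mul_smul]
      smul_zero := fun x => map_zero (QuotientAddGroup.map S₀ S₀ (DistribSMul.toAddMonoidHom S x) _)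
      smul_add := fun x => map_add (QuotientAddGroup.map S₀ S₀ (DistribSMul.toAddMonoidHom S x) _) }
  set mk := QuotientGroup.mk' K with hmk
  have hmks : Function.Surjective mk := QuotientGroup.mk'_surjective K
  set Tb : Sylow p (H ⧸ K) := T.mapSurjective hmks with hTb
  have hTb' : (Tb : Subgroup (H ⧸ K)) = (T : Subgroup H).map mk := rfl
  have hcomap : (M.map mk).comap mk = M := by
    rw [Subgroup.comap_map_eq, QuotientGroup.ker_mk', sup_eq_left.2 hKM]
  have hnotall : ¬ ∀ g : H, ¬ p ∣ orderOf g → g ∈ K := fun hall =>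
    hSF fun v hv g hg => hall g hg v hv
  have hcore : Cfsg.pCore p (H ⧸ K) = ⊥ := by
    have hn := normal_pCore (p := p) (G := H ⧸ K)
    have hpc := isPGroup_pCore (p := p) (G := H ⧸ K)
    set N := Cfsg.pCore p (H ⧸ K)
    haveI := hn.comap mk
    by_cases htop : N.comap mk ⊔ (T : Subgroup H) = ⊤
    · refine absurd (fun g hg => ?_) hnotall
      have h1 : mk g ∈ N := mem_of_sup_eq_top htop hg
      obtain ⟨k, hk⟩ := hpc ⟨_, h1⟩
      have h2 : orderOf (mk g) ∣ p ^ k := orderOf_dvd_of_pow_eq_one (congrArg Subtype.val hk)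
      have h3 : orderOf (mk g) = 1 := Nat.eq_one_of_dvd_coprimes
        ((((Fact.out : p.Prime).coprime_iff_not_dvd).2 hg).pow_left k) h2 (orderOf_map_dvd _ _)
      exact (QuotientGroup.eq_one_iff g).1 (orderOf_eq_one_iff.1 h3)
    · have hle : N.comap mk ≤ M := le_sup_left.trans (h.le_M_of_sylow_le le_sup_right htop)
      have h1 := h.not_dvd_card (hn.comap mk) hle
      obtain ⟨k, hk⟩ := hpc.exists_card_eq
      rcases k.eq_zero_or_pos with rfl | hk0
      · exact Subgroup.card_eq_one.1 (by rw [hk, pow_zero])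
      · refine absurd ?_ h1
        have h2 := (N.comap mk).card_map_dvd mk
        rw [Subgroup.map_comap_eq_self_of_surjective hmks, hk] at h2
        exact (dvd_pow_self p hk0.ne').trans h2
  have hIrr : IrrSetting p Tb (M.map mk) (S ⧸ S₀) :=
    { faithful := fun x => Quotient.inductionOn' x fun g hg => by
        refine (QuotientGroup.eq_one_iff g).2 (hKeq ▸ fun v hv => ?_)
        have h1 := QuotientAddGroup.eq.1 (hg (QuotientAddGroup.mk (⟨v, hv⟩ : S)) :
          QuotientAddGroup.mk ((g : H ⧸ K) • (⟨v, hv⟩ : S)) = ((⟨v, hv⟩ : S) : S ⧸ S₀))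
        have h2 := neg_mem (show -(g • v) + v ∈ Fix from h1)
        rwa [neg_add_rev, neg_neg, neg_add_eq_sub] at h2
      exponent := fun w => QuotientAddGroup.induction_on w fun v => by
        rw [← QuotientAddGroup.mk_nsmul, show p • v = 0 from Subtype.ext (h.exponent (v : V))]
        rfl
      coatom := by
        refine ⟨fun e => h.ne_top ?_, fun X hX => ?_⟩
        · rw [← hcomap, e, Subgroup.comap_top]
        · have h1 : M < X.comap mk := hcomap ▸ (Subgroup.comap_lt_comap_of_surjective hmks).2 hX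
          exact Subgroup.comap_injective hmks ((h.coatom.2 _ h1).trans (Subgroup.comap_top mk).symm)
      sylow_le := hTb' ▸ Subgroup.map_mono h.sylow_le
      unique := fun N hN hTN => by
        have hle : N.comap mk ≤ M := h.le_M_of_sylow_le (Subgroup.map_le_iff_le_comap.1 (hTb' ▸ hTN))
          fun e => hN.1 (Subgroup.comap_injective hmks (e.trans (Subgroup.comap_top mk).symm))
        have h1 : N ≤ M.map mk :=
          (Subgroup.map_comap_eq_self_of_surjective hmks N).ge.trans (Subgroup.map_mono hle)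
        rcases h1.eq_or_lt with e | hlt
        · exact e
        · have h2 := hN.2 _ hlt
          exact absurd ((congrArg (Subgroup.comap mk) h2).symm.trans hcomap |>.symm.trans
            (Subgroup.comap_top mk)) h.ne_top
      not_normal := fun hn => h.not_normal (by
        have h1 : (Tb : Subgroup (H ⧸ K)) = ⊥ := le_bot_iff.1 (hcore ▸ le_pCore hn Tb.2)
        rw [hTb', Subgroup.map_eq_bot_iff, QuotientGroup.ker_mk'] at h1
        have hT0 : (T : Subgroup H) = ⊥ := by
          obtain ⟨k, hk⟩ := T.2.exists_card_eq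
          rcases k.eq_zero_or_pos with rfl | hk0
          · exact Subgroup.card_eq_one.1 (by rw [hk, pow_zero])
          · exact absurd ((dvd_pow_self p hk0.ne').trans
              (hk ▸ Subgroup.card_dvd_of_le h1)) hKp
        rw [hT0]; infer_instance)
      core := hcore
      irred := fun U hU => by
        set U' : AddSubgroup V := (U.comap (QuotientAddGroup.mk' S₀)).map S.subtype with hU'
        by_cases hle : U' ≤ Fix
        · refine Or.inl (le_bot_iff.1 fun w hw => ?_)
          induction w using QuotientAddGroup.induction_on with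
          | H v =>
            exact AddSubgroup.mem_bot.2 ((QuotientAddGroup.eq_zero_iff v).2
              (hle ⟨v, hw, rfl⟩))
        · refine Or.inr (top_le_iff.1 fun w _ => ?_)
          induction w using QuotientAddGroup.induction_on with
          | H v =>
            have hinv : ∀ g : H, ∀ u ∈ U', g • u ∈ U' := by
              rintro g _ ⟨u, hu, rfl⟩
              exact ⟨(g : H ⧸ K) • u, hU _ _ hu, rfl⟩
            have hSU : S ≤ U' := hmin ⟨hinv, hle⟩ (AddSubgroup.map_subtype_le _)
            obtain ⟨u, hu, e⟩ := hSU v.2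
            exact (Subtype.ext e : u = v) ▸ hu }
  exact ⟨S, K, hKn, actS, S₀, actW, hact, fun x v => rfl, hKp, hIrr, fun w hw g _ => hw g⟩

/-- A quadratic subgroup moves the module into at least its own order. -/
theorem Base.card_le_image (h : Base p T M V) {U : Subgroup H} (hU : IsQuad p U V)
    {S' : AddSubgroup V} (hS' : ∀ u ∈ U, ∀ v : V, u • v - v ∈ S') :
    Nat.card U ≤ Nat.card S' := by
  obtain ⟨S, K, hKn, actS, S₀, actW, hact, hπ, hKp, hIrr, -⟩ := h.exists_section
  set mk := QuotientGroup.mk' K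
  have hact' : ∀ (g : H) (v : S), ((mk g • v : S) : V) = g • (v : V) := hact
  have hinj : ∀ a ∈ U, ∀ b ∈ U, mk a = mk b → a = b := fun a ha b hb e => by
    have h1 : a⁻¹ * b ∈ U ⊓ K := ⟨U.mul_mem (U.inv_mem ha) hb, QuotientGroup.eq.1 e⟩
    obtain ⟨k, hk⟩ := (hU.isPGroup.to_le (inf_le_left : U ⊓ K ≤ U)).exists_card_eq
    rcases k.eq_zero_or_pos with rfl | hk0
    · rw [Subgroup.card_eq_one.1 (show Nat.card ↥(U ⊓ K) = 1 by rw [hk, pow_zero]),
        Subgroup.mem_bot, inv_mul_eq_one] at h1
      exact h1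
    · exact absurd ((dvd_pow_self p hk0.ne').trans
        (hk ▸ Subgroup.card_dvd_of_le (inf_le_right : U ⊓ K ≤ K))) hKp
  have hcard : Nat.card U = Nat.card (U.map mk) :=
    Nat.card_eq_of_bijective (fun a : U => (⟨mk a, a, a.2, rfl⟩ : U.map mk))
      ⟨fun a b e => Subtype.ext (hinj _ a.2 _ b.2 (congrArg Subtype.val e)),
        fun ⟨x, a, ha, e⟩ => ⟨⟨a, ha⟩, Subtype.ext e⟩⟩
  let π := QuotientAddGroup.mk' S₀
  have hq : IsQuad p (U.map mk) (S ⧸ S₀) := by
    refine ⟨hU.isPGroup.map mk, ?_⟩
    rintro _ ⟨a, ha, rfl⟩ w _ ⟨b, hb, rfl⟩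
    induction w using QuotientAddGroup.induction_on with
    | H v =>
      show mk b • ((mk a • π v) - π v) = (mk a • π v) - π v
      rw [← hπ, ← map_sub, ← hπ]
      refine congrArg π (Subtype.ext ?_)
      rw [hact', AddSubgroup.coe_sub, hact']
      exact hU.quad a ha (v : V) b hb
  rw [hcard]
  refine (hIrr.card_le_image hq (S := (S'.addSubgroupOf S).map π) ?_).trans ?_
  · rintro _ ⟨a, ha, rfl⟩ w
    induction w using QuotientAddGroup.induction_on with
    | H v =>
      refine AddSubgroup.mem_map.2 ⟨mk a • v - v, ?_, by rw [map_sub, hπ]; rfl⟩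
      rw [AddSubgroup.mem_addSubgroupOf, AddSubgroup.coe_sub, hact']
      exact hS' a ha (v : V)
  · refine (Nat.card_le_card_of_surjective (fun x : S'.addSubgroupOf S =>
      (⟨π x, AddSubgroup.mem_map.2 ⟨x, x.2, rfl⟩⟩ : (S'.addSubgroupOf S).map π)) ?_).trans ?_
    · rintro ⟨_, x, hx, rfl⟩
      exact ⟨⟨x, hx⟩, rfl⟩
    · exact Nat.card_le_card_of_injective (fun x => (⟨((x : S) : V), x.2⟩ : S'))
        fun x y e => Subtype.ext (Subtype.ext (congrArg Subtype.val e :))

end CfsgLib.FFModules.MinimalParabolic
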