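import Cfsg.Agent.Lib.FFModules.MinimalParabolic.ElabComponent
import Cfsg.Agent.Lib.FFModules.MinimalParabolic.Section

/-!
Elementary abelian offenders lie in the product of the components.
-/

set_option autoImplicit false
set_option linter.style.haveILetI false
set_option linter.unusedSectionVars false

namespace CfsgLib.FFModules.MinimalParabolic

open SL2Pair
open scoped Pointwise

variable {H W : Type*} [Group H] [AddCommGroup W] [DistribMulAction H W]
variable [Finite H] [Finite W] {p : ℕ} [Fact p.Prime] {T : Sylow p H} {M : Subgroup H}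

theorem index_fixedSub_smul (E : Subgroup H) (g : H) :
    (fixedSub (MulAut.conj g • E) : AddSubgroup W).index = (fixedSub E : AddSubgroup W).index := by
  have e : (fixedSub (MulAut.conj g • E) : AddSubgroup W) =
      (fixedSub E : AddSubgroup W).map (DistribMulAction.toAddEquiv W g).toAddMonoidHom := by
    ext v
    rw [mem_fixedSub_smul]
    refine ⟨fun h => ⟨g⁻¹ • v, h, smul_inv_smul _ _⟩, ?_⟩
    rintro ⟨w, hw, rfl⟩
    show g⁻¹ • g • w ∈ _
    rwa [inv_smul_smul]
  rw [e]
  exact AddSubgroup.index_map_equiv _ (DistribMulAction.toAddEquiv W g)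

theorem mul_lt_pow_of_two_le {a m : ℕ} (ha : 4 ≤ a) (hm : 2 ≤ m) : m * a < a ^ m := by
  obtain ⟨k, rfl⟩ : ∃ k, m = k + 1 := ⟨m - 1, by omega⟩
  have hk : k + 1 < 4 ^ k := by
    clear ha
    induction k with
    | zero => omega
    | succ k ih =>
      rcases Nat.eq_zero_or_pos k with rfl | h
      · norm_num
      · have := ih (by omega)
        rw [pow_succ]
        omega
  calc (k + 1) * a < a ^ k * a := Nat.mul_lt_mul_of_pos_right
        (hk.trans_le (Nat.pow_le_pow_left ha k)) (by omega)
    _ = a ^ (k + 1) := by rw [pow_succ]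

variable {r : ℕ} {E : Fin r → Subgroup H}

/-- An elementary abelian subgroup with `|A| * |C_W(A)| ≥ |W|` lies in the product of the components. -/
theorem Base.le_iSup_of_mu (h : Base p T M W) (hr : 1 ≤ r) (hE : IsComponents E W)
    (htop : (⨆ i, E i) ⊔ (T : Subgroup H) = ⊤)
    (htype : ∀ i, IsSL2Comp p (E i) W ∨ (p = 2 ∧ IsSymComp (E i) W))
    (hperm : ∀ t ∈ (T : Subgroup H), ∀ i, ∃ j, MulAut.conj t • E i = E j)
    {A : Subgroup H} (hc : ∀ a ∈ A, ∀ b ∈ A, a * b = b * a) (hp : ∀ a ∈ A, a ^ p = 1)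
    (hμ : Nat.card W ≤ mu A W) : A ≤ ⨆ i, E i := by
  classical
  have hgood : ∀ i, IsGoodComp p (E i) W := fun i => isGoodComp (htype i)
  set P : Subgroup H := ⨆ i, E i with hP
  -- distinct components are different
  have hinjE : Function.Injective E := by
    intro i j e
    by_contra hne
    have h1 : moves (E i) W ≤ fixedSub (E i) := e ▸ hE.cross i j hne
    have h2 : (fixedSub (E i) : AddSubgroup W) = ⊤ := top_le_iff.1 (hE.split i ▸ sup_le h1 le_rfl)
    have h4 := (hgood i).1
    rw [h2, AddSubgroup.index_top] at h4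
    omega
  -- the permutation of the components
  let N : Subgroup H :=
    { carrier := {g | ∀ i, ∃ j, MulAut.conj g • E i = E j}
      one_mem' := fun i => ⟨i, by simp⟩
      mul_mem' := fun {a b} ha hb i => by
        obtain ⟨j, hj⟩ := hb i
        obtain ⟨k, hk⟩ := ha j
        exact ⟨k, by rw [← LLemma.conj_conj, hj, hk]⟩
      inv_mem' := fun {a} ha i => by
        choose f hf using ha
        have hfi : Function.Injective f := fun x y e => hinjE <| by
          have h1 : MulAut.conj a • E x = MulAut.conj a • E y := by rw [hf, hf, e]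
          simpa [LLemma.conj_conj] using congrArg (fun X : Subgroup H => MulAut.conj a⁻¹ • X) h1
        obtain ⟨j, hj⟩ := (Finite.injective_iff_surjective.1 hfi) i
        exact ⟨j, by rw [← hj, ← hf, LLemma.conj_conj, inv_mul_cancel, map_one, one_smul]⟩ }
  have hfixE : ∀ k, ∀ g ∈ E k, ∀ i, MulAut.conj g • E i = E i := by
    intro k g hg i
    rcases eq_or_ne k i with rfl | hki
    · exact LLemma.conj_eq_of_mem_normalizer (Subgroup.le_normalizer hg)
    · refine Subgroup.eq_of_le_of_card_ge ?_ (card_smul_subgroup _ _).ge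
      intro y hy
      obtain ⟨x, hx, rfl⟩ := (Subgroup.mem_smul_pointwise_iff_exists _ _ _).1 hy
      show g * x * g⁻¹ ∈ _
      rwa [hE.comm k i hki g hg x hx, mul_inv_cancel_right]
  have hN : ∀ g : H, g ∈ N := by
    intro g
    have hle : P ⊔ (T : Subgroup H) ≤ N := sup_le
      (iSup_le fun k x hx i => ⟨i, hfixE k x hx i⟩) fun t ht => hperm t ht
    exact hle (htop.symm ▸ Subgroup.mem_top g)
  choose π hπ using hN
  letI : MulAction H (Fin r) :=
    { smul := π
      one_smul := fun i => hinjE (by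
        show E (π 1 i) = E i
        rw [← hπ]
        simp)
      mul_smul := fun a b i => hinjE (by
        show E (π (a * b) i) = E (π a (π b i))
        rw [← hπ, ← hπ, ← hπ, LLemma.conj_conj]) }
  have hconjE : ∀ (g : H) (i : Fin r), MulAut.conj g • E i = E (g • i) := hπ
  have hPn : P.Normal := ⟨fun x hx g => by
    have h1 : P ≤ P.comap (MulAut.conj g).toMonoidHom := iSup_le fun i y hy =>
      le_iSup E (g • i) (hconjE g i ▸ LLemma.conj_mem_conj hy)
    exact h1 hx⟩
  have hZi : ∀ (g : H) (i : Fin r) (v : W), v ∈ fixedSub (E (g • i)) ↔ g⁻¹ • v ∈ fixedSub (E i) :=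
    fun g i v => by rw [← hconjE, mem_fixedSub_smul]
  set Z : AddSubgroup W := fixedSub P with hZ
  have hZmem : ∀ v, v ∈ Z ↔ ∀ i, v ∈ fixedSub (E i) := fun v =>
    ⟨fun hv i => fixedSub_anti (le_iSup E i) hv, fun hv g hg => MulAction.mem_stabilizer_iff.1
      ((iSup_le fun i x hx => MulAction.mem_stabilizer_iff.2 (hv i x hx) :
        P ≤ MulAction.stabilizer H v) hg)⟩
  have hZinv : ∀ (g : H), ∀ z ∈ Z, g • z ∈ Z := fun g z hz => (hZmem _).2 fun i => by
    have := hZi g (g⁻¹ • i) (g • z)
    rw [smul_inv_smul, inv_smul_smul] at this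
    exact this.2 ((hZmem z).1 hz _)
  -- the kernel of the action on `W / Z`
  set K : Subgroup H := trivOn Z with hK
  have hKn : K.Normal := ⟨fun k hk g => mem_trivOn.2 ⟨fun z hz => hZinv _ z hz, fun v => by
    rw [conj_sub]; exact hZinv g _ ((mem_trivOn.1 hk).2 _)⟩⟩
  have hKP : ∀ g ∈ P, g ∈ K → g = 1 := by
    intro g hgP hgK
    have hagree : ∀ i, ∃ e ∈ E i, ∀ v ∈ moves (E i) W, g • v = e • v := by
      intro i
      let Q : Subgroup H :=
        { carrier := {x | ∃ e ∈ E i, ∀ v ∈ moves (E i) W, x • v = e • v}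
          one_mem' := ⟨1, one_mem _, fun v _ => rfl⟩
          mul_mem' := fun {a b} ⟨e, he, hae⟩ ⟨e', he', hbe⟩ => ⟨e * e', mul_mem he he', fun v hv => by
            rw [mul_smul, hbe v hv, hae _ (smul_mem_moves_self he' hv), mul_smul]⟩
          inv_mem' := fun {a} ⟨e, he, hae⟩ => ⟨e⁻¹, inv_mem he, fun v hv => by
            rw [inv_smul_eq_iff, hae _ (smul_mem_moves_self (inv_mem he) hv), smul_inv_smul]⟩ }
      refine (iSup_le fun j x hx => ?_ : P ≤ Q) hgP
      rcases eq_or_ne i j with rfl | hij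
      · exact ⟨x, hx, fun v _ => rfl⟩
      · exact ⟨1, one_mem _, fun v hv => by rw [one_smul]; exact hE.cross i j hij hv x hx⟩
    have hfixm : ∀ i, ∀ v ∈ moves (E i) W, g • v = v := by
      intro i
      obtain ⟨e, he, hev⟩ := hagree i
      have he1 : e = 1 := (hgood i).2.1 e he fun v => by
        obtain ⟨m, hm, c, hc, rfl⟩ := AddSubgroup.mem_sup.1
          (show v ∈ moves (E i) W ⊔ fixedSub (E i) from hE.split i ▸ AddSubgroup.mem_top v)
        rw [smul_add, hc e he, add_sub_add_right_eq_sub, ← hev m hm]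
        exact (hZmem _).1 ((mem_trivOn.1 hgK).2 m) i
      exact fun v hv => by rw [hev v hv, he1, one_smul]
    refine h.faithful g fun v => ?_
    obtain ⟨c, hcZ, m, hm, rfl⟩ := AddSubgroup.mem_sup.1
      (show v ∈ fixedSub P ⊔ ⨆ i, moves (E i) W from hE.fix_sup_moves ▸ AddSubgroup.mem_top v)
    rw [smul_add, hcZ g hgP]
    congr 1
    induction hm using AddSubgroup.iSup_induction' with
    | hp i z hz => exact hfixm i z hz
    | h1 => exact smul_zero g
    | hadd a b _ _ ha hb => rw [smul_add, ha, hb]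
  have hcomm : ∀ g ∈ P, ∀ k ∈ K, g * k = k * g := by
    intro g hg k hk
    have h1 : g * k * g⁻¹ * k⁻¹ = 1 := hKP _
      (by rw [show g * k * g⁻¹ * k⁻¹ = g * (k * g⁻¹ * k⁻¹) by group]
          exact mul_mem hg (hPn.conj_mem _ (inv_mem hg) k))
      (mul_mem (hKn.conj_mem k hk g) (inv_mem hk))
    exact mul_inv_eq_iff_eq_mul.1 (mul_inv_eq_one.1 h1)
  have hKM : K ≤ M := by
    by_contra hne
    have htopK : K ⊔ (T : Subgroup H) = ⊤ := by
      by_contra hne'
      exact hne (le_sup_left.trans (h.le_M_of_sylow_le le_sup_right hne'))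
    haveI := hKn
    have hPp : IsPGroup p P := IsPGroup.iff_card.2
      ⟨(Nat.card P).primeFactorsList.length, Nat.eq_prime_pow_of_unique_prime_dvd Nat.card_pos.ne'
        fun {l} hl hdvd => by
        by_contra hlp
        haveI := Fact.mk hl
        obtain ⟨x, hx⟩ := exists_prime_orderOf_dvd_card' l hdvd
        have hnd : ¬ p ∣ orderOf (x : H) := by
          rw [Subgroup.orderOf_coe, hx]
          exact fun hd => hlp (((Nat.prime_dvd_prime_iff_eq Fact.out hl).1 hd).symm)
        have := hKP x x.2 (mem_of_sup_eq_top htopK hnd)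
        rw [← Subgroup.orderOf_coe, this, orderOf_one] at hx
        exact hl.ne_one hx.symm⟩
    have hP1 : P ≤ ⊥ := h.core ▸ le_pCore hPn hPp
    have h4 := (hgood ⟨0, hr⟩).1
    have hfx : (fixedSub (E ⟨0, hr⟩) : AddSubgroup W) = ⊤ := top_le_iff.1 fun v _ g hg => by
      rw [Subgroup.mem_bot.1 (hP1 (le_iSup E _ hg)), one_smul]
    rw [hfx, AddSubgroup.index_top] at h4
    omega
  have hK1 : ∀ k ∈ K, k ^ p = 1 → k = 1 := by
    intro k hk hkp
    by_contra hne
    exact h.not_dvd_card hKn hKM ((orderOf_eq_prime hkp hne) ▸ Subgroup.orderOf_dvd_natCard K hk)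
  -- orbits of `A`
  set Ω := MulAction.orbitRel.Quotient A (Fin r)
  haveI : Fintype Ω := Fintype.ofFinite Ω
  let rep : Ω → Fin r := fun O => Quotient.out O
  let S : Ω → Subgroup H := fun O => (MulAction.stabilizer A (rep O)).map A.subtype
  have hSA : ∀ O, S O ≤ A := fun O => Subgroup.map_subtype_le _
  have hSn : ∀ O, S O ≤ Subgroup.normalizer ((E (rep O) : Subgroup H) : Set H) := by
    rintro O _ ⟨a, ha, rfl⟩
    refine LLemma.mem_normalizer_of_conj_le ?_
    have h1 : (a : H) • rep O = rep O := MulAction.mem_stabilizer_iff.1 ha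
    show MulAut.conj (a : H) • E (rep O) ≤ E (rep O)
    rw [hconjE, h1]
  let C : Ω → AddSubgroup W := fun O =>
    modFix (S O) fun a ha _ hz => smul_mem_fixedSub_of_normalizer (hSn O ha) hz
  let x : Ω → ℕ := fun O => (trivOn (fixedSub (E (rep O)) : AddSubgroup W)).relIndex (S O)
  let c : Ω → ℕ := fun O => (fixedSub (E (rep O)) : AddSubgroup W).relIndex (C O)
  let q : Ω → ℕ := fun O => (fixedSub (E (rep O)) : AddSubgroup W).index
  let m : Ω → ℕ := fun O => (MulAction.stabilizer A (rep O)).index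
  have hcomp := fun O => (hgood (rep O)).2.2 (S O) (fun a ha b hb => hc a (hSA O ha) b (hSA O hb))
    (fun a ha => hp a (hSA O ha)) (hSn O)
  have hq4 : ∀ O, 4 ≤ q O := fun O => (hgood (rep O)).1
  have horb : ∀ i : Fin r, ∃ b : A, (b : H) • rep (Quotient.mk'' i : Ω) = i := fun i => by
    have h1 : MulAction.orbitRel A (Fin r) (rep (Quotient.mk'' i : Ω)) i :=
      Quotient.exact' (Quotient.out_eq' _)
    obtain ⟨b, hb⟩ := MulAction.orbitRel_apply.1 h1
    exact ⟨b⁻¹, by rw [← hb]; exact inv_smul_smul b i⟩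
  -- the order of `A`
  let KO : Ω → Subgroup A := fun O =>
    (trivOn (fixedSub (E (rep O)) : AddSubgroup W) ⊓ S O).subgroupOf A
  have hAcard : Nat.card A ≤ ∏ O, x O * m O := by
    have hindex : ∀ O, (KO O).index = x O * m O := fun O => by
      show (trivOn (fixedSub (E (rep O)) : AddSubgroup W) ⊓ S O).relIndex A = _
      rw [← Subgroup.relIndex_mul_relIndex _ (S O) A inf_le_right (hSA O), Subgroup.inf_relIndex_right]
      congr 1
      show ((S O).subgroupOf A).index = _
      rw [show (S O).subgroupOf A = MulAction.stabilizer A (rep O) from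
        Subgroup.comap_map_eq_self_of_injective A.subtype_injective _]
    simp only [← hindex, Subgroup.index_eq_card]
    rw [← Nat.card_pi]
    refine Nat.card_le_card_of_injective (fun a O => (QuotientGroup.mk a : A ⧸ KO O)) fun a b e => ?_
    have hab : ∀ O, a⁻¹ * b ∈ KO O := fun O => QuotientGroup.eq.1 (congrFun e O)
    set d := a⁻¹ * b with hd
    suffices (d : H) = 1 from inv_mul_eq_one.1 (Subtype.ext this)
    refine hK1 _ (mem_trivOn.2 ⟨fun z hz => hZinv _ z hz, fun v => (hZmem _).2 fun i => ?_⟩) (hp _ d.2)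
    obtain ⟨b', hb'⟩ := horb i
    have h1 := ((mem_trivOn.1 (Subgroup.mem_subgroupOf.1 (hab (Quotient.mk'' i))).1).2
      ((b' : H)⁻¹ • v))
    rw [← hb', hZi, smul_sub]
    rwa [smul_smul, ← hc _ d.2 _ (inv_mem b'.2), mul_smul]
  -- the fixed points of `A`
  have hCcard : Nat.card (fixedSub A : AddSubgroup W) ≤ Nat.card Z * ∏ O, c O := by
    have hmem : ∀ (v : (fixedSub A : AddSubgroup W)) O, (v : W) ∈ C O := fun v O a ha => by
      rw [v.2 a (hSA O ha), sub_self]; exact zero_mem _
    let f : (fixedSub A : AddSubgroup W) →+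
        ∀ O, C O ⧸ (fixedSub (E (rep O)) : AddSubgroup W).addSubgroupOf (C O) :=
      { toFun := fun v O => QuotientAddGroup.mk ⟨v, hmem v O⟩
        map_zero' := rfl
        map_add' := fun v w => rfl }
    rw [← AddSubgroup.card_mul_index f.ker, AddSubgroup.index_ker]
    refine Nat.mul_le_mul ?_ ?_
    · refine Nat.card_le_card_of_injective (fun v => (⟨(v : (fixedSub A : AddSubgroup W)),
        (hZmem _).2 fun i => ?_⟩ : Z)) fun a b e => Subtype.ext (Subtype.ext (congrArg Subtype.val e :))
      obtain ⟨b, hb⟩ := horb i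
      have h1 : (⟨((v : (fixedSub A : AddSubgroup W)) : W), hmem _ _⟩ : C (Quotient.mk'' i)) ∈
          (fixedSub (E (rep (Quotient.mk'' i : Ω))) : AddSubgroup W).addSubgroupOf _ :=
        (QuotientAddGroup.eq_zero_iff _).1 (congrFun (show f v = 0 from v.2) _)
      rw [← hb, hZi, (v : (fixedSub A : AddSubgroup W)).2 _ (inv_mem b.2)]
      exact h1
    · refine (Finite.card_subtype_le _).trans ?_
      rw [Nat.card_pi]
      exact le_of_eq (Finset.prod_congr rfl fun O _ => (AddSubgroup.index_eq_card _).symm)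
  -- the order of `W`
  have hWcard : Nat.card W = Nat.card Z * ∏ i, (fixedSub (E i) : AddSubgroup W).index := by
    let f : W →+ ∀ i, W ⧸ (fixedSub (E i) : AddSubgroup W) :=
      { toFun := fun v i => QuotientAddGroup.mk v
        map_zero' := rfl
        map_add' := fun v w => rfl }
    have hker : f.ker = Z := AddSubgroup.ext fun v => by
      rw [AddMonoidHom.mem_ker, hZmem]
      exact ⟨fun e i => (QuotientAddGroup.eq_zero_iff _).1 (congrFun e i),
        fun e => funext fun i => (QuotientAddGroup.eq_zero_iff _).2 (e i)⟩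
    have hsurj : Function.Surjective f := by
      intro y
      have h0 : ∀ i, ∃ m ∈ moves (E i) W, (QuotientAddGroup.mk m : W ⧸ fixedSub (E i)) = y i := by
        intro i
        obtain ⟨v, hv⟩ := QuotientAddGroup.mk_surjective (y i)
        obtain ⟨m, hm, c, hc', rfl⟩ := AddSubgroup.mem_sup.1
          (show v ∈ moves (E i) W ⊔ fixedSub (E i) from hE.split i ▸ AddSubgroup.mem_top v)
        exact ⟨m, hm, by rw [← hv, QuotientAddGroup.eq]; simpa using hc'⟩
      choose mv hmv hmy using h0
      refine ⟨∑ i, mv i, funext fun i => ?_⟩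
      rw [← hmy i]
      show (QuotientAddGroup.mk (∑ j, mv j) : W ⧸ fixedSub (E i)) = _
      refine QuotientAddGroup.eq.2 ?_
      rw [← Finset.add_sum_erase _ _ (Finset.mem_univ i), neg_add_rev, neg_add_cancel_right]
      refine neg_mem (AddSubgroup.sum_mem _ fun j hj => ?_)
      exact hE.cross j i (Finset.ne_of_mem_erase hj) (hmv j)
    rw [← AddSubgroup.card_mul_index f.ker, AddSubgroup.index_ker, AddMonoidHom.range_eq_top.2 hsurj,
      AddSubgroup.card_top, Nat.card_pi, hker]
    exact congrArg _ (Finset.prod_congr rfl fun i _ => (AddSubgroup.index_eq_card _).symm)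
  have hprod : ∏ i, (fixedSub (E i) : AddSubgroup W).index = ∏ O, q O ^ m O := by
    have e1 := Fintype.prod_equiv (MulAction.selfEquivSigmaOrbits A (Fin r)).symm
      (fun z => (fixedSub (E z.2.1) : AddSubgroup W).index)
      (fun i => (fixedSub (E i) : AddSubgroup W).index) (fun z => rfl)
    rw [← e1, Fintype.prod_sigma]
    refine Finset.prod_congr rfl fun O _ => ?_
    rw [Finset.prod_congr rfl (g := fun _ => q O) fun y _ => ?_, Finset.prod_const, Finset.card_univ,
      ← Nat.card_eq_fintype_card, Nat.card_coe_set_eq, ← MulAction.index_stabilizer]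
    obtain ⟨y, b, rfl⟩ := y
    show (fixedSub (E ((b : H) • rep O)) : AddSubgroup W).index = q O
    rw [← hconjE, index_fixedSub_smul]
  have hterm : ∀ O, x O * m O * c O ≤ q O ^ m O ∧
      (q O ^ m O ≤ x O * m O * c O → m O = 1 ∧ q O ≤ x O * c O) := by
    intro O
    have h1 : x O * m O * c O ≤ m O * q O := by
      rw [mul_comm (x O), mul_assoc]; exact Nat.mul_le_mul_left _ (hcomp O).1
    have hm0 : 1 ≤ m O := Nat.one_le_iff_ne_zero.2 Subgroup.index_ne_zero_of_finite
    rcases Nat.eq_or_lt_of_le hm0 with e | hm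
    · have e' : m O = 1 := e.symm
      rw [e', pow_one, mul_one]
      exact ⟨(hcomp O).1, fun h => ⟨rfl, h⟩⟩
    · have hlt := mul_lt_pow_of_two_le (hq4 O) hm
      exact ⟨(h1.trans_lt hlt).le, fun h => absurd (h.trans h1) (not_le.2 hlt)⟩
  have heq : ∀ O, q O ^ m O ≤ x O * m O * c O := by
    by_contra hne
    push Not at hne
    obtain ⟨O₀, hO₀⟩ := hne
    have hZpos : 0 < Nat.card Z := Nat.card_pos
    have h1 : Nat.card Z * ∏ O, q O ^ m O ≤ Nat.card Z * ∏ O, x O * m O * c O := by
      rw [← hprod, ← hWcard, Finset.prod_mul_distrib]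
      refine hμ.trans ?_
      rw [mu]
      refine (Nat.mul_le_mul hAcard hCcard).trans (le_of_eq ?_)
      ring
    refine absurd (Nat.le_of_mul_le_mul_left h1 hZpos) (not_le.2 ?_)
    refine Finset.prod_lt_prod (fun O _ => ?_) (fun O _ => (hterm O).1) ⟨O₀, Finset.mem_univ _, hO₀⟩
    refine Nat.mul_pos (Nat.mul_pos ?_ ?_) ?_
    · exact Nat.pos_of_ne_zero Subgroup.index_ne_zero_of_finite
    · exact Nat.pos_of_ne_zero Subgroup.index_ne_zero_of_finite
    · exact Nat.pos_of_ne_zero AddSubgroup.index_ne_zero_of_finite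
  -- each element agrees with an element of each component
  intro a ha
  have hcompa : ∀ i, ∃ e ∈ E i, ∀ v : W, a • v - e • v ∈ fixedSub (E i) := by
    intro i
    set O : Ω := Quotient.mk'' i
    obtain ⟨hm1, hqle⟩ := (hterm O).2 (heq O)
    have hstab : MulAction.stabilizer A (rep O) = ⊤ := Subgroup.index_eq_one.1 hm1
    obtain ⟨b, hb⟩ := horb i
    have hi : rep O = i := by
      have : b ∈ MulAction.stabilizer A (rep O) := hstab ▸ Subgroup.mem_top b
      exact (MulAction.mem_stabilizer_iff.1 this).symm.trans hb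
    have haS : a ∈ S O := ⟨⟨a, ha⟩, hstab ▸ Subgroup.mem_top _, rfl⟩
    obtain ⟨e, he, hev⟩ := (hcomp O).2 hqle a haS
    rw [hi] at he hev
    exact ⟨e, he, hev⟩
  have key : ∀ s : Finset (Fin r), ∃ g ∈ P, (∀ i ∈ s, ∀ v : W, a • v - g • v ∈ fixedSub (E i)) ∧
      ∀ j ∉ s, ∀ v : W, g • v - v ∈ fixedSub (E j) := by
    intro s
    induction s using Finset.induction_on with
    | empty => exact ⟨1, one_mem _, by simp, fun j _ v => by simp⟩
    | insert i s hi ih =>
      obtain ⟨g, hg, h1, h2⟩ := ih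
      obtain ⟨e, he, hev⟩ := hcompa i
      have hmod : ∀ j, j ≠ i → ∀ v : W, e • v - v ∈ fixedSub (E j) := fun j hj v =>
        hE.cross i j (Ne.symm hj) (sub_mem_moves he v)
      refine ⟨e * g, mul_mem (le_iSup E i he) hg, fun j hj v => ?_, fun j hj v => ?_⟩
      · rcases Finset.mem_insert.1 hj with rfl | hj
        · have h3 : e • (g • v) - e • v ∈ fixedSub (E j) := by
            rw [← smul_sub]
            exact smul_mem_fixedSub_of_normalizer (Subgroup.le_normalizer he) (h2 j hi v)
          have := sub_mem (hev v) h3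
          rwa [sub_sub_sub_cancel_right, ← mul_smul] at this
        · have := sub_mem (h1 j hj v) (hmod j (fun e' => hi (e' ▸ hj)) (g • v))
          rwa [sub_sub_sub_cancel_right, ← mul_smul] at this
      · rw [Finset.mem_insert, not_or] at hj
        have := add_mem (hmod j hj.1 (g • v)) (h2 j hj.2 v)
        rwa [sub_add_sub_cancel, ← mul_smul] at this
  obtain ⟨g, hg, hga, -⟩ := key Finset.univ
  have hk : g⁻¹ * a ∈ K := mem_trivOn.2 ⟨fun z hz => hZinv _ z hz, fun v => by
    have h1 := hZinv g⁻¹ _ ((hZmem _).2 fun i => hga i (Finset.mem_univ i) v)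
    rwa [smul_sub, inv_smul_smul, smul_smul] at h1⟩
  have hcg : Commute g (g⁻¹ * a) := hcomm g hg _ hk
  have hkp : (g⁻¹ * a) ^ p = 1 := by
    refine hKP _ ?_ (Subgroup.pow_mem _ hk p)
    have h1 : g ^ p * (g⁻¹ * a) ^ p = 1 := by
      rw [← hcg.mul_pow, mul_inv_cancel_left]; exact hp a ha
    rw [eq_inv_of_mul_eq_one_right h1]
    exact inv_mem (P.pow_mem hg p)
  rw [← inv_mul_eq_one.1 (hK1 _ hk hkp)]
  exact hg

end CfsgLib.FFModules.MinimalParabolic
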