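import Cfsg.Agent.Lib.FFModules.MinimalParabolic.Commuting

/-!
Minimal offenders of prime order: the commutators with the module are lines, and those of pairwise
commuting ones are independent.
-/

set_option autoImplicit false
set_option linter.style.haveILetI false
set_option linter.unusedSectionVars false

namespace CfsgLib.FFModules.MinimalParabolic

open SL2Pair
open scoped Pointwise

theorem exists_nsmul_of_mem_zmultiples {X : Type*} [AddGroup X] [Finite X] {x y : X}
    (h : x ∈ AddSubgroup.zmultiples y) : ∃ n : ℕ, n • y = x :=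
  (AddSubmonoid.mem_multiples_iff _ _).1
    ((isOfFinAddOrder_of_finite y).mem_multiples_iff_mem_zmultiples.2 h)

theorem mem_zmultiples_nsmul {X : Type*} [AddCommGroup X] [Finite X] {p : ℕ} [hp : Fact p.Prime]
    {v : X} (hv : p • v = 0) {n : ℕ} (hn : n • v ≠ 0) : v ∈ AddSubgroup.zmultiples (n • v) := by
  have hv0 : v ≠ 0 := fun e => hn (by rw [e, nsmul_zero])
  have hc : Nat.card (AddSubgroup.zmultiples v) = p := by
    rw [Nat.card_zmultiples, addOrderOf_eq_prime hv hv0]
  have h1 : (⟨n • v, AddSubgroup.nsmul_mem_zmultiples _ n⟩ : AddSubgroup.zmultiples v) ≠ 0 :=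
    fun e => hn (congrArg Subtype.val e)
  have h2 : (⟨v, AddSubgroup.mem_zmultiples v⟩ : AddSubgroup.zmultiples v) ∈
      AddSubgroup.zmultiples (⟨n • v, AddSubgroup.nsmul_mem_zmultiples _ n⟩ : AddSubgroup.zmultiples v) :=
    mem_zmultiples_of_prime_card hc h1
  obtain ⟨k, hk⟩ := AddSubgroup.mem_zmultiples_iff.1 h2
  exact AddSubgroup.mem_zmultiples_iff.2 ⟨k, by simpa using congrArg Subtype.val hk⟩

theorem card_sup_le {X : Type*} [AddCommGroup X] [Finite X] (P Q : AddSubgroup X) :
    Nat.card ↥(P ⊔ Q) ≤ Nat.card P * Nat.card Q :=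
  card_sup_mul P Q ▸ Nat.le_mul_of_pos_right _ Nat.card_pos

variable {H W : Type*} [Group H] [AddCommGroup W] [DistribMulAction H W]

theorem pow_smul_sub {p : ℕ} {B : Subgroup H} (hB : IsQuad p B W) {b : H} (hb : b ∈ B) (n : ℕ)
    (v : W) : b ^ n • v = v + n • (b • v - v) :=
  pow_smul_of_mem_seriesStab
    (mem_seriesStab.2 ⟨fun _ hw => hw b hb, hB.quad b hb⟩ : b ∈ seriesStab (H := H) (fixedSub B : AddSubgroup W))
    n v

variable [Finite H] [Finite W]
variable {p : ℕ} [Fact p.Prime] {T : Sylow p H} {M : Subgroup H}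

namespace Setting

variable (h : Setting p T M W) {B : Subgroup H}
include h

theorem exists_nsmul_add_mem (hB : IsMin p B W) (hc : Nat.card B = p) {y : W}
    (hy : y ∉ fixedSub B) (x : W) : ∃ n : ℕ, x + n • y ∈ fixedSub B := by
  have hq : Nat.card (W ⧸ (fixedSub B : AddSubgroup W)) = p := (h.index_fixedSub hB).trans hc
  have hy' : (QuotientAddGroup.mk' (fixedSub B : AddSubgroup W) y) ≠ 0 := fun e =>
    hy ((QuotientAddGroup.eq_zero_iff y).1 e)
  obtain ⟨n, hn⟩ := exists_nsmul_of_mem_zmultiples
    (mem_zmultiples_of_prime_card hq hy' (g' := -QuotientAddGroup.mk' (fixedSub B : AddSubgroup W) x))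
  refine ⟨n, (QuotientAddGroup.eq_zero_iff _).1 ?_⟩
  rw [← QuotientAddGroup.mk'_apply, map_add, map_nsmul, hn, add_neg_cancel]

theorem moves_le_zmultiples (hB : IsMin p B W) (hc : Nat.card B = p) {b : H} (hb : b ∈ B) {v : W}
    (hne : b • v - v ≠ 0) : moves B W ≤ AddSubgroup.zmultiples (b • v - v) := by
  have hv : v ∉ fixedSub B := fun hv => hne (by rw [hv b hb, sub_self])
  refine moves_le_iff.2 fun c hc' w => ?_
  have hb1 : (⟨b, hb⟩ : B) ≠ 1 := fun e => hne (by
    rw [show b = 1 from congrArg Subtype.val e, one_smul, sub_self])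
  obtain ⟨i, hi⟩ := Submonoid.mem_powers_iff _ _ |>.1
    ((isOfFinOrder_of_finite (⟨b, hb⟩ : B)).mem_powers_iff_mem_zpowers.2
      (mem_zpowers_of_prime_card hc hb1 (g' := ⟨c, hc'⟩)))
  have hci : c = b ^ i := (congrArg Subtype.val hi).symm
  obtain ⟨n, hn⟩ := h.exists_nsmul_add_mem hB hc hv w
  have h1 : c • (w + n • v) = w + n • v := hn c hc'
  rw [smul_add, smul_comm] at h1
  have h2 : c • w - w = -(n • (c • v - v)) := by
    rw [nsmul_sub, eq_neg_iff_add_eq_zero]
    rw [← sub_eq_zero] at h1
    rw [← h1]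
    abel
  rw [h2, hci, pow_smul_sub hB.toIsQuad hb i v, add_sub_cancel_left]
  exact neg_mem (nsmul_mem (AddSubgroup.nsmul_mem_zmultiples _ i) n)

theorem card_moves_le (hB : IsMin p B W) (hc : Nat.card B = p) : Nat.card (moves B W) ≤ p := by
  obtain ⟨b, hb, hb1⟩ : ∃ b ∈ B, b ≠ 1 := by
    by_contra hn
    push Not at hn
    exact hB.ne_bot ((Subgroup.eq_bot_iff_forall _).2 hn)
  obtain ⟨v, hv⟩ := h.exists_not_mem hB
  have hne : b • v - v ≠ 0 := fun e => hv (h.mem_fix hB hb hb1 (sub_eq_zero.1 e))
  refine (AddSubgroup.card_le_of_le (h.moves_le_zmultiples hB hc hb hne)).trans ?_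
  rw [Nat.card_zmultiples]
  exact Nat.le_of_dvd (Fact.out : p.Prime).pos (addOrderOf_dvd_of_nsmul_eq_zero (h.exponent _))

/-- The module moved by `s` members of prime order has at most `p ^ s` elements. -/
theorem card_sup_moves_le (s : Finset (Subgroup H)) (hs : ∀ X ∈ s, IsMin p X W ∧ Nat.card X = p) :
    Nat.card ↥(s.sup fun X => moves X W) ≤ p ^ s.card := by
  classical
  induction s using Finset.induction_on with
  | empty => simp [AddSubgroup.card_bot]
  | insert X t hX ih =>
    rw [Finset.sup_insert, Finset.card_insert_of_notMem hX, pow_succ']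
    exact (card_sup_le _ _).trans (Nat.mul_le_mul
      (h.card_moves_le (hs X (Finset.mem_insert_self X t)).1 (hs X (Finset.mem_insert_self X t)).2)
      (ih fun Y hY => hs Y (Finset.mem_insert_of_mem hY)))

end Setting

/-- Pairwise commuting minimal offenders of order `p`. -/
structure IsFamily (p : ℕ) (W : Type*) [AddCommGroup W] [DistribMulAction H W]
    (s : Finset (Subgroup H)) : Prop where
  isMin : ∀ X ∈ s, IsMin p X W ∧ Nat.card X = p
  comm : ∀ X ∈ s, ∀ Y ∈ s, ∀ x ∈ X, ∀ y ∈ Y, x * y = y * x

theorem IsFamily.mono {s t : Finset (Subgroup H)} (hs : IsFamily p W s) (hts : t ⊆ s) :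
    IsFamily p W t :=
  ⟨fun X hX => hs.isMin X (hts hX), fun X hX Y hY => hs.comm X (hts hX) Y (hts hY)⟩

namespace Setting

variable (h : Setting p T M W)
include h

theorem sup_le_seriesStab {s : Finset (Subgroup H)} (hs : IsFamily p W s) :
    s.sup id ≤ seriesStab (H := H) (s.sup fun X => moves X W) := by
  refine Finset.sup_le fun X hX x hx => mem_seriesStab.2 ⟨fun v hv => ?_, fun v =>
    Finset.le_sup (f := fun X => moves X W) hX (sub_mem_moves hx v)⟩
  have h1 : (s.sup fun X => moves X W) ≤ fixedSub X := Finset.sup_le fun Y hY =>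
    h.moves_le_of_comm (hs.isMin Y hY).1 (hs.isMin X hX).1
      ((hs.isMin Y hY).2.trans (hs.isMin X hX).2.symm) (hs.comm Y hY X hX)
  exact h1 hv x hx

theorem inf_moves_of_card {t : Finset (Subgroup H)} (hs : IsFamily p W t)
    (hcard : p ^ t.card ≤ Nat.card ↥(t.sup fun X => moves X W)) [DecidableEq (Subgroup H)]
    {X : Subgroup H} (hX : X ∈ t) :
    moves X W ⊓ (t.erase X).sup (fun Y => moves Y W) = ⊥ := by
  set P := moves X W
  set Q := (t.erase X).sup (fun Y => moves Y W)
  have e : (t.sup fun Y => moves Y W) = P ⊔ Q := by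
    conv_lhs => rw [← Finset.insert_erase hX, Finset.sup_insert]
  have h1 := card_sup_mul P Q
  rw [← e] at h1
  have h2 : Nat.card P * Nat.card Q ≤ p * p ^ (t.erase X).card := Nat.mul_le_mul
    (h.card_moves_le (hs.isMin X hX).1 (hs.isMin X hX).2)
    (h.card_sup_moves_le _ fun Y hY => hs.isMin Y (Finset.mem_of_mem_erase hY))
  rw [← pow_succ', Finset.card_erase_add_one hX] at h2
  rw [← h1] at h2
  have h3 : p ^ t.card * Nat.card ↥(P ⊓ Q) ≤ p ^ t.card :=
    (Nat.mul_le_mul_right _ hcard).trans h2
  have hpos : 0 < p ^ t.card := pow_pos (Fact.out : p.Prime).pos _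
  have h4 : Nat.card ↥(P ⊓ Q) ≤ 1 := Nat.le_of_mul_le_mul_left (by rw [mul_one]; exact h3) hpos
  exact AddSubgroup.card_eq_one.1 (le_antisymm h4 Nat.card_pos)

/-- The commutators of a family are independent. -/
theorem pow_card_le : ∀ s : Finset (Subgroup H), IsFamily p W s →
    p ^ s.card ≤ Nat.card ↥(s.sup fun X => moves X W) ∧
      p ^ s.card ≤ Nat.card ↥(s.sup id) := by
  classical
  intro s
  induction s using Finset.strongInduction with
  | H s ih =>
    intro hs
    by_cases h0 : s = ∅
    · subst h0; simp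
    obtain ⟨X, hX⟩ := Finset.nonempty_iff_ne_empty.2 h0
    set t := s.erase X with ht
    have hts : t ⊂ s := Finset.erase_ssubset hX
    obtain ⟨-, hU⟩ := ih t hts (hs.mono hts.1)
    have hXm := hs.isMin X hX
    have hdis : ∀ u : Finset (Subgroup H), u ⊆ t → ∀ a ∈ X, a ∈ u.sup id → a = 1 := by
      intro u
      induction u using Finset.strongInduction with
      | H u ihu =>
        intro hut a ha hau
        by_contra ha1
        rcases u.eq_empty_or_nonempty with rfl | ⟨Y, hY⟩
        · rw [Finset.sup_empty] at hau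
          exact ha1 (Subgroup.mem_bot.1 hau)
        have hus : u ⊂ s := lt_of_le_of_lt hut hts
        have hfu := hs.mono hus.1
        have hinf := h.inf_moves_of_card hfu (ih u hus hfu).1 hY
        set u' := u.erase Y with hu'
        have hYs : Y ∈ s := hus.1 hY
        have hXY : X ≠ Y := fun e => Finset.ne_of_mem_erase (hut hY) e.symm
        have e : u.sup id = Y ⊔ u'.sup id := by
          conv_lhs => rw [← Finset.insert_erase hY, Finset.sup_insert, id_eq]
        rw [e] at hau
        have hYn : Y ≤ Subgroup.normalizer ((u'.sup id : Subgroup H) : Set H) := fun y hy => by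
          have hcen : u'.sup id ≤ Subgroup.centralizer (Y : Set H) := Finset.sup_le fun Z hZ z hz =>
            Subgroup.mem_centralizer_iff.2 fun y hy =>
              hs.comm Y hYs Z (hus.1 (Finset.mem_of_mem_erase hZ)) y hy z hz
          refine Subgroup.centralizer_le_normalizer _ (Subgroup.mem_centralizer_iff.2 fun z hz => ?_)
          exact (Subgroup.mem_centralizer_iff.1 (hcen hz) y hy).symm
        have hau' : a ∈ ((Y ⊔ u'.sup id : Subgroup H) : Set H) := hau
        rw [Subgroup.coe_mul_of_left_le_normalizer_right Y _ hYn] at hau'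
        obtain ⟨y, hy, z, hz, rfl⟩ := hau'
        have hfu' := hfu.mono (Finset.erase_subset Y u)
        have hy1 : y = 1 := by
          by_contra hy1
          obtain ⟨v, hvX, hvY⟩ : ∃ v : W, v ∈ fixedSub X ∧ v ∉ fixedSub Y := by
            by_contra hn
            push Not at hn
            refine hXY (h.eq_of_fixedSub_eq hXm.1 (hs.isMin Y hYs).1
              (AddSubgroup.eq_of_le_of_card_ge hn ?_))
            have e1 := h.card_eq hXm.1
            have e2 := h.card_eq (hs.isMin Y hYs).1
            rw [hXm.2] at e1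
            rw [(hs.isMin Y hYs).2] at e2
            exact (Nat.eq_of_mul_eq_mul_left (Fact.out : p.Prime).pos (e2.trans e1.symm)).le
          refine hvY (h.mem_fix (hs.isMin Y hYs).1 hy hy1 (sub_eq_zero.1 ?_))
          have hz' := h.sup_le_seriesStab hfu' hz
          have hY' : moves Y W ≤ fixedSub Y := moves_le_fixedSub (hs.isMin Y hYs).1.toIsQuad
          have hzv : y • (z • v - v) = z • v - v := by
            have h1 : (u'.sup fun Z => moves Z W) ≤ fixedSub Y := Finset.sup_le fun Z hZ =>
              h.moves_le_of_comm (hfu'.isMin Z hZ).1 (hs.isMin Y hYs).1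
                ((hfu'.isMin Z hZ).2.trans (hs.isMin Y hYs).2.symm)
                (hs.comm Z (hus.1 (Finset.mem_of_mem_erase hZ)) Y hYs)
            exact h1 ((mem_seriesStab.1 hz').2 v) y hy
          have h2 := sub_mul_of_fix (a := y) (b := z) hzv
          rw [hvX (y * z) ha, sub_self] at h2
          have h3 : y • v - v ∈ moves Y W ⊓ (u'.sup fun Z => moves Z W) := by
            refine AddSubgroup.mem_inf.2 ⟨sub_mem_moves hy v, ?_⟩
            rw [eq_neg_of_add_eq_zero_left h2.symm]
            exact neg_mem ((mem_seriesStab.1 hz').2 v)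
          rw [hinf] at h3
          exact AddSubgroup.mem_bot.1 h3
        subst hy1
        simp only [one_mul] at ha ha1
        exact ha1 (ihu u' (Finset.erase_ssubset hY) ((Finset.erase_subset Y u).trans hut) z ha hz)
    have e : s.sup id = X ⊔ t.sup id := by
      conv_lhs => rw [← Finset.insert_erase hX, Finset.sup_insert, id_eq]
    have h1 : p ^ s.card ≤ Nat.card ↥(s.sup id) := by
      rw [← Finset.card_erase_add_one hX, pow_succ, ← ht]
      refine (Nat.mul_le_mul hU hXm.2.ge).trans ?_
      rw [← Nat.card_prod]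
      refine Nat.card_le_card_of_injective
        (fun x => (⟨(x.1 : H) * x.2, (s.sup id).mul_mem (e ▸ Subgroup.mem_sup_right x.1.2)
          (e ▸ Subgroup.mem_sup_left x.2.2)⟩ : ↥(s.sup id))) ?_
      rintro ⟨u, x⟩ ⟨u', x'⟩ exy
      have e' : (u : H) * x = u' * x' := congrArg Subtype.val exy
      have h2 : (u' : H)⁻¹ * u = (x' : H) * (x : H)⁻¹ := by
        rw [inv_mul_eq_iff_eq_mul, ← mul_assoc, ← e', mul_inv_cancel_right]
      have h3 := hdis t le_rfl _ (X.mul_mem x'.2 (X.inv_mem x.2))
        (h2 ▸ (t.sup id).mul_mem ((t.sup id).inv_mem u'.2) u.2)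
      rw [mul_inv_eq_one] at h3
      rw [h3, mul_left_inj] at e'
      exact Prod.ext (Subtype.ext e') (Subtype.ext h3.symm)
    refine ⟨h1.trans (h.card_le_image ((h.isQuad_seriesStab _).mono (h.sup_le_seriesStab hs))
      fun g hg v => (mem_seriesStab.1 (h.sup_le_seriesStab hs hg)).2 v), h1⟩

/-- A commutator of one member is not a sum of commutators of the others. -/
theorem inf_moves_eq_bot {s : Finset (Subgroup H)} [DecidableEq (Subgroup H)] (hs : IsFamily p W s)
    {X : Subgroup H} (hX : X ∈ s) : moves X W ⊓ (s.erase X).sup (fun Y => moves Y W) = ⊥ :=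
  h.inf_moves_of_card hs (h.pow_card_le s hs).1 hX

end Setting

end CfsgLib.FFModules.MinimalParabolic
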