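import Cfsg.Agent.Lib.FFModules.MinimalParabolic.Setting
import Cfsg.Agent.Lib.FFModules.CoreBasic

/-!
The recognition of `SL₂` inside a `p`-minimal group with an offender: the L-lemma gives a subgroup
`L` and `L` induces `SL₂` on the fixed points of `O_p(L)`.
-/

set_option autoImplicit false
set_option linter.style.haveILetI false

namespace CfsgLib.FFModules.MinimalParabolic

open SL2Pair
open scoped Pointwise MatrixGroups

variable {H W : Type*} [Group H] [Finite H] [AddCommGroup W] [Finite W] [DistribMulAction H W]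
variable {p : ℕ} [Fact p.Prime] {T : Sylow p H} {M : Subgroup H}

/-- What the L-lemma and the recognition theorem give for a best offender `A`. -/
structure RecData (A : Subgroup H) (W : Type*) [AddCommGroup W] [DistribMulAction H W]
    (F : Type) [Field F] where
  L : Subgroup H
  x : H
  W' : AddSubgroup W
  ρ : L →* SL(2, F)
  ψ : W' →+ (Fin 2 → F)
  le : A ≤ L
  x_mem : x ∈ L
  stable : ∀ g ∈ L, ∀ v ∈ W', g • v ∈ W'
  surj : Function.Surjective ψ
  surjρ : Function.Surjective ρ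
  ker : ∀ v : W', ψ v = 0 ↔ ∀ g ∈ L, g • (v : W) = v
  kerρ : ∀ g : L, ρ g = 1 ↔ ∀ v ∈ W', (g : H) • v = v
  equiv : ∀ (g : L) (v : W),
    ∀ hv : v ∈ W', ψ ⟨(g : H) • v, stable g g.2 v hv⟩ =
      ((ρ g : SL(2, F)) : Matrix (Fin 2) (Fin 2) F).mulVec (ψ ⟨v, hv⟩)
  generated : ∀ g : L, ∃ e : L, (e : H) ∈ A ⊔ MulAut.conj x • A ∧ ρ g = ρ e
  card : Nat.card F * Nat.card ↥(A ⊓ (ρ.ker.map L.subtype)) = Nat.card A
  index : Nat.card W' = Nat.card F * Nat.card ↥(W' ⊓ fixedSub A)
  span : ∀ S : AddSubgroup W, (∀ v ∈ W', (∀ g ∈ L, g • v = v) → v ∈ S) →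
    (∀ a ∈ A, ∀ v : W, a • v - v ∈ S) → W' ⊓ fixedSub A ≤ S

theorem card_sup_mul {G : Type*} [AddCommGroup G] [Finite G] (X Y : AddSubgroup G) :
    Nat.card ↥(X ⊔ Y) * Nat.card ↥(X ⊓ Y) = Nat.card X * Nat.card Y := by
  have h1 := AddSubgroup.relIndex_mul_relIndex ⊥ Y (X ⊔ Y) bot_le le_sup_right
  have h2 := AddSubgroup.relIndex_mul_relIndex ⊥ (X ⊓ Y) X bot_le inf_le_left
  rw [AddSubgroup.relIndex_bot_left, AddSubgroup.relIndex_bot_left, AddSubgroup.relIndex_sup_right] at h1
  rw [AddSubgroup.relIndex_bot_left, AddSubgroup.relIndex_bot_left, AddSubgroup.inf_relIndex_left] at h2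
  rw [← h1, ← h2]
  ring

theorem exists_recData (h : Setting p T M W) {A : Subgroup H} (hA : IsQuad p A W) (hne : A ≠ ⊥)
    (hbest : ∀ B ≤ A, mu B W ≤ mu A W) :
    ∃ (F : Type) (_ : Field F) (_ : Fintype F) (R : RecData A W F) (g : H),
      A ≤ MulAut.conj g • (T : Subgroup H) ∧
        ¬ A ⊔ MulAut.conj R.x • A ≤ MulAut.conj g • M := by
  classical
  -- move `A` into `T`
  obtain ⟨T', hT'⟩ := hA.isPGroup.exists_le_sylow
  obtain ⟨g₀, rfl⟩ := MulAction.exists_smul_eq H T T'
  obtain ⟨M₁, hM₁⟩ : ∃ M₁, M₁ = MulAut.conj g₀ • M := ⟨_, rfl⟩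
  have h₁ : Setting p (g₀ • T) M₁ W := hM₁ ▸ h.conj g₀
  clear h
  obtain ⟨D, M', hP⟩ := LLemma.exists_pivot (g₀ • T) h₁.isMinimalOver M₁ ⟨h₁.coatom, h₁.sylow_le⟩ A
    hT' (by rw [h₁.core, le_bot_iff]; exact hne)
  obtain ⟨a, rfl⟩ := hP.conj
  obtain ⟨L, ⟨hDL, hLN, hLM⟩, hLmin⟩ := Set.Finite.exists_minimal
    (s := {L : Subgroup H | D ⊔ A ≤ L ∧ L ≤ Subgroup.normalizer (D : Set H) ∧
      ¬ L ≤ MulAut.conj a • M₁}) (Set.toFinite _)
    ⟨_, sup_le Subgroup.le_normalizer hP.le_normalizer, le_rfl, hP.not_le⟩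
  set Q := Cfsg.pCoreOf p L with hQ
  have hAL : A ≤ L := le_sup_right.trans hDL
  have hDQ : D ≤ Q := le_pCoreOf (le_sup_left.trans hDL) hLN hP.isPGroup
  have hQL : Q ≤ L := pCoreOf_le L
  -- a Sylow subgroup of `L` over `A Q` inside a conjugate of `T` in `M'`
  have hAQ : IsPGroup p ↥(A ⊔ Q) := hA.isPGroup.to_sup_of_normal_right' (isPGroup_pCoreOf L)
    (hAL.trans (le_normalizer_pCoreOf L))
  obtain ⟨SL, hSL⟩ := ((isPGroup_subgroupOf (sup_le hAL hQL)).2 hAQ).exists_le_sylow
  obtain ⟨T'', hT''⟩ := (SL.2.map L.subtype).exists_le_sylow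
  obtain ⟨b, rfl⟩ := MulAction.exists_smul_eq H (g₀ • T) T''
  have hAQT : A ⊔ Q ≤ ((b • (g₀ • T) : Sylow p H) : Subgroup H) :=
    (Subgroup.map_subgroupOf_eq_of_le (sup_le hAL hQL)).ge.trans ((Subgroup.map_mono hSL).trans hT'')
  have hbM : MulAut.conj b • M₁ = MulAut.conj a • M₁ :=
    hP.unique b ((sup_le (hDQ.trans le_sup_right) le_sup_left).trans
      (hAQT.trans (h₁.conj b).sylow_le))
  have h₂ : Setting p (b • (g₀ • T)) (MulAut.conj a • M₁) W := hbM ▸ h₁.conj b
  have hg₁ : MulAut.conj a • M₁ = MulAut.conj (b * g₀) • M := by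
    rw [← hbM, hM₁, LLemma.conj_conj]
  have hg₂ : ((b • (g₀ • T) : Sylow p H) : Subgroup H) = MulAut.conj (b * g₀) • (T : Subgroup H) := by
    rw [Sylow.coe_subgroup_smul, Sylow.coe_subgroup_smul, LLemma.conj_conj]
  obtain ⟨M', hM'⟩ : ∃ M', M' = MulAut.conj a • M₁ := ⟨_, rfl⟩
  rw [← hM'] at hLM hLmin hP h₂ hg₁
  clear hbM hM' hM₁
  obtain ⟨T₂, hT₂⟩ : ∃ T₂, T₂ = b • (g₀ • T) := ⟨_, rfl⟩
  rw [← hT₂] at hT'' hAQT h₂ hg₂
  clear hT₂ h₁ hT'
  -- overgroups of `A Q` in `L`
  have hover : ∀ X : Subgroup H, A ⊔ Q ≤ X → X ≤ L → ¬ X ≤ M' → X = L := fun X hX hXL hXM =>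
    le_antisymm hXL (hLmin ⟨sup_le (hDQ.trans (le_sup_right.trans hX)) (le_sup_left.trans hX),
      hXL.trans hLN, hXM⟩ hXL)
  have hAQM : A ⊔ Q ≤ M' := hAQT.trans h₂.sylow_le
  obtain ⟨y, hyL, hyM⟩ := SetLike.not_le_iff_exists.1 hLM
  -- the module
  let W' : AddSubgroup W := fixedSub Q
  have hstable : ∀ g ∈ L, ∀ v ∈ W', g • v ∈ W' := fun g hg v hv q hq => by
    have h1 := hv (g⁻¹ * q * g) (by
      simpa using (Subgroup.mem_normalizer_iff.1 (le_normalizer_pCoreOf L (L.inv_mem hg)) q).1 hq)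
    rw [mul_smul, mul_smul, inv_smul_eq_iff] at h1
    exact h1
  letI : DistribMulAction L W' :=
    { smul := fun g v => ⟨(g : H) • (v : W), hstable g g.2 v v.2⟩
      one_smul := fun v => Subtype.ext (one_smul H (v : W))
      mul_smul := fun g k v => Subtype.ext (mul_smul (g : H) (k : H) (v : W))
      smul_zero := fun g => Subtype.ext (smul_zero (g : H))
      smul_add := fun g v w => Subtype.ext (smul_add (g : H) (v : W) (w : W)) }
  let f := (MulAction.toPermHom L W').rangeRestrict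
  have hfs : Function.Surjective f := MonoidHom.rangeRestrict_surjective _
  letI : DistribMulAction (MulAction.toPermHom L W').range W' :=
    { smul := fun g v => (g : Equiv.Perm W') v
      one_smul := fun _ => rfl
      mul_smul := fun _ _ _ => rfl
      smul_zero := fun g => by obtain ⟨_, k, rfl⟩ := g; exact smul_zero k
      smul_add := fun g v w => by obtain ⟨_, k, rfl⟩ := g; exact smul_add k v w }
  have hf : ∀ (g : L) (v : W'), (f g • v : W') = g • v := fun _ _ => rfl
  have hfker : ∀ g : L, f g = 1 ↔ ∀ v ∈ W', (g : H) • v = v := by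
    refine fun g => ⟨fun e v hv => congrArg Subtype.val (?_ : g • (⟨v, hv⟩ : W') = ⟨v, hv⟩),
      fun e => Subtype.ext (Equiv.ext fun v => Subtype.ext (e v v.2))⟩
    rw [← hf, e, one_smul]
  have hmoved : ∀ g : L, (g : H) ∉ M' → ∃ v : W', (∀ t ∈ (SL : Subgroup L), t • v = v) ∧ g • v ≠ v := by
    intro g hg
    obtain ⟨v, hv, hne⟩ := h₂.moved _ hg
    have hvW : v ∈ W' := fixedSub_anti (le_sup_right.trans hAQT) hv
    exact ⟨⟨v, hvW⟩, fun t ht => Subtype.ext (hv t (hT'' ⟨t, ht, rfl⟩)),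
      fun e => hne (congrArg Subtype.val e)⟩
  -- normal subgroups of `L` whose image is a `p`-group lie in `M'`
  let L₀ : Subgroup L := M'.subgroupOf L
  have hSL₀ : (SL : Subgroup L) ≤ L₀ := fun t ht => h₂.sylow_le (hT'' ⟨t, ht, rfl⟩)
  have hsupeq : ∀ X : Subgroup L, (A ⊔ Q).subgroupOf L ≤ X → ¬ X ≤ L₀ → X = ⊤ := by
    intro X hX hXM
    have h1 : X.map L.subtype = L := hover _
      ((Subgroup.map_subgroupOf_eq_of_le (sup_le hAL hQL)).ge.trans (Subgroup.map_mono hX))
      (Subgroup.map_subtype_le X) (fun hle => hXM fun g hg => hle ⟨g, hg, rfl⟩)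
    refine top_le_iff.1 fun g _ => ?_
    obtain ⟨g', hg', e⟩ := h1.ge g.2
    exact (Subtype.ext e : g' = g) ▸ hg'
  have hnotp : ¬ IsPGroup p (MulAction.toPermHom L W').range := by
    intro hp'
    have htop : (SL.mapSurjective hfs : Subgroup (MulAction.toPermHom L W').range) = ⊤ :=
      (SL.mapSurjective hfs).3 (IsPGroup.to_subgroup hp' ⊤) le_top |>.symm
    obtain ⟨v, hv, hvy⟩ := hmoved ⟨y, hyL⟩ hyM
    have : f ⟨y, hyL⟩ ∈ (SL : Subgroup L).map f := by
      rw [← Sylow.coe_mapSurjective hfs, htop]; exact Subgroup.mem_top _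
    obtain ⟨t, ht, e⟩ := this
    exact hvy (by rw [← hf, ← e, hf]; exact hv t ht)
  have hsmall : ∀ N : Subgroup L, N.Normal → IsPGroup p ↥(N.map f) → N ≤ L₀ := by
    intro N hN hNp
    by_contra hle
    refine hnotp ?_
    have htop := hsupeq (N ⊔ (A ⊔ Q).subgroupOf L) le_sup_right fun e => hle (le_sup_left.trans e)
    have htop' := congrArg (Subgroup.map f) htop
    rw [Subgroup.map_sup, Subgroup.map_top_of_surjective f hfs] at htop'
    haveI : (N.map f).Normal := hN.map f hfs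
    have h1 : IsPGroup p (⊤ : Subgroup (MulAction.toPermHom L W').range) :=
      htop' ▸ hNp.to_sup_of_normal_left (((isPGroup_subgroupOf (sup_le hAL hQL)).2 hAQ).map f)
    exact h1.of_equiv Subgroup.topEquiv
  have hker₀ : f.ker ≤ L₀ :=
    hsmall _ inferInstance (by rw [(Subgroup.map_eq_bot_iff _).2 le_rfl]; exact IsPGroup.of_bot)
  have hcomap : (L₀.map f).comap f = L₀ := Subgroup.comap_map_eq_self hker₀
  have hL₀top : L₀.map f ≠ ⊤ := fun e => hyM (show (⟨y, hyL⟩ : L) ∈ L₀ by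
    rw [← hcomap, e]; exact Subgroup.mem_top _)
  have hoverf : ∀ X : Subgroup (MulAction.toPermHom L W').range,
      ((A ⊔ Q).subgroupOf L).map f ≤ X → ¬ X ≤ L₀.map f → X = ⊤ := by
    intro X hX hXM
    rw [← Subgroup.map_comap_eq_self_of_surjective hfs X,
      hsupeq (X.comap f) (Subgroup.map_le_iff_le_comap.1 hX) fun e => hXM ?_,
      Subgroup.map_top_of_surjective f hfs]
    rw [← Subgroup.map_comap_eq_self_of_surjective hfs X]
    exact Subgroup.map_mono e
  -- `O_p` of the image is trivial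
  have hcoreimg : Cfsg.pCore p (MulAction.toPermHom L W').range = ⊥ := by
    have hnc := pCore_spec (G := (MulAction.toPermHom L W').range) (p := p)
    set N := (Cfsg.pCore p (MulAction.toPermHom L W').range).comap f with hNdef
    haveI hNn : N.Normal := hnc.1.comap f
    have hNmap : N.map f = Cfsg.pCore p (MulAction.toPermHom L W').range :=
      Subgroup.map_comap_eq_self_of_surjective hfs _
    have hNle : N ≤ L₀ := hsmall N hNn (hNmap ▸ hnc.2)
    let P₀ := (SL : Subgroup L) ⊓ N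
    have hP₀p : IsPGroup p ↥(P₀.subgroupOf N) := (SL.2.to_le inf_le_left).comap_subtype
    have hidx : ¬ p ∣ (P₀.subgroupOf N).index := by
      have e : (P₀.subgroupOf N).index = (SL : Subgroup L).relIndex N :=
        Subgroup.inf_relIndex_right _ _
      rw [e]
      refine ((Nat.Prime.coprime_iff_not_dvd Fact.out).1 (Nat.Coprime.symm ?_))
      refine coprime_relIndex_of_le_normalizer (L := ⊤) ?_ le_top le_top
        (by rw [Subgroup.normalizer_eq_top_iff.2 hNn]; exact le_top)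
      rw [Subgroup.relIndex_top_right]
      exact ((Nat.Prime.coprime_iff_not_dvd Fact.out).2 SL.not_dvd_index).symm
    let P := hP₀p.toSylow hidx
    have hPmap : (P : Subgroup N).map N.subtype = P₀ :=
      Subgroup.map_subgroupOf_eq_of_le inf_le_right
    have hfr := Sylow.normalizer_sup_eq_top P
    rw [hPmap] at hfr
    have hP₀n : P₀.Normal := by
      rw [← Subgroup.normalizer_eq_top_iff]
      by_contra hne'
      have hSN : (SL : Subgroup L) ≤ Subgroup.normalizer (P₀ : Set L) :=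
        by
          intro t ht
          refine LLemma.mem_normalizer_of_conj_le (le_inf ?_ ?_)
          · exact (Subgroup.pointwise_smul_le_pointwise_smul_iff.2 inf_le_left).trans
              (LLemma.conj_eq_of_mem_normalizer (Subgroup.le_normalizer ht)).le
          · exact (Subgroup.pointwise_smul_le_pointwise_smul_iff.2 inf_le_right).trans
              (LLemma.conj_eq_of_mem_normalizer
                (by rw [Subgroup.normalizer_eq_top_iff.2 hNn]; exact Subgroup.mem_top t)).le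
      refine hne' (hsupeq _ (hSL.trans hSN) fun hle => ?_)
      exact hyM ((hfr ▸ sup_le hle hNle : (⊤ : Subgroup L) ≤ L₀) (Subgroup.mem_top ⟨y, hyL⟩))
    have hP₀core : P₀ ≤ Cfsg.pCore p L := le_pCore hP₀n (SL.2.to_le inf_le_left)
    have hbot : P₀.map f = ⊥ := by
      rw [Subgroup.map_eq_bot_iff]
      intro q hq
      exact (hfker q).2 fun v hv => hv q (Subgroup.mem_map_of_mem L.subtype (hP₀core hq))
    rw [← hNmap]
    obtain ⟨k, hk⟩ := IsPGroup.iff_card.1 (show IsPGroup p ↥(N.map f) from hNmap ▸ hnc.2)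
    refine Subgroup.card_eq_one.1 ?_
    have hd : Nat.card (N.map f) ∣ (P₀.subgroupOf N).index := by
      have h1 : (P₀.map f).relIndex (N.map f) ∣ P₀.relIndex N := by
        rw [Subgroup.relIndex_map_map]
        exact Subgroup.relIndex_dvd_of_le_left _ le_sup_left |>.trans
          (by rw [sup_of_le_left (show f.ker ≤ N from fun q hq => by
            rw [hNdef, Subgroup.mem_comap, MonoidHom.mem_ker.1 hq]; exact one_mem _)])
      rwa [hbot, Subgroup.relIndex_bot_left] at h1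
    rcases Nat.eq_zero_or_pos k with rfl | hk0
    · simpa using hk
    · exact absurd ((dvd_pow_self p hk0.ne').trans (hk ▸ hd)) hidx
  -- the recognition
  let Ā : Subgroup (MulAction.toPermHom L W').range := (A.subgroupOf L).map f
  have hĀT : Ā ≤ (SL.mapSurjective hfs : Subgroup (MulAction.toPermHom L W').range) := by
    rw [Sylow.coe_mapSurjective]
    exact Subgroup.map_mono ((Subgroup.comap_mono le_sup_left).trans hSL)
  have hfixĀ : ∀ v : W', v ∈ fixedSub Ā ↔ (v : W) ∈ fixedSub A := by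
    refine fun v => ⟨fun hv c hc => ?_, fun hv => ?_⟩
    · exact congrArg Subtype.val (hv (f ⟨c, hAL hc⟩) (Subgroup.mem_map_of_mem f hc))
    · rintro _ ⟨c, hc, rfl⟩
      exact Subtype.ext (hv c hc)
  set A₀ : Subgroup H := A ⊓ f.ker.map L.subtype with hA₀
  have hcardA : Nat.card Ā * Nat.card A₀ = Nat.card A := by
    have e1 := Subgroup.card_eq_card_quotient_mul_card_subgroup (f.ker.subgroupOf (A.subgroupOf L))
    have e2 : Nat.card (A.subgroupOf L) = Nat.card A :=
      Nat.card_congr (Subgroup.subgroupOfEquivOfLe hAL).toEquiv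
    have e3 : Nat.card (f.ker.subgroupOf (A.subgroupOf L)) = Nat.card A₀ := by
      refine Nat.card_congr
        { toFun := fun g => ⟨((g : A.subgroupOf L) : L), g.1.2, ⟨_, g.2, rfl⟩⟩
          invFun := fun g => ⟨⟨⟨g, hAL g.2.1⟩, g.2.1⟩, by
            obtain ⟨q, hq, e⟩ := g.2.2
            exact (Subtype.ext e : q = ⟨g, hAL g.2.1⟩) ▸ hq⟩
          left_inv := fun g => rfl
          right_inv := fun g => rfl }
    have e4 : Nat.card ((A.subgroupOf L) ⧸ f.ker.subgroupOf (A.subgroupOf L)) = Nat.card Ā := by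
      have := QuotientGroup.quotientKerEquivRange (f.comp (A.subgroupOf L).subtype)
      rw [MonoidHom.range_comp, Subgroup.range_subtype] at this
      exact Nat.card_congr this.toEquiv
    rw [← e2, e1, e3, e4]
  have hcardfix : Nat.card (fixedSub Ā : AddSubgroup W') = Nat.card ↥(W' ⊓ fixedSub A) :=
    Nat.card_congr
      { toFun := fun v => ⟨((v : W') : W), v.1.2, (hfixĀ _).1 v.2⟩
        invFun := fun v => ⟨⟨v, v.2.1⟩, (hfixĀ _).2 v.2.2⟩
        left_inv := fun v => rfl
        right_inv := fun v => rfl }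
  have hoff : Nat.card W' ≤ Nat.card Ā * Nat.card (fixedSub Ā : AddSubgroup W') := by
    have hsub : fixedSub A ⊔ W' ≤ fixedSub A₀ := by
      refine sup_le (fixedSub_anti inf_le_left) fun v hv c hc => ?_
      obtain ⟨q, hq, rfl⟩ := hc.2
      exact (hfker q).1 hq v hv
    have h1 := AddSubgroup.card_le_of_le hsub
    have h2 := card_sup_mul (fixedSub A) W'
    have h3 := hbest A₀ inf_le_left
    rw [mu, mu, ← hcardA] at h3
    rw [hcardfix, inf_comm]
    have hA₀pos : 0 < Nat.card A₀ := Nat.card_pos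
    have hCpos : 0 < Nat.card (fixedSub A : AddSubgroup W) := Nat.card_pos
    have h4 : Nat.card (fixedSub A : AddSubgroup W) * Nat.card W' ≤
        Nat.card Ā * Nat.card (fixedSub A : AddSubgroup W) * Nat.card ↥(fixedSub A ⊓ W') := by
      rw [← h2]
      refine Nat.mul_le_mul_right _ (h1.trans ?_)
      refine Nat.le_of_mul_le_mul_left (le_of_le_of_eq h3 ?_) hA₀pos
      ring
    refine Nat.le_of_mul_le_mul_left ?_ hCpos
    calc _ ≤ _ := h4
      _ = _ := by ring
  have hgen : ∀ z : L, (z : H) ∉ M' → A ⊔ MulAut.conj (z : H) • A ⊔ Q = L := by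
    intro z hz
    refine hover _ (sup_le (le_sup_left.trans le_sup_left) le_sup_right)
      (sup_le (sup_le hAL ?_) hQL) fun hle => ?_
    · exact (Subgroup.pointwise_smul_le_pointwise_smul_iff.2 hAL).trans
        (LLemma.conj_eq_of_mem_normalizer (Subgroup.le_normalizer z.2)).le
    · have h1 : MulAut.conj (z : H) • (D ⊔ A) ≤ M' := by
        rw [Subgroup.smul_sup, LLemma.conj_eq_of_mem_normalizer (hLN z.2)]
        exact sup_le (hDQ.trans (le_sup_right.trans hle))
          (le_sup_right.trans (le_sup_left.trans hle))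
      have h2 : D ⊔ A ≤ MulAut.conj (z : H)⁻¹ • M' := by
        rw [map_inv]; exact Subgroup.pointwise_smul_subset_iff.1 h1
      obtain ⟨c, hc⟩ := hP.conj
      have h3 := hP.unique ((z : H)⁻¹ * c) (by rwa [← LLemma.conj_conj, ← hc])
      rw [← LLemma.conj_conj, ← hc] at h3
      have h4 := LLemma.mem_normalizer_of_conj_le h3.le
      have h5 : Subgroup.normalizer (M' : Set H) = M' := by
        refine le_antisymm ?_ Subgroup.le_normalizer
        refine h₂.le_M_of_sylow_le (h₂.sylow_le.trans Subgroup.le_normalizer) fun e => ?_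
        haveI := Subgroup.normalizer_eq_top_iff.1 e
        exact h₂.ne_top (top_le_iff.1
          (h₂.isMinimalOver.1 ▸ Subgroup.normalClosure_le_normal h₂.sylow_le))
      rw [h5, Subgroup.inv_mem_iff] at h4
      exact hz h4
  have hQf : ∀ q : L, (q : H) ∈ Q → f q = 1 := fun q hq => (hfker q).2 fun v hv => hv q hq
  have hOff : IsGenOffender p (SL.mapSurjective hfs) (L₀.map f) Ā W' := by
    refine ⟨fun g hg => Subtype.ext (Equiv.ext fun v => hg v),
      fun v => Subtype.ext (by simpa using h₂.exponent (v : W)),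
      ⟨hL₀top, fun X hX => hoverf X ((Subgroup.map_mono (hSL.trans hSL₀)).trans hX.le) hX.not_ge⟩,
      by rw [Sylow.coe_mapSurjective]; exact Subgroup.map_mono hSL₀,
      fun N hN hTN => ?_, hĀT, ?_, hoff, ?_, ?_⟩
    · rw [Sylow.coe_mapSurjective] at hTN
      have h1 : N ≤ L₀.map f := by
        by_contra hle
        exact hN.1 (hoverf N ((Subgroup.map_mono hSL).trans hTN) hle)
      exact ((lt_or_eq_of_le h1).resolve_left fun hlt => hL₀top (hN.2 _ hlt))
    · rintro _ ⟨c, hc, rfl⟩ v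
      exact (hfixĀ _).2 (hA.quad c hc v)
    · obtain ⟨v, hv, hvy⟩ := hmoved ⟨y, hyL⟩ hyM
      refine ⟨v, ?_, f ⟨y, hyL⟩, hvy⟩
      rintro _ hg
      rw [Sylow.coe_mapSurjective] at hg
      obtain ⟨t, ht, rfl⟩ := hg
      exact hv t ht
    · intro g hg
      obtain ⟨z, rfl⟩ := hfs g
      have hz : (z : H) ∉ M' := fun e => hg (Subgroup.mem_map_of_mem f e)
      refine top_le_iff.1 fun g' _ => ?_
      obtain ⟨u, rfl⟩ := hfs g'
      have key : A ⊔ MulAut.conj (z : H) • A ⊔ Q ≤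
          ((Ā ⊔ Ā.map (MulAut.conj (f z)).toMonoidHom).comap f).map L.subtype := by
        refine sup_le (sup_le ?_ ?_) ?_
        · exact fun c hc => ⟨⟨c, hAL hc⟩, Subgroup.mem_sup_left (Subgroup.mem_map_of_mem f hc), rfl⟩
        · intro c hc
          obtain ⟨c', hc', rfl⟩ := (Subgroup.mem_smul_pointwise_iff_exists _ _ _).1 hc
          refine ⟨z * ⟨c', hAL hc'⟩ * z⁻¹, Subgroup.mem_sup_right
            ⟨f ⟨c', hAL hc'⟩, Subgroup.mem_map_of_mem f hc', ?_⟩, rfl⟩
          simp [map_mul]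
        · exact fun q hq => ⟨⟨q, hQL hq⟩, by simp [hQf ⟨q, hQL hq⟩ hq], rfl⟩
      rw [hgen z hz] at key
      obtain ⟨u', hu', e⟩ := key u.2
      exact (Subtype.ext e : u' = u) ▸ hu'
  have hfm := hOff.fixModTrivial_of_pCore hcoreimg
  obtain ⟨F, hF, hF', ρ, ψ, hcard, hψ, hψ0, hρ, hspan⟩ := hOff.exists_sl2 hfm
  obtain ⟨x, hx⟩ : ∃ x, x ∉ L₀.map f := by
    by_contra hc
    push Not at hc
    exact hL₀top ((Subgroup.eq_top_iff' _).2 hc)
  obtain ⟨z, rfl⟩ := hfs x
  have hz : (z : H) ∉ M' := fun e => hx (Subgroup.mem_map_of_mem f e)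
  have hd := (hOff.isPairData hfm hx).toIsPreData
  have hcardF : Nat.card F = Nat.card Ā := by rw [Nat.card_eq_fintype_card, hcard]
  have hρker : ∀ g : L, ρ.toMonoidHom.comp f g = 1 ↔ ∀ v ∈ W', (g : H) • v = v := fun g => by
    rw [← hfker]; exact ρ.map_eq_one_iff
  refine ⟨F, hF, hF', ⟨L, z, W', ρ.toMonoidHom.comp f, ψ, hAL, z.2, hstable, hψ,
    ρ.surjective.comp hfs, fun v => (hψ0 v).trans ⟨fun e g hg => congrArg Subtype.val (e (f ⟨g, hg⟩)),
      fun e g => ?_⟩, hρker, fun g v hv => hρ (f g) ⟨v, hv⟩, fun g => ?_, ?_, ?_, ?_⟩, b * g₀, hg₂ ▸ le_sup_left.trans hAQT, ?_⟩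
  · obtain ⟨u, rfl⟩ := hfs g
    exact Subtype.ext (e u u.2)
  · have key : A ⊔ MulAut.conj (z : H) • A ⊔ Q ≤
        (((A ⊔ MulAut.conj (z : H) • A).subgroupOf L).map f |>.comap f).map L.subtype := by
      refine sup_le (fun c hc => ⟨⟨c, ?_⟩, Subgroup.mem_map_of_mem f hc, rfl⟩) ?_
      · exact (hgen z hz).le (Subgroup.mem_sup_left hc)
      · refine fun q hq => ⟨⟨q, hQL hq⟩, ?_, rfl⟩
        rw [SetLike.mem_coe, Subgroup.mem_comap, hQf ⟨q, hQL hq⟩ hq]
        exact one_mem _
    rw [hgen z hz] at key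
    obtain ⟨u', hu', e⟩ := key g.2
    obtain rfl : u' = g := Subtype.ext e
    obtain ⟨e', he', hfe⟩ := hu'
    exact ⟨e', he', congrArg ρ hfe.symm⟩
  · have e : (ρ.toMonoidHom.comp f).ker = f.ker := by
      ext g; simp [MonoidHom.mem_ker]
    rw [e, hcardF]
    exact hcardA
  · rw [hd.card_space, ← hcardfix, hd.card_fixed, hcardF]
    ring
  · intro S hS hS' v hv
    have h1 := hspan (S.addSubgroupOf W') (fun u hu => hS u u.2 fun g hg =>
        congrArg Subtype.val (hu (f ⟨g, hg⟩))) (fun c hc u => ?_)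
    · exact h1 ((hfixĀ ⟨v, hv.1⟩).2 hv.2)
    · obtain ⟨c', hc', rfl⟩ := hc
      exact hS' c' hc' u
  · rw [← hg₁]
    intro hle
    refine hz ?_
    have key : A ⊔ MulAut.conj (z : H) • A ⊔ Q ≤ M' :=
      sup_le hle (le_sup_right.trans hAQM)
    exact key ((hgen z hz).ge z.2)

/-- There are no over-offenders. -/
theorem noOver (h : Setting p T M W) :
    ∀ U : Subgroup H, IsQuad p U W → mu U W ≤ Nat.card W := by
  classical
  by_contra hc
  push Not at hc
  obtain ⟨U, ⟨hU, hUμ⟩, hmin⟩ := Set.Finite.exists_minimal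
    (s := {U : Subgroup H | IsQuad p U W ∧ Nat.card W < mu U W}) (Set.toFinite _) hc
  have hbest : ∀ B ≤ U, mu B W ≤ mu U W := fun B hB => by
    by_cases hBW : Nat.card W < mu B W
    · rw [le_antisymm hB (hmin ⟨hU.mono hB, hBW⟩ hB)]
    · exact (not_lt.1 hBW).trans hUμ.le
  have hne : U ≠ ⊥ := by rintro rfl; rw [mu_bot] at hUμ; exact hUμ.false
  obtain ⟨F, hF, hF', R, -⟩ := exists_recData h hU hne hbest
  set U₀ := U ⊓ R.ρ.ker.map R.L.subtype with hU₀
  have hsub : fixedSub U ⊔ R.W' ≤ fixedSub U₀ := by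
    refine sup_le (fixedSub_anti inf_le_left) fun v hv c hc => ?_
    obtain ⟨q, hq, rfl⟩ := hc.2
    exact (R.kerρ q).1 hq v hv
  have h1 : mu U W ≤ mu U₀ W := by
    rw [mu, mu, ← R.card, ← hU₀]
    have h2 := card_sup_mul (fixedSub U) R.W'
    rw [R.index, inf_comm] at h2
    have hpos : 0 < Nat.card ↥(R.W' ⊓ fixedSub U) := Nat.card_pos
    have h3 : Nat.card F * Nat.card (fixedSub U : AddSubgroup W) ≤
        Nat.card (fixedSub U₀ : AddSubgroup W) := by
      refine le_trans (le_of_eq ?_) (AddSubgroup.card_le_of_le hsub)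
      refine Nat.eq_of_mul_eq_mul_right hpos ?_
      rw [h2]; ring
    calc _ = Nat.card U₀ * (Nat.card F * Nat.card (fixedSub U : AddSubgroup W)) := by ring
      _ ≤ _ := Nat.mul_le_mul_left _ h3
  have hlt : U₀ ≠ U := fun e => by
    have := R.card
    rw [← hU₀, e, Nat.card_eq_fintype_card (α := F)] at this
    have h5 : 1 < Fintype.card F := Fintype.one_lt_card
    have hpos : 0 < Nat.card U := Nat.card_pos
    nlinarith
  exact hlt (le_antisymm inf_le_left (hmin ⟨hU.mono inf_le_left, hUμ.trans_le h1⟩ inf_le_left))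

end CfsgLib.FFModules.MinimalParabolic
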