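import Cfsg.Agent.Lib.FFModules.MinimalParabolic.Recognition

/-!
The `SL₂` attached to a minimal offender in a `p`-minimal group.
-/

set_option autoImplicit false
set_option linter.style.haveILetI false

namespace CfsgLib.FFModules.MinimalParabolic

open SL2Pair Matrix
open scoped Pointwise MatrixGroups

variable {H W : Type*} [Group H] [AddCommGroup W] [DistribMulAction H W]

/-- A minimal offender. -/
structure IsMin (p : ℕ) (B : Subgroup H) (W : Type*) [AddCommGroup W] [DistribMulAction H W] :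
    Prop extends IsQuad p B W where
  ne_bot : B ≠ ⊥
  mu_eq : mu B W = Nat.card W
  minimal : ∀ B₀ ≤ B, mu B₀ W = Nat.card W → B₀ = ⊥ ∨ B₀ = B

theorem IsMin.smul {p : ℕ} {B : Subgroup H} (h : IsMin p B W) (g : H) :
    IsMin p (MulAut.conj g • B) W where
  toIsQuad := h.toIsQuad.smul g
  ne_bot e := h.ne_bot <| by
    have := congrArg (fun X : Subgroup H => MulAut.conj g⁻¹ • X) e
    simpa [LLemma.conj_conj, Subgroup.smul_bot] using this
  mu_eq := by rw [mu_smul, h.mu_eq]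
  minimal B₀ hB₀ e := by
    have h1 : MulAut.conj g⁻¹ • B₀ ≤ B := by
      have := Subgroup.pointwise_smul_le_pointwise_smul_iff (a := MulAut.conj g⁻¹).2 hB₀
      rwa [LLemma.conj_conj, inv_mul_cancel, map_one, one_smul] at this
    rcases h.minimal _ h1 (by rw [mu_smul, e]) with e' | e'
    all_goals
      have := congrArg (fun X : Subgroup H => MulAut.conj g • X) e'
      simp only [LLemma.conj_conj, mul_inv_cancel, map_one, one_smul, Subgroup.smul_bot] at this
    · exact Or.inl this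
    · exact Or.inr this

/-- `SL₂` on `W / C_W(E)` with root group `B`. -/
structure RootPair (B : Subgroup H) (W : Type*) [AddCommGroup W] [DistribMulAction H W]
    (F : Type) [Field F] where
  E : Subgroup H
  x : H
  ρ : E ≃* SL(2, F)
  ψ : W →+ (Fin 2 → F)
  le : B ≤ E
  eq_sup : E = B ⊔ MulAut.conj x • B
  surj : Function.Surjective ψ
  ker : ∀ v, ψ v = 0 ↔ v ∈ fixedSub E
  equiv : ∀ (g : E) (v : W),
    ψ ((g : H) • v) = ((ρ g : SL(2, F)) : Matrix (Fin 2) (Fin 2) F).mulVec (ψ v)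
  card : Nat.card F = Nat.card B
  mem_fix : ∀ v, v ∈ fixedSub B ↔ ψ v 1 = 0

theorem exists_min [Finite H] {p : ℕ} {U : Subgroup H} (hU : IsQuad p U W) (hne : U ≠ ⊥)
    (hμ : mu U W = Nat.card W) : ∃ B ≤ U, IsMin p B W := by
  obtain ⟨B, ⟨hBU, hB0, hBμ⟩, hmin⟩ := Set.Finite.exists_minimal
    (s := {B : Subgroup H | B ≤ U ∧ B ≠ ⊥ ∧ mu B W = Nat.card W}) (Set.toFinite _)
    ⟨U, le_rfl, hne, hμ⟩
  refine ⟨B, hBU, hU.mono hBU, hB0, hBμ, fun B₀ h1 h2 => ?_⟩
  by_cases h3 : B₀ = ⊥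
  · exact Or.inl h3
  · exact Or.inr (le_antisymm h1 (hmin ⟨h1.trans hBU, h3, h2⟩ h1))

variable [Finite H] [Finite W]
variable {p : ℕ} [Fact p.Prime] {T : Sylow p H} {M : Subgroup H}

theorem Setting.seriesStab_eq (h : Setting p T M W) {B : Subgroup H} (hB : IsQuad p B W)
    (hμ : mu B W = Nat.card W) : (seriesStab (H := H) (fixedSub B : AddSubgroup W) : Subgroup H) = B := by
  have hle : B ≤ seriesStab (H := H) (fixedSub B : AddSubgroup W) := fun b hb =>
    mem_seriesStab.2 ⟨fun _ hv => hv b hb, hB.quad b hb⟩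
  refine (Subgroup.eq_of_le_of_card_ge hle ?_).symm
  have h1 := noOver h _ (h.isQuad_seriesStab (H := H) (fixedSub B : AddSubgroup W))
  rw [← hμ, mu, mu] at h1
  have h2 : (fixedSub B : AddSubgroup W) ≤ fixedSub (seriesStab (H := H) (fixedSub B : AddSubgroup W)) :=
    fun v hv g (hg : g ∈ seriesStab (H := H) (fixedSub B : AddSubgroup W)) => (mem_seriesStab.1 hg).1 v hv
  exact Nat.le_of_mul_le_mul_right
    ((Nat.mul_le_mul_left _ (AddSubgroup.card_le_of_le h2)).trans h1) Nat.card_pos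

theorem Setting.mem_of_series (h : Setting p T M W) {B : Subgroup H} (hB : IsQuad p B W)
    (hμ : mu B W = Nat.card W) {g : H} (h1 : ∀ v ∈ (fixedSub B : AddSubgroup W), g • v = v)
    (h2 : ∀ v : W, g • v - v ∈ fixedSub B) : g ∈ B :=
  h.seriesStab_eq hB hμ ▸ mem_seriesStab.2 ⟨h1, h2⟩

theorem exists_upper {F : Type*} [Field F] (w : Fin 2 → F) (hw : w ≠ 0) :
    ∃ g : SL(2, F), (g : Matrix (Fin 2) (Fin 2) F).mulVec w = ![1, 0] := by
  by_cases h0 : w 0 = 0
  · have h1 : w 1 ≠ 0 := fun e => hw (funext fun i => by fin_cases i <;> assumption)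
    refine ⟨⟨!![0, (w 1)⁻¹; -(w 1), 0], by simp [Matrix.det_fin_two, h1]⟩, ?_⟩
    funext i; fin_cases i <;> simp [Matrix.mulVec, dotProduct, h0, h1]
  · refine ⟨⟨!![(w 0)⁻¹, 0; -(w 1), w 0], by simp [Matrix.det_fin_two, h0]⟩, ?_⟩
    funext i; fin_cases i <;> simp [Matrix.mulVec, dotProduct, h0]; ring

theorem exists_rootPair_not_le (h : Setting p T M W) {B : Subgroup H} (hB : IsMin p B W) :
    ∃ (F : Type) (_ : Field F) (_ : Fintype F) (R : RootPair B W F) (g : H),
      B ≤ MulAut.conj g • (T : Subgroup H) ∧ ¬ R.E ≤ MulAut.conj g • M := by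
  classical
  have hle : ∀ B₀ ≤ B, mu B₀ W ≤ Nat.card W := fun B₀ hB₀ => noOver h _ (hB.toIsQuad.mono hB₀)
  obtain ⟨F, hF, hF', R, g₁, hg₁, hg₂⟩ := exists_recData h hB.toIsQuad hB.ne_bot
    (fun B₀ hB₀ => (hle B₀ hB₀).trans_eq hB.mu_eq.symm)
  set U₀ := B ⊓ R.ρ.ker.map R.L.subtype with hU₀
  set q := Nat.card F with hq
  have hq1 : 1 < q := Finite.one_lt_card
  -- the kernel part of `B` is trivial
  have hU₀bot : U₀ = ⊥ := by
    have hsub : fixedSub B ⊔ R.W' ≤ fixedSub U₀ := by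
      refine sup_le (fixedSub_anti inf_le_left) fun v hv c hc => ?_
      obtain ⟨g, hg, rfl⟩ := hc.2
      exact (R.kerρ g).1 hg v hv
    have h1 : mu B W ≤ mu U₀ W := by
      rw [mu, mu, ← R.card, ← hU₀]
      have h2 := card_sup_mul (fixedSub B) R.W'
      rw [R.index, inf_comm] at h2
      have hpos : 0 < Nat.card ↥(R.W' ⊓ fixedSub B) := Nat.card_pos
      have h3 : q * Nat.card (fixedSub B : AddSubgroup W) ≤
          Nat.card (fixedSub U₀ : AddSubgroup W) := by
        refine le_trans (le_of_eq ?_) (AddSubgroup.card_le_of_le hsub)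
        refine Nat.eq_of_mul_eq_mul_right hpos ?_
        rw [h2]; ring
      calc _ = Nat.card U₀ * (q * Nat.card (fixedSub B : AddSubgroup W)) := by ring
        _ ≤ _ := Nat.mul_le_mul_left _ h3
    rcases hB.minimal U₀ inf_le_left
        (le_antisymm (hle _ inf_le_left) (hB.mu_eq ▸ h1)) with e | e
    · exact e
    · exfalso
      have := R.card
      rw [← hU₀, e] at this
      have hpos : 0 < Nat.card B := Nat.card_pos
      nlinarith
  have hcardB : Nat.card B = q := by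
    have := R.card
    rw [← hU₀, hU₀bot, Subgroup.card_bot, mul_one] at this
    exact this.symm
  set B' := MulAut.conj R.x • B
  set E := B ⊔ B' with hE
  have hB'L : B' ≤ R.L := (Subgroup.pointwise_smul_le_pointwise_smul_iff.2 R.le).trans
    (LLemma.conj_eq_of_mem_normalizer (Subgroup.le_normalizer R.x_mem)).le
  have hEL : E ≤ R.L := sup_le R.le hB'L
  -- `W = W' + C_W(E)`
  have hfixE : (fixedSub E : AddSubgroup W) = fixedSub B ⊓ fixedSub B' := by
    ext v; exact mem_fixedSub_sup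
  have hC : Nat.card (fixedSub B : AddSubgroup W) * q = Nat.card W := by
    rw [← hcardB, mul_comm, ← hB.mu_eq, mu]
  have hWE : R.W' ⊔ fixedSub E = ⊤ := by
    refine AddSubgroup.eq_top_of_card_eq _ (le_antisymm
      (by rw [← AddSubgroup.card_top (G := W)]; exact AddSubgroup.card_le_of_le le_top) ?_)
    have h1 := card_sup_mul (fixedSub B : AddSubgroup W) (fixedSub B')
    rw [← hfixE, card_fixedSub_smul] at h1
    have h2 : Nat.card ↥(fixedSub B ⊔ fixedSub B' : AddSubgroup W) ≤ Nat.card W :=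
      Nat.card_le_card_of_injective _ Subtype.val_injective
    have h3 := card_sup_mul R.W' (fixedSub E)
    -- `|W' : W' ∩ C(E)| = q²`
    have h4 : Nat.card R.W' = q ^ 2 * Nat.card ↥(R.W' ⊓ fixedSub E) := by
      have e1 := AddSubgroup.card_eq_card_quotient_mul_card_addSubgroup R.ψ.ker
      rw [Nat.card_congr (QuotientAddGroup.quotientKerEquivOfSurjective R.ψ R.surj).toEquiv,
        Nat.card_fun, Nat.card_eq_fintype_card (α := Fin 2), Fintype.card_fin] at e1
      rw [e1, hq]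
      congr 1
      refine Nat.card_congr
        { toFun := fun v => ⟨((v : R.W') : W), v.1.2, fun g hg =>
            ((R.ker _).1 v.2) g (hEL hg)⟩
          invFun := fun v => ⟨⟨v, v.2.1⟩, (R.ker _).2 fun g hg => ?_⟩
          left_inv := fun v => rfl
          right_inv := fun v => rfl }
      obtain ⟨e, he, hge⟩ := R.generated ⟨g, hg⟩
      have h5 : R.ψ ⟨g • (v : W), R.stable g hg _ v.2.1⟩ = R.ψ ⟨(e : H) • (v : W), R.stable e e.2 _ v.2.1⟩ := by
        rw [R.equiv ⟨g, hg⟩ v v.2.1, R.equiv e v v.2.1, hge]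
      have h6 : ((e : H)⁻¹ * g) • (v : W) = v := by
        have hker : R.ρ (e⁻¹ * ⟨g, hg⟩) = 1 := by rw [map_mul, map_inv, hge, inv_mul_cancel]
        exact (R.kerρ _).1 hker v v.2.1
      rw [mul_smul, inv_smul_eq_iff, v.2.2 (e : H) he] at h6
      exact h6
    have hI : 0 < Nat.card (fixedSub E : AddSubgroup W) := Nat.card_pos
    have hCpos : 0 < Nat.card (fixedSub B : AddSubgroup W) := Nat.card_pos
    have hWI : Nat.card W ≤ q ^ 2 * Nat.card (fixedSub E : AddSubgroup W) := by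
      refine Nat.le_of_mul_le_mul_left ?_ (Nat.mul_pos hCpos hCpos)
      calc Nat.card (fixedSub B : AddSubgroup W) * Nat.card (fixedSub B : AddSubgroup W) * Nat.card W
          ≤ Nat.card W * Nat.card (fixedSub E : AddSubgroup W) * Nat.card W := by
            refine Nat.mul_le_mul_right _ ?_
            rw [← h1]; exact Nat.mul_le_mul_right _ h2
        _ = _ := by rw [← hC]; ring
    rw [h4] at h3
    refine hWI.trans (le_of_eq ?_)
    refine (Nat.eq_of_mul_eq_mul_right (Nat.card_pos (α := ↥(R.W' ⊓ fixedSub E))) ?_).symm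
    rw [h3]; ring
  have hdec : ∀ v : W, ∃ w : R.W', v - w ∈ fixedSub E := fun v => by
    obtain ⟨w, hw, c, hc, rfl⟩ := AddSubgroup.mem_sup.1
      (show v ∈ R.W' ⊔ fixedSub E from hWE ▸ AddSubgroup.mem_top v)
    exact ⟨⟨w, hw⟩, by simpa using hc⟩
  choose π hπ using hdec
  have hψfix : ∀ w : R.W', (w : W) ∈ fixedSub E → R.ψ w = 0 := by
    intro w hw
    refine (R.ker w).2 fun g hg => ?_
    obtain ⟨e, he, hge⟩ := R.generated ⟨g, hg⟩
    have h6 : ((e : H)⁻¹ * g) • (w : W) = w := by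
      have hker : R.ρ (e⁻¹ * ⟨g, hg⟩) = 1 := by rw [map_mul, map_inv, hge, inv_mul_cancel]
      exact (R.kerρ _).1 hker w w.2
    rw [mul_smul, inv_smul_eq_iff, hw (e : H) he] at h6
    exact h6
  have hψπ : ∀ (v : W) (w : R.W'), v - w ∈ fixedSub E → R.ψ (π v) = R.ψ w := fun v w hw => by
    rw [← sub_eq_zero, ← map_sub]
    refine hψfix _ ?_
    have := sub_mem hw (hπ v)
    simpa using this
  let ψ₀ : W →+ (Fin 2 → F) :=
    { toFun := fun v => R.ψ (π v)
      map_zero' := by rw [hψπ 0 0 (by simp), map_zero]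
      map_add' := fun v w => by
        rw [hψπ (v + w) (π v + π w) ?_, map_add]
        have := add_mem (hπ v) (hπ w)
        simpa [add_sub_add_comm] using this }
  -- `E ≅ SL₂`
  let i : E →* R.L := Subgroup.inclusion hEL
  have hsurj : Function.Surjective (R.ρ.comp i) := fun s => by
    obtain ⟨g, rfl⟩ := R.surjρ s
    obtain ⟨e, he, hge⟩ := R.generated g
    exact ⟨⟨e, he⟩, hge.symm⟩
  have hinj : Function.Injective (R.ρ.comp i) := by
    rw [injective_iff_map_eq_one]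
    intro g hg
    refine Subtype.ext (h.faithful _ fun v => ?_)
    have h1 := (R.kerρ _).1 hg _ (π v).2
    have h2 := hπ v g g.2
    rw [smul_sub] at h2
    have h3 : ((i g : R.L) : H) = (g : H) := rfl
    rw [h3] at h1
    rw [h1, sub_left_inj] at h2
    exact h2
  let ρ₀ : E ≃* SL(2, F) := MulEquiv.ofBijective (R.ρ.comp i) ⟨hinj, hsurj⟩
  have hequiv : ∀ (g : E) (v : W),
      ψ₀ ((g : H) • v) = ((ρ₀ g : SL(2, F)) : Matrix (Fin 2) (Fin 2) F).mulVec (ψ₀ v) := by
    intro g v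
    show R.ψ (π _) = _
    rw [hψπ _ ⟨(g : H) • (π v : W), R.stable _ (hEL g.2) _ (π v).2⟩ ?_]
    · exact R.equiv (i g) _ (π v).2
    · rw [← smul_sub, hπ v g g.2]; exact hπ v
  have hker₀ : ∀ v, ψ₀ v = 0 ↔ v ∈ fixedSub E := by
    refine fun v => ⟨fun e g hg => ?_, fun hv => ?_⟩
    · have h1 := (R.ker _).1 e g (hEL hg)
      have h2 := hπ v g hg
      rw [smul_sub, h1, sub_left_inj] at h2
      exact h2
    · show R.ψ (π v) = 0
      refine hψfix _ ?_
      simpa using sub_mem hv (hπ v)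
  have hsurj₀ : Function.Surjective ψ₀ := fun w => by
    obtain ⟨u, rfl⟩ := R.surj w
    exact ⟨u, hψπ _ _ (by simp)⟩
  -- coordinates
  obtain ⟨c₀, hc₀, hc₀'⟩ : ∃ c ∈ fixedSub B, ψ₀ c ≠ 0 := by
    by_contra hc
    push Not at hc
    have h1 : (fixedSub B : AddSubgroup W) ≤ fixedSub B' := fun v hv =>
      fixedSub_anti le_sup_right ((hker₀ v).1 (hc v hv))
    have h2 : fixedSub E = (fixedSub B : AddSubgroup W) := by rw [hfixE, inf_eq_left]; exact h1
    have e1 := AddSubgroup.card_eq_card_quotient_mul_card_addSubgroup ψ₀.ker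
    rw [Nat.card_congr (QuotientAddGroup.quotientKerEquivOfSurjective ψ₀ hsurj₀).toEquiv,
      Nat.card_fun, Nat.card_eq_fintype_card (α := Fin 2), Fintype.card_fin] at e1
    have e2 : Nat.card ψ₀.ker = Nat.card (fixedSub B : AddSubgroup W) := by
      rw [← h2]
      exact Nat.card_congr (Equiv.subtypeEquivRight fun v => hker₀ v)
    rw [e2, ← hC, mul_comm] at e1
    have := Nat.eq_of_mul_eq_mul_right Nat.card_pos e1
    nlinarith
  obtain ⟨g, hg⟩ := exists_upper _ hc₀'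
  let ψ : W →+ (Fin 2 → F) :=
    (Matrix.mulVecLin (g : Matrix (Fin 2) (Fin 2) F)).toAddMonoidHom.comp ψ₀
  let ρ : E ≃* SL(2, F) := ρ₀.trans (MulAut.conj g)
  have hginv : ∀ w, ((g⁻¹ : SL(2, F)) : Matrix (Fin 2) (Fin 2) F).mulVec
      ((g : Matrix (Fin 2) (Fin 2) F).mulVec w) = w := fun w => by
    rw [Matrix.mulVec_mulVec, ← Matrix.SpecialLinearGroup.coe_mul, inv_mul_cancel,
      Matrix.SpecialLinearGroup.coe_one, Matrix.one_mulVec]
  have hψker : ∀ v, ψ v = 0 ↔ v ∈ fixedSub E := fun v => by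
    rw [← hker₀]
    refine ⟨fun e => ?_, fun e => ?_⟩
    · have := hginv (ψ₀ v)
      rw [show (g : Matrix (Fin 2) (Fin 2) F).mulVec (ψ₀ v) = 0 from e, Matrix.mulVec_zero] at this
      exact this.symm
    · show (g : Matrix (Fin 2) (Fin 2) F).mulVec (ψ₀ v) = 0
      rw [e, Matrix.mulVec_zero]
  have hψsurj : Function.Surjective ψ := fun w => by
    obtain ⟨u, hu⟩ := hsurj₀ (((g⁻¹ : SL(2, F)) : Matrix (Fin 2) (Fin 2) F).mulVec w)
    refine ⟨u, ?_⟩
    show (g : Matrix (Fin 2) (Fin 2) F).mulVec (ψ₀ u) = w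
    rw [hu, Matrix.mulVec_mulVec, ← Matrix.SpecialLinearGroup.coe_mul, mul_inv_cancel,
      Matrix.SpecialLinearGroup.coe_one, Matrix.one_mulVec]
  have hψequiv : ∀ (e : E) (v : W),
      ψ ((e : H) • v) = ((ρ e : SL(2, F)) : Matrix (Fin 2) (Fin 2) F).mulVec (ψ v) := fun e v => by
    show (g : Matrix (Fin 2) (Fin 2) F).mulVec (ψ₀ _) = ((g * ρ₀ e * g⁻¹ : SL(2, F)) : Matrix _ _ F).mulVec
      ((g : Matrix (Fin 2) (Fin 2) F).mulVec (ψ₀ v))
    rw [hequiv]
    simp only [Matrix.SpecialLinearGroup.coe_mul, Matrix.mulVec_mulVec, Matrix.mul_assoc]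
    rw [← Matrix.SpecialLinearGroup.coe_mul g⁻¹ g, inv_mul_cancel,
      Matrix.SpecialLinearGroup.coe_one, Matrix.mul_one]
  have hψc₀ : ψ c₀ = ![1, 0] := hg
  -- the line
  have hline : ∀ v ∈ (fixedSub B : AddSubgroup W), ψ v 1 = 0 := by
    intro v hv
    by_contra h1
    obtain ⟨b, hb, hb1⟩ := (Subgroup.ne_bot_iff_exists_ne_one).1 hB.ne_bot |> fun ⟨⟨b, hb⟩, hb1⟩ =>
      (⟨b, hb, fun e => hb1 (Subtype.ext e)⟩ : ∃ b ∈ B, b ≠ 1)
    have hbE : b ∈ E := Subgroup.mem_sup_left hb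
    have e1 := hψequiv ⟨b, hbE⟩ c₀
    have e2 := hψequiv ⟨b, hbE⟩ v
    rw [hc₀ b hb, hψc₀] at e1
    rw [hv b hb] at e2
    have a0 := congrFun e1 0
    have a1 := congrFun e1 1
    have b0 := congrFun e2 0
    have b1 := congrFun e2 1
    simp [Matrix.mulVec, dotProduct] at a0 a1 b0 b1
    rw [← a0, one_mul, left_eq_add, mul_eq_zero] at b0
    rw [← a1, zero_mul, zero_add] at b1
    have c01 := b0.resolve_right h1
    have c11 : ((ρ ⟨b, hbE⟩ : SL(2, F)) : Matrix (Fin 2) (Fin 2) F) 1 1 = 1 :=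
      mul_right_cancel₀ h1 (by rw [one_mul]; exact b1.symm)
    have hone : ρ ⟨b, hbE⟩ = 1 := by
      refine Subtype.ext (Matrix.ext fun i j => ?_)
      fin_cases i <;> fin_cases j <;> simp [← a0, ← a1, c01, c11]
    rw [← map_one ρ, ρ.injective.eq_iff] at hone
    exact hb1 (congrArg Subtype.val hone)
  let π₁ : W →+ F := (Pi.evalAddMonoidHom (fun _ : Fin 2 => F) 1).comp ψ
  have hπ₁surj : Function.Surjective π₁ := fun a => by
    obtain ⟨u, hu⟩ := hψsurj ![0, a]
    exact ⟨u, by show ψ u 1 = a; rw [hu]; rfl⟩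
  have hπ₁ker : π₁.ker = fixedSub B := by
    refine (AddSubgroup.eq_of_le_of_card_ge (fun v hv => hline v hv) ?_).symm
    have e1 := AddSubgroup.card_eq_card_quotient_mul_card_addSubgroup π₁.ker
    rw [Nat.card_congr (QuotientAddGroup.quotientKerEquivOfSurjective π₁ hπ₁surj).toEquiv, ← hC,
      mul_comm] at e1
    exact (Nat.eq_of_mul_eq_mul_left (by omega) e1.symm).le
  refine ⟨F, hF, hF', ⟨E, R.x, ρ, ψ, le_sup_left, rfl, hψsurj, hψker, hψequiv, hcardB.symm,
    fun v => ?_⟩, g₁, hg₁, hg₂⟩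
  rw [← hπ₁ker]
  rfl

theorem exists_rootPair (h : Setting p T M W) {B : Subgroup H} (hB : IsMin p B W) :
    ∃ (F : Type) (_ : Field F) (_ : Fintype F), Nonempty (RootPair B W F) := by
  obtain ⟨F, hF, hF', R, -⟩ := exists_rootPair_not_le h hB
  exact ⟨F, hF, hF', ⟨R⟩⟩

namespace RootPair

variable {B : Subgroup H} {F : Type} [Field F] (R : RootPair B W F)
include R

theorem exists_mem_fix_ψ : ∃ v ∈ fixedSub B, R.ψ v = ![1, 0] := by
  obtain ⟨v, hv⟩ := R.surj ![1, 0]
  exact ⟨v, (R.mem_fix v).2 (by rw [hv]; rfl), hv⟩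

/-- The root coordinate. -/
noncomputable def coord (b : B) : F :=
  ((R.ρ ⟨b, R.le b.2⟩ : SL(2, F)) : Matrix (Fin 2) (Fin 2) F) 0 1

theorem ρ_eq (b : B) :
    ((R.ρ ⟨b, R.le b.2⟩ : SL(2, F)) : Matrix (Fin 2) (Fin 2) F) = !![1, R.coord b; 0, 1] := by
  obtain ⟨v, hv, hψ⟩ := R.exists_mem_fix_ψ
  have e := R.equiv ⟨b, R.le b.2⟩ v
  rw [hv b b.2, hψ] at e
  have a0 := congrFun e 0
  have a1 := congrFun e 1
  simp [Matrix.mulVec, dotProduct] at a0 a1
  have hdet := (R.ρ ⟨b, R.le b.2⟩).2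
  rw [Matrix.det_fin_two, ← a0, ← a1, one_mul, mul_zero, sub_zero] at hdet
  ext i j
  fin_cases i <;> fin_cases j <;> simp [← a0, ← a1, hdet, coord]

theorem ψ_smul (b : B) (v : W) :
    R.ψ ((b : H) • v) = ![R.ψ v 0 + R.coord b * R.ψ v 1, R.ψ v 1] := by
  have e := R.equiv ⟨b, R.le b.2⟩ v
  rw [R.ρ_eq b] at e
  rw [show ((b : H) • v) = (((⟨b, R.le b.2⟩ : R.E) : H) • v) from rfl, e]
  funext i
  fin_cases i <;> simp [Matrix.mulVec, dotProduct]

theorem coord_bijective : Function.Bijective R.coord := by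
  haveI : Finite F := Nat.finite_of_card_ne_zero (by rw [R.card]; exact Nat.card_pos.ne')
  refine (Nat.bijective_iff_injective_and_card _).2 ⟨fun b c e => ?_, R.card.symm⟩
  have h1 : R.ρ ⟨b, R.le b.2⟩ = R.ρ ⟨c, R.le c.2⟩ := Subtype.ext (by rw [R.ρ_eq, R.ρ_eq, e])
  exact Subtype.ext (congrArg Subtype.val (R.ρ.injective h1) : _)

theorem coord_eq_zero {b : B} : R.coord b = 0 ↔ b = 1 := by
  have h1 : R.coord 1 = 0 := by
    show ((R.ρ (1 : R.E) : SL(2, F)) : Matrix (Fin 2) (Fin 2) F) 0 1 = 0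
    rw [map_one]; rfl
  exact ⟨fun e => R.coord_bijective.1 (e.trans h1.symm), fun e => e ▸ h1⟩

/-- All nontrivial elements of `B` have the same fixed points. -/
theorem mem_fix_of_smul_eq {b : H} (hb : b ∈ B) (hb1 : b ≠ 1) {v : W} (hv : b • v = v) :
    v ∈ fixedSub B := by
  rw [R.mem_fix]
  have e := R.ψ_smul ⟨b, hb⟩ v
  rw [show ((⟨b, hb⟩ : B) : H) = b from rfl, hv] at e
  have := congrFun e 0
  simp only [Matrix.cons_val_zero, left_eq_add, mul_eq_zero] at this
  refine this.resolve_left fun e0 => hb1 ?_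
  simpa using congrArg Subtype.val (R.coord_eq_zero.1 e0)

theorem inj {v : W} (hv : v ∉ fixedSub B) {b c : H} (hb : b ∈ B) (hc : c ∈ B)
    (e : b • v = c • v) : b = c := by
  by_contra hne
  refine hv (R.mem_fix_of_smul_eq (b := b⁻¹ * c) (B.mul_mem (B.inv_mem hb) hc)
    (fun h1 => hne (inv_mul_eq_one.1 h1)) ?_)
  rw [mul_smul, ← e, inv_smul_smul]

omit R in
/-- The diagonal matrix. -/
def diagSL (l : Fˣ) : SL(2, F) :=
  ⟨!![(l : F), 0; 0, ((l⁻¹ : Fˣ) : F)], by simp [Matrix.det_fin_two]⟩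

/-- The torus. -/
noncomputable def torus (l : Fˣ) : R.E := R.ρ.symm (diagSL l)

theorem ψ_torus (l : Fˣ) (v : W) :
    R.ψ ((R.torus l : H) • v) = ![(l : F) * R.ψ v 0, ((l⁻¹ : Fˣ) : F) * R.ψ v 1] := by
  rw [R.equiv, torus, MulEquiv.apply_symm_apply, diagSL]
  funext i
  fin_cases i <;> simp [Matrix.mulVec, dotProduct]

theorem torus_conj_mem (l : Fˣ) {b : H} (hb : b ∈ B) :
    (R.torus l : H) * b * (R.torus l : H)⁻¹ ∈ B := by
  obtain ⟨c, hc⟩ := R.coord_bijective.2 ((l : F) ^ 2 * R.coord ⟨b, hb⟩)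
  have h1 : R.torus l * ⟨b, R.le hb⟩ = ⟨(c : H), R.le c.2⟩ * R.torus l := by
    refine R.ρ.injective (Subtype.ext ?_)
    rw [map_mul, map_mul, Matrix.SpecialLinearGroup.coe_mul, Matrix.SpecialLinearGroup.coe_mul,
      torus, MulEquiv.apply_symm_apply, diagSL]
    have e1 := R.ρ_eq ⟨b, hb⟩
    have e2 := R.ρ_eq c
    simp only at e1
    rw [e1, e2, hc]
    ext i j
    fin_cases i <;> fin_cases j <;> simp [Matrix.mul_apply, Fin.sum_univ_two]
    field_simp
  have h2 := congrArg Subtype.val h1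
  simp only [Subgroup.coe_mul] at h2
  rw [h2, mul_inv_cancel_right]
  exact c.2

theorem hom_trivial (hq : 3 < Nat.card B) {A : Type*} [CommGroup A] (φ : R.E →* A) (g : R.E) :
    φ g = 1 := by
  haveI : Finite F := Nat.finite_of_card_ne_zero (by rw [R.card]; exact Nat.card_pos.ne')
  classical
  obtain ⟨a, ha, ha2⟩ : ∃ a : F, a ≠ 0 ∧ a ^ 2 ≠ 1 := by
    by_contra hc
    push Not at hc
    haveI := Fintype.ofFinite F
    have hsub : (Finset.univ : Finset F) ⊆ {0, 1, -1} := fun a _ => by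
      by_cases h0 : a = 0
      · simp [h0]
      · rcases sq_eq_one_iff.1 (hc a h0) with e | e <;> simp [e]
    have := (Finset.card_le_card hsub).trans Finset.card_le_three
    rw [Finset.card_univ, ← Nat.card_eq_fintype_card, R.card] at this
    omega
  have h1 := Abelianization.commutator_subset_ker (φ.comp R.ρ.symm.toMonoidHom)
    (show R.ρ g ∈ commutator SL(2, F) by rw [Matrix.SL2.commutator_eq_top ha ha2]; exact Subgroup.mem_top _)
  simpa using h1

end RootPair

end CfsgLib.FFModules.MinimalParabolic
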