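import Cfsg.Agent.Lib.FFModules.SL2Pair.MinimalOffender
import Cfsg.Agent.Lib.FFModules.SL2Pair.Embedded
import Cfsg.Agent.Lib.FFModules.LLemma

/-!
Faithful modules of `p`-minimal groups with trivial `O_p`: the standing hypotheses and quadratic
subgroups.
-/

set_option autoImplicit false
set_option linter.style.haveILetI false

namespace CfsgLib.FFModules.MinimalParabolic

open SL2Pair
open scoped Pointwise

variable {H W : Type*} [Group H] [AddCommGroup W] [DistribMulAction H W]

/-- The standing hypotheses. -/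
structure Base (p : ℕ) [Fact p.Prime] (T : Sylow p H) (M : Subgroup H) (W : Type*)
    [AddCommGroup W] [DistribMulAction H W] : Prop where
  faithful : ∀ g : H, (∀ v : W, g • v = v) → g = 1
  exponent : ∀ v : W, p • v = 0
  coatom : IsCoatom M
  sylow_le : (T : Subgroup H) ≤ M
  unique : ∀ N : Subgroup H, IsCoatom N → (T : Subgroup H) ≤ N → N = M
  not_normal : ¬ (T : Subgroup H).Normal
  core : Cfsg.pCore p H = ⊥

/-- The standing hypotheses together with: only elements of `M` fix all fixed points of `T`. -/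
structure Setting (p : ℕ) [Fact p.Prime] (T : Sylow p H) (M : Subgroup H) (W : Type*)
    [AddCommGroup W] [DistribMulAction H W] : Prop extends Base p T M W where
  moved : ∀ g : H, g ∉ M → ∃ v ∈ (fixedSub (T : Subgroup H) : AddSubgroup W), g • v ≠ v

/-- `|A| * |C_W(A)|`. -/
noncomputable def mu (A : Subgroup H) (W : Type*) [AddCommGroup W] [DistribMulAction H W] : ℕ :=
  Nat.card A * Nat.card (fixedSub A : AddSubgroup W)

/-- A `p`-subgroup acting quadratically. -/
structure IsQuad (p : ℕ) (A : Subgroup H) (W : Type*) [AddCommGroup W] [DistribMulAction H W] :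
    Prop where
  isPGroup : IsPGroup p A
  quad : ∀ a ∈ A, ∀ v : W, a • v - v ∈ fixedSub A

theorem mem_fixedSub_smul {A : Subgroup H} {g : H} {v : W} :
    v ∈ fixedSub (MulAut.conj g • A) ↔ g⁻¹ • v ∈ fixedSub A :=
  mem_fixedSub_conj

theorem card_fixedSub_smul (A : Subgroup H) (g : H) :
    Nat.card (fixedSub (MulAut.conj g • A) : AddSubgroup W) =
      Nat.card (fixedSub A : AddSubgroup W) :=
  Nat.card_congr
    { toFun := fun v => ⟨g⁻¹ • (v : W), mem_fixedSub_smul.1 v.2⟩
      invFun := fun v => ⟨g • (v : W), mem_fixedSub_smul.2 (by rw [inv_smul_smul]; exact v.2)⟩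
      left_inv := fun v => Subtype.ext (smul_inv_smul _ _)
      right_inv := fun v => Subtype.ext (inv_smul_smul _ _) }

theorem card_smul_subgroup (A : Subgroup H) (g : H) : Nat.card ↥(MulAut.conj g • A) = Nat.card A :=
  (Nat.card_congr (Subgroup.equivSMul (MulAut.conj g) A).toEquiv).symm

theorem mu_smul (A : Subgroup H) (g : H) : mu (MulAut.conj g • A) W = mu A W := by
  rw [mu, mu, card_smul_subgroup, card_fixedSub_smul]

theorem mu_bot : mu (⊥ : Subgroup H) W = Nat.card W := by
  have e : (fixedSub (⊥ : Subgroup H) : AddSubgroup W) = ⊤ :=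
    eq_top_iff.2 fun v _ a ha => by rw [Subgroup.mem_bot.1 ha, one_smul]
  rw [mu, e, Subgroup.card_bot, one_mul, AddSubgroup.card_top]

theorem IsQuad.mono {p : ℕ} {A B : Subgroup H} (h : IsQuad p A W) (hBA : B ≤ A) : IsQuad p B W :=
  ⟨h.isPGroup.to_le hBA, fun a ha v => fixedSub_anti hBA (h.quad a (hBA ha) v)⟩

theorem IsQuad.smul {p : ℕ} {A : Subgroup H} (h : IsQuad p A W) (g : H) :
    IsQuad p (MulAut.conj g • A) W := by
  refine ⟨h.isPGroup.of_equiv (Subgroup.equivSMul _ A), fun a ha v => mem_fixedSub_smul.2 ?_⟩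
  obtain ⟨b, hb, rfl⟩ := (Subgroup.mem_smul_pointwise_iff_exists _ _ _).1 ha
  show g⁻¹ • ((g * b * g⁻¹) • v - v) ∈ _
  have := h.quad b hb (g⁻¹ • v)
  rwa [smul_sub, mul_smul, mul_smul, inv_smul_smul]

theorem IsQuad.sub_mul {p : ℕ} {A : Subgroup H} (h : IsQuad p A W) {a b : H} (ha : a ∈ A)
    (hb : b ∈ A) (v : W) : (a * b) • v - v = (a • v - v) + (b • v - v) := by
  have := h.quad b hb v a ha
  rw [smul_sub, sub_eq_iff_eq_add] at this
  rw [mul_smul, this]
  abel

/-- A subgroup fixing `C` pointwise and moving everything into `C` is quadratic. -/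
theorem quad_of_le_seriesStab {A : Subgroup H} {C : AddSubgroup W} (h : A ≤ seriesStab C) :
    ∀ a ∈ A, ∀ v : W, a • v - v ∈ fixedSub A :=
  fun _ ha v _ hb => (mem_seriesStab.1 (h hb)).1 _ ((mem_seriesStab.1 (h ha)).2 v)

namespace Base

variable {p : ℕ} [Fact p.Prime] {T : Sylow p H} {M : Subgroup H} (h : Base p T M W)
include h

theorem ne_top : M ≠ ⊤ := h.coatom.1

theorem commute_of_quad {A : Subgroup H} (hA : IsQuad p A W) {a b : H} (ha : a ∈ A) (hb : b ∈ A) :
    a * b = b * a := by
  have : (b * a)⁻¹ * (a * b) = 1 := h.faithful _ fun v => by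
    have e : (a * b) • v = (b * a) • v := by
      have := (hA.sub_mul ha hb v).trans ((add_comm _ _).trans (hA.sub_mul hb ha v).symm)
      exact sub_left_injective this
    rw [mul_smul, e, inv_smul_smul]
  exact (inv_mul_eq_one.1 this).symm

theorem pow_eq_one_of_mem_seriesStab {C : AddSubgroup W} {g : H} (hg : g ∈ seriesStab C) :
    g ^ p = 1 :=
  h.faithful _ fun v => by rw [pow_smul_of_mem_seriesStab hg, h.exponent, add_zero]

theorem isQuad_seriesStab (C : AddSubgroup W) : IsQuad p (seriesStab C : Subgroup H) W :=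
  ⟨fun g => ⟨1, Subtype.ext (by simpa using h.pow_eq_one_of_mem_seriesStab g.2)⟩,
    quad_of_le_seriesStab le_rfl⟩

theorem pow_eq_of_quad {A : Subgroup H} (hA : IsQuad p A W) {a : H} (ha : a ∈ A) : a ^ p = 1 :=
  h.pow_eq_one_of_mem_seriesStab (C := fixedSub A)
    (mem_seriesStab.2 ⟨fun _ hv => hv a ha, hA.quad a ha⟩)

variable [Finite H]

/-- A proper subgroup containing `T` lies in `M`. -/
theorem le_M_of_sylow_le {X : Subgroup H} (hX : (T : Subgroup H) ≤ X) (hne : X ≠ ⊤) : X ≤ M := by
  obtain ⟨N, hN, hle⟩ := (eq_top_or_exists_le_coatom X).resolve_left hne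
  exact (h.unique N hN (hX.trans hle)) ▸ hle

theorem isMinimalOver : Cfsg.IsMinimalOver (T : Subgroup H) := by
  refine ⟨?_, M, ⟨h.coatom, h.sylow_le⟩, fun N hN => h.unique N hN.1 hN.2⟩
  set N := Subgroup.normalClosure ((T : Subgroup H) : Set H)
  have hTN : (T : Subgroup H) ≤ N := Subgroup.le_normalClosure
  by_contra hne
  have hfr := Sylow.normalizer_sup_eq_top (T.subtype hTN)
  rw [Sylow.coe_subtype, Subgroup.map_subgroupOf_eq_of_le hTN] at hfr
  exact h.ne_top (top_le_iff.1 (hfr ▸ sup_le (h.le_M_of_sylow_le Subgroup.le_normalizer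
    fun e => h.not_normal (Subgroup.normalizer_eq_top_iff.1 e)) (h.le_M_of_sylow_le hTN hne)))

theorem conj_eq_M_of_le {g : H} (hg : MulAut.conj g • (T : Subgroup H) ≤ M) :
    MulAut.conj g • M = M := by
  have hco : IsCoatom (MulAut.conj g⁻¹ • M) :=
    (OrderIso.isCoatom_iff (MulEquiv.mapSubgroup (MulAut.conj g⁻¹)) M).2 h.coatom
  have h1 : (T : Subgroup H) ≤ MulAut.conj g⁻¹ • M := by
    rw [map_inv]; exact Subgroup.pointwise_smul_subset_iff.1 hg
  have h2 := h.unique _ hco h1
  conv_lhs => rw [← h2]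
  rw [LLemma.conj_conj, mul_inv_cancel, map_one, one_smul]

/-- The hypotheses are invariant under conjugation. -/
theorem conj (g : H) : Base p (g • T) (MulAut.conj g • M) W where
  faithful := h.faithful
  exponent := h.exponent
  coatom := (OrderIso.isCoatom_iff (MulEquiv.mapSubgroup (MulAut.conj g)) M).2 h.coatom
  sylow_le := Subgroup.pointwise_smul_le_pointwise_smul_iff.2 h.sylow_le
  unique N hN hTN := by
    have h1 : (T : Subgroup H) ≤ MulAut.conj g⁻¹ • N := by
      rw [map_inv]; exact Subgroup.pointwise_smul_subset_iff.1 hTN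
    rw [← h.unique _ ((OrderIso.isCoatom_iff (MulEquiv.mapSubgroup (MulAut.conj g⁻¹)) N).2 hN) h1]
    show N = MulAut.conj g • MulAut.conj g⁻¹ • N
    rw [LLemma.conj_conj, mul_inv_cancel, map_one, one_smul]
  not_normal hn := by
    refine h.not_normal ?_
    have e := hn.map (MulAut.conj g⁻¹).toMonoidHom (MulAut.conj g⁻¹).surjective
    have e2 : MulAut.conj g⁻¹ • ((g • T : Sylow p H) : Subgroup H) = (T : Subgroup H) := by
      rw [Sylow.coe_subgroup_smul, LLemma.conj_conj, inv_mul_cancel, map_one, one_smul]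
    rw [← e2]
    exact e
  core := h.core

end Base

namespace Setting

variable {p : ℕ} [Fact p.Prime] {T : Sylow p H} {M : Subgroup H} (h : Setting p T M W) [Finite H]
include h

theorem conj (g : H) : Setting p (g • T) (MulAut.conj g • M) W where
  toBase := h.toBase.conj g
  moved k hk := by
    have hk' : g⁻¹ * k * g ∉ M := fun e => hk (by
      have := LLemma.conj_mem_conj (a := g) e
      simpa [mul_assoc] using this)
    obtain ⟨v, hv, hne⟩ := h.moved _ hk'
    refine ⟨g • v, ?_, fun e => hne ?_⟩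
    · rw [Sylow.coe_subgroup_smul]
      exact mem_fixedSub_smul.2 (by rwa [inv_smul_smul])
    · rw [mul_smul, mul_smul, e, inv_smul_smul]

end Setting

end CfsgLib.FFModules.MinimalParabolic
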