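import Cfsg.Agent.Lib.FFModules.MinimalParabolic.Compat

/-!
Normal forms of a second root pair over a field with four elements.
-/

set_option autoImplicit false
set_option linter.style.haveILetI false
set_option linter.unusedSectionVars false

namespace CfsgLib.FFModules.MinimalParabolic

open SL2Pair Matrix
open scoped Pointwise MatrixGroups

variable {H W : Type*} [Group H] [AddCommGroup W] [DistribMulAction H W] [Finite H] [Finite W]
variable {p : ℕ} [Fact p.Prime] {T : Sylow p H} {M : Subgroup H}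
variable {A : Subgroup H} {F : Type} [Field F] [Finite F]

namespace RootPair

variable (R : RootPair A W F)

omit [Finite W] [Finite F] in
theorem conj_smul_self (d : A) : MulAut.conj (d : H) • A = A :=
  LLemma.conj_eq_of_mem_normalizer (Subgroup.le_normalizer d.2)

omit [Finite W] [Finite F] in
theorem conj_ψ (g : H) {A' : Subgroup H} (e : MulAut.conj g • A = A') (v : W) :
    (R.conj g e).ψ v = R.ψ (g⁻¹ • v) := rfl

omit [Finite W] [Finite F] in
theorem conj_torus (g : H) {A' : Subgroup H} (e : MulAut.conj g • A = A') (l : Fˣ) :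
    ((R.conj g e).torus l : H) = g * (R.torus l : H) * g⁻¹ := rfl

theorem conj_proj (g : H) {A' : Subgroup H} (e : MulAut.conj g • A = A') (v : W) :
    (R.conj g e).proj v = g • R.proj (g⁻¹ • v) := by
  haveI := Fintype.ofFinite Fˣ
  rw [proj_apply, proj_apply, smul_neg, Finset.smul_sum]
  congr 1
  exact Finset.sum_congr rfl fun m _ => by rw [conj_torus, mul_smul, mul_smul]

omit [Finite F] in
theorem coord_eq_of (b : A) (c : F) (h : ∀ v, R.ψ ((b : H) • v) 0 = R.ψ v 0 + c * R.ψ v 1) :
    R.coord b = c := by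
  obtain ⟨v, hv⟩ := R.surj ![0, 1]
  have h1 := h v
  rw [R.ψ_smul, hv] at h1
  simpa using h1

variable {R} {R' : RootPair A W F}

/-- Moving the second pair by the root group. -/
noncomputable def Compat.conjA [Fact p.Prime] {T : Sylow p H} {M : Subgroup H}
    (hb : Big p T M A W F) (C : R.Compat R') (d : A) :
    R.Compat (R'.conj (d : H) (conj_smul_self d)) where
  σ := C.σ
  a := C.a
  b := C.b
  a_ne := C.a_ne
  b_ne := C.b_ne
  coord c := by
    rw [← C.coord]
    refine coord_eq_of _ c _ fun v => ?_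
    rw [conj_ψ, conj_ψ, ← mul_smul,
      hb.set.commute_of_quad hb.isMin.toIsQuad (A.inv_mem d.2) c.2, mul_smul, R'.ψ_smul]
    rfl
  quot v := by
    rw [← C.quot, conj_ψ, ← Subgroup.coe_inv, R'.ψ_smul]
    rfl
  line v hv h0 := by
    obtain ⟨h1, h2⟩ := C.line v hv h0
    rw [conj_ψ, conj_proj, hv _ (A.inv_mem d.2), h1, smul_zero]
    exact ⟨rfl, h2⟩

end RootPair

namespace Big

variable (hb : Big p T M A W F) {R R' : RootPair A W F}
include hb

theorem two_of_four (hF : Nat.card F = 4) (R : RootPair A W F) : p = 2 := by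
  have h1 := hb.p_dvd
  rw [← R.card, hF, show 4 = 2 ^ 2 from rfl] at h1
  exact (Nat.prime_dvd_prime_iff_eq Fact.out Nat.prime_two).1 ((Fact.out : p.Prime).dvd_of_dvd_pow h1)

theorem shift_conjA (C : R.Compat R') (d : A) (x : F) :
    hb.shift (C.conjA hb d) x = hb.shift C x + R.coord d⁻¹ * x := by
  have h1 := hb.ψ_shift (C.conjA hb d) (hb.sx R x)
  rw [RootPair.conj_ψ, ← Subgroup.coe_inv, R'.ψ_smul, hb.ψ_sx] at h1
  simp only [Matrix.cons_val_zero, Matrix.cons_val_one, zero_add] at h1
  rw [hb.ψ_shift C, C.quot, C.coord, hb.ψ_sx] at h1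
  simp only [Matrix.cons_val_zero, Matrix.cons_val_one, zero_add] at h1
  have h2 : C.a * C.b * C.σ (hb.shift C x + R.coord d⁻¹ * x) =
      C.a * C.b * C.σ (hb.shift (C.conjA hb d) x) := by
    refine Eq.trans ?_ h1
    rw [map_add, map_mul]; ring
  exact (C.σ.injective (mul_left_cancel₀ (mul_ne_zero C.a_ne C.b_ne) h2)).symm

/-- An equivariant shift means equal tori. -/
theorem torus_eq_of_shift (C : R.Compat R') (l : Fˣ)
    (h : ∀ x, hb.shift C (((l⁻¹ : Fˣ) : F) * x) = (l : F) * hb.shift C x) :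
    (R'.torus (Units.map (C.σ : F →* F) l) : H) = (R.torus l : H) := by
  obtain ⟨a, ha, e⟩ := hb.torus_eq C l
  have h1 := hb.ψ_shift C ((R'.torus (Units.map (C.σ : F →* F) l) : H) • hb.sx R 1)
  conv_rhs at h1 => rw [e, mul_smul, hb.torus_sx, R.ψ_smul ⟨a, ha⟩, hb.ψ_sx]
  rw [R'.ψ_torus, Matrix.cons_val_zero, hb.ψ_shift C, hb.ψ_sx] at h1
  simp only [Matrix.cons_val_zero, Matrix.cons_val_one, zero_add, Units.coe_map,
    MonoidHom.coe_coe] at h1
  rw [mul_left_comm, ← map_mul, h] at h1
  have h2 := C.σ.injective (mul_left_cancel₀ (mul_ne_zero C.a_ne C.b_ne) h1)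
  rw [right_eq_add] at h2
  have ha0 : R.coord ⟨a, ha⟩ = 0 := by simpa using h2
  rw [e, show a = 1 from congrArg Subtype.val (R.coord_eq_zero.1 ha0), one_mul]

/-- Equal tori give the same projection. -/
theorem proj_eq_of_torus (R R' : RootPair A W F) (σ : Fˣ ≃ Fˣ)
    (h : ∀ l, (R'.torus (σ l) : H) = (R.torus l : H)) (v : W) : R'.proj v = R.proj v := by
  haveI := Fintype.ofFinite Fˣ
  rw [R'.proj_apply, R.proj_apply, ← Equiv.sum_comp σ fun m => (R'.torus m : H) • v]
  simp only [h]

/-- Over four elements, a nonlinear shift can be made purely quadratic, with equal tori. -/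
theorem exists_graph (hF : Nat.card F = 4) (C : R.Compat R') {c k : F}
    (hk : ∀ x, hb.shift C x = c * x + k * x ^ 2) :
    ∃ (R'' : RootPair A W F) (C'' : R.Compat R''), R''.E = R'.E ∧
      (∀ v, R''.proj v = R.proj v) ∧ ∀ x, hb.shift C'' x = k * x ^ 2 := by
  set d : A := R.root c with hd
  have hinv : R.coord d⁻¹ = -c := by
    have h1 := R.coord_mul d d⁻¹
    rw [mul_inv_cancel, R.coord_eq_zero.2 rfl, hd, R.coord_root] at h1
    linear_combination -h1
  have hsh : ∀ x, hb.shift (C.conjA hb d) x = k * x ^ 2 := fun x => by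
    rw [hb.shift_conjA C d x, hk, hinv]; ring
  refine ⟨_, C.conjA hb d, ?_, ?_, hsh⟩
  · exact LLemma.conj_eq_of_mem_normalizer (Subgroup.le_normalizer (R'.le d.2))
  · refine hb.proj_eq_of_torus R _ (Units.mapEquiv (C.σ : F ≃* F)).toEquiv fun l => ?_
    refine hb.torus_eq_of_shift (C.conjA hb d) l fun x => ?_
    haveI := Fintype.ofFinite F
    have h3 := FiniteField.pow_card_sub_one_eq_one (l : F) l.ne_zero
    rw [← Nat.card_eq_fintype_card, hF] at h3
    rw [hsh, hsh, Units.val_inv_eq_inv_val]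
    have hl := l.ne_zero
    field_simp
    linear_combination -(k * x ^ 2) * h3

end Big

end CfsgLib.FFModules.MinimalParabolic
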