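import Cfsg.Agent.Lib.FFModules.MinimalParabolic.SymStructure

/-!
The structure of a `p`-minimal group with an offender: a product of commuting `SL₂`s or symmetric
groups times a Sylow subgroup.
-/

set_option autoImplicit false
set_option linter.style.haveILetI false
set_option linter.unusedSectionVars false

namespace CfsgLib.FFModules.MinimalParabolic

open SL2Pair
open scoped Pointwise

variable {H W : Type*} [Group H] [AddCommGroup W] [DistribMulAction H W]

theorem smul_mem_moves_self {E : Subgroup H} {e : H} (he : e ∈ E) {m : W} (hm : m ∈ moves E W) : e • m ∈ moves E W :=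
  sub_add_cancel (e • m) m ▸ add_mem (sub_mem_moves he m) hm

theorem conj_zpowers (g a : H) :
    MulAut.conj g • Subgroup.zpowers a = Subgroup.zpowers (g * a * g⁻¹) :=
  MonoidHom.map_zpowers _ a

section Component

variable [Module (ZMod 2) W] [Finite H] [Finite W]
variable {T : Sylow 2 H} {M : Subgroup H} {D : Set H} {P : Finset W}

theorem IsComp.translate (hC : IsComp T M D P) {g : H} (hg : g ∉ conjStab (edges D P)) :
    (∀ x ∈ Subgroup.closure (edges D P), ∀ y ∈ MulAut.conj g • Subgroup.closure (edges D P),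
      x * y = y * x) ∧
    moves (Subgroup.closure (edges D P)) W ≤
      fixedSub (MulAut.conj g • Subgroup.closure (edges D P)) := by
  set K := Subgroup.closure (edges D P) with hK
  have h1 : ∀ e ∈ edges D P, ∀ k ∈ K, e * (g * k * g⁻¹) = g * k * g⁻¹ * e := by
    intro e he k hk
    have hle : K ≤ Subgroup.centralizer ({g⁻¹ * e * g} : Set H) :=
      (Subgroup.closure_le _).2 fun d hd => Subgroup.mem_centralizer_iff.2 fun z hz => by
        rw [Set.mem_singleton_iff.1 hz]
        calc g⁻¹ * e * g * d = g⁻¹ * (e * (g * d * g⁻¹)) * g := by group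
          _ = g⁻¹ * (g * d * g⁻¹ * e) * g := by rw [hC.commute_translate hg hd he]
          _ = d * (g⁻¹ * e * g) := by group
    have h2 := Subgroup.mem_centralizer_iff.1 (hle hk) _ rfl
    calc e * (g * k * g⁻¹) = g * (g⁻¹ * e * g * k) * g⁻¹ := by group
      _ = g * (k * (g⁻¹ * e * g)) * g⁻¹ := by rw [h2]
      _ = g * k * g⁻¹ * e := by group
  have h2 : ∀ x ∈ K, ∀ y ∈ MulAut.conj g • K, x * y = y * x := by
    intro x hx y hy
    obtain ⟨k, hk, rfl⟩ := (Subgroup.mem_smul_pointwise_iff_exists _ _ _).1 hy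
    have hle : K ≤ Subgroup.centralizer ({g * k * g⁻¹} : Set H) :=
      (Subgroup.closure_le _).2 fun e he => Subgroup.mem_centralizer_iff.2 fun z hz => by
        rw [Set.mem_singleton_iff.1 hz]
        exact (h1 e he k hk).symm
    exact (Subgroup.mem_centralizer_iff.1 (hle hx) _ rfl).symm
  refine ⟨h2, moves_le_iff.2 fun x hx v => ?_⟩
  set Z : AddSubgroup W := fixedSub (MulAut.conj g • K) with hZ
  have hle : K ≤ trivOn Z := (Subgroup.closure_le _).2 fun e he => mem_trivOn.2
    ⟨fun z hz => smul_mem_fixedSub_of_comm (fun y hy => (h2 e (Subgroup.subset_closure he) y hy).symm) hz,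
      fun v => by
        have hvec : (vec e : W) ∈ Z := by
          refine mem_fixedSub_smul.2 ?_
          have hle' : K ≤ MulAction.stabilizer H (g⁻¹ • (vec e : W)) := by
            refine (Subgroup.closure_le _).2 fun d hd => MulAction.mem_stabilizer_iff.2 ?_
            have hgd := hC.tvs.conj g d hd.1
            have h0 : coef (g * d * g⁻¹) (vec e : W) = 0 :=
              hC.tvs.coef_of_commute hgd he.1 (hC.commute_translate hg hd he).symm
            have h1 := hC.tvs.smul_eq hgd (vec e : W)
            rw [h0, zero_smul, add_zero, mul_smul, mul_smul] at h1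
            rw [← inv_smul_smul g (d • g⁻¹ • (vec e : W)), h1]
          exact fun k hk => MulAction.mem_stabilizer_iff.1 (hle' hk)
        rw [hC.tvs.smul_eq he.1 v, add_sub_cancel_left]
        rcases zmod_two_eq (coef e v) with h | h <;> rw [h]
        · rw [zero_smul]; exact zero_mem _
        · rw [one_smul]; exact hvec⟩
  exact (mem_trivOn.1 (hle hx)).2 v

end Component

variable [Finite H] [Finite W]

/-- Root groups of order two. -/
theorem Setting.hasStructure_two {T : Sylow 2 H} {M : Subgroup H} (h : Setting 2 T M W)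
    {A : Subgroup H} (hA : IsMin 2 A W) (hq : Nat.card A = 2) (hAT : A ≤ (T : Subgroup H))
    {F : Type} [Field F] [Finite F] (R : RootPair A W F) (hEM : ¬ R.E ≤ M) :
    HasStructure 2 (T : Subgroup H) A W := by
  classical
  letI : Module (ZMod 2) W := AddCommGroup.zmodModule h.exponent
  obtain ⟨a, ha, ha1⟩ := R.exists_ne_one
  have hza : Subgroup.zpowers a = A := by
    refine Subgroup.eq_of_le_of_card_ge (Subgroup.zpowers_le.2 ha) ?_
    rw [hq]
    have : Nat.card (Subgroup.zpowers a) ≠ 1 := fun e =>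
      ha1 (Subgroup.zpowers_eq_bot.1 (Subgroup.eq_bot_of_card_eq _ e))
    have h0 : 0 < Nat.card (Subgroup.zpowers a) := Nat.card_pos
    omega
  have hE : R.E = Subgroup.zpowers a ⊔ Subgroup.zpowers ((R.weyl : H) * a * (R.weyl : H)⁻¹) := by
    rw [← conj_zpowers]
    exact R.eq_sup_weyl.trans (congrArg (fun X => X ⊔ MulAut.conj (R.weyl : H) • X) hza.symm)
  set D : Set H := {d | ∃ g : H, g * a * g⁻¹ = d} with hDdef
  have hzD : ∀ d ∈ D, ∃ g : H, Subgroup.zpowers d = MulAut.conj g • A := by
    rintro _ ⟨g, rfl⟩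
    exact ⟨g, by rw [← hza, conj_zpowers]⟩
  have hD : Tvs T M D W :=
    { set := h
      conj := by
        rintro g _ ⟨k, rfl⟩
        exact ⟨g * k, by group⟩
      isMin := fun d hd => by
        obtain ⟨g, e⟩ := hzD d hd
        rw [e]; exact hA.smul g
      two := fun d hd => by
        obtain ⟨g, e⟩ := hzD d hd
        rw [e, card_smul_subgroup, hq] }
  have haD : a ∈ D := ⟨1, by simp⟩
  set w : H := (R.weyl : H)
  have ha'D : w * a * w⁻¹ ∈ D := hD.conj _ _ haD
  have hrel : coef a (vec (w * a * w⁻¹) : W) = 1 := by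
    refine (zmod_two_eq _).resolve_left fun e => R.not_centralise ?_
    have hc := hD.commute_of_coef haD ha'D e (hD.coef_symm haD ha'D ▸ e)
    have hle : R.E ≤ Subgroup.centralizer ({a} : Set H) := by
      refine hE.le.trans ?_
      refine sup_le (Subgroup.zpowers_le.2 (Subgroup.mem_centralizer_iff.2 fun z hz => ?_))
        (Subgroup.zpowers_le.2 (Subgroup.mem_centralizer_iff.2 fun z hz => ?_))
      · rw [Set.mem_singleton_iff.1 hz]
      · rw [Set.mem_singleton_iff.1 hz]; exact hc
    intro b hb
    rw [← hza] at hb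
    obtain ⟨i, rfl⟩ := Subgroup.mem_zpowers_iff.1 hb
    exact ((show Commute a w from Subgroup.mem_centralizer_iff.1 (hle R.weyl.2) a rfl).zpow_left i).eq
  obtain ⟨P, hP, haP, ha'P, hclosed⟩ := hD.exists_closed_frame haD ha'D hrel
  set K := Subgroup.closure (edges D P) with hK
  have hEK : R.E ≤ K := by
    refine hE.le.trans ?_
    exact sup_le (Subgroup.zpowers_le.2 (Subgroup.subset_closure haP))
      (Subgroup.zpowers_le.2 (Subgroup.subset_closure ha'P))
  have hC : IsComp T M D P :=
    { toIsFrame := hP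
      tvs := hD
      closed := hclosed
      sup_top := by
        by_contra hne
        exact hEM (hEK.trans (le_sup_left.trans (h.le_M_of_sylow_le le_sup_right hne)))
      not_le := fun hle => hEM (hEK.trans ((Subgroup.closure_le _).2 hle)) }
  obtain ⟨n, hn, hcard⟩ := hC.exists_degree (by
    rintro _ ⟨g, rfl⟩ _ ⟨g', rfl⟩
    exact ⟨g' * g⁻¹, by group⟩)
  have hodd : Odd P.card := by
    rw [hcard]
    exact (Nat.even_pow.2 ⟨even_two, by omega⟩).add_one
  have hKn : K ≤ Subgroup.normalClosure (A : Set H) := (Subgroup.closure_le _).2 <| by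
    rintro d ⟨⟨g, rfl⟩, -⟩
    exact Subgroup.normalClosure_normal.conj_mem a (Subgroup.subset_normalClosure ha) g
  refine hasStructure_of_orbit (E₀ := K) hKn (fun s hs t ht hne => ?_)
    (fun t _ => moves_sup_fix_smul (hC.moves_sup_fix hodd) t) ?_
    fun t _ => Or.inr ⟨rfl, (hC.isSymComp hodd hn hcard).smul t⟩
  · have hg : s⁻¹ * t ∉ conjStab (edges D P) := fun hst => hne <| by
      have e : MulAut.conj (s⁻¹ * t) • K = K := by
        refine Subgroup.eq_of_le_of_card_ge ?_ (card_smul_subgroup K _).ge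
        rw [Subgroup.pointwise_smul_subset_iff, Subgroup.closure_le]
        intro d hd
        exact Subgroup.mem_inv_pointwise_smul_iff.2 (Subgroup.subset_closure (hst d hd))
      conv_lhs => rw [← e]
      rw [LLemma.conj_conj, mul_inv_cancel_left]
    obtain ⟨hcm, hmv⟩ := hC.translate hg
    refine ⟨fun x hx y hy => ?_, fun v hv => ?_⟩
    · obtain ⟨x', hx', rfl⟩ := (Subgroup.mem_smul_pointwise_iff_exists _ _ _).1 hx
      clear hx
      obtain ⟨y', hy', rfl⟩ := (Subgroup.mem_smul_pointwise_iff_exists _ _ _).1 hy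
      clear hy
      rename' x' => x, hx' => hx, y' => y, hy' => hy
      have h1 := hcm x hx _ (LLemma.conj_mem_conj (a := s⁻¹ * t) hy)
      show s * x * s⁻¹ * (t * y * t⁻¹) = t * y * t⁻¹ * (s * x * s⁻¹)
      calc s * x * s⁻¹ * (t * y * t⁻¹) = s * (x * (s⁻¹ * t * y * (s⁻¹ * t)⁻¹)) * s⁻¹ := by group
        _ = s * (s⁻¹ * t * y * (s⁻¹ * t)⁻¹ * x) * s⁻¹ := by rw [h1]
        _ = t * y * t⁻¹ * (s * x * s⁻¹) := by group
    · have h1 := mem_fixedSub_smul.1 (hmv (moves_smul K s hv))
      rw [mul_inv_rev, inv_inv, mul_smul, smul_inv_smul] at h1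
      exact mem_fixedSub_smul.2 h1
  · refine eq_top_iff.2 (hC.sup_top ▸ sup_le_sup_right (le_iSup_of_le 1 ?_) _)
    simp [hK]

variable {p : ℕ} [Fact p.Prime] {T : Sylow p H} {M : Subgroup H}

/-- The structure theorem. -/
theorem Setting.hasStructure (h : Setting p T M W) {B : Subgroup H} (hB : IsMin p B W) :
    HasStructure p (T : Subgroup H) B W := by
  classical
  obtain ⟨F, hF, hF', R, g, hBT, hEM⟩ := exists_rootPair_not_le h hB
  set A := MulAut.conj g⁻¹ • B with hA'
  have hA : IsMin p A W := hB.smul _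
  have hAT : A ≤ (T : Subgroup H) := by
    rw [hA', map_inv]
    exact Subgroup.subset_pointwise_smul_iff.1 hBT
  have hEM' : ¬ (R.conj g⁻¹ (rfl : _ = A)).E ≤ M := fun hle => hEM <| by
    rw [RootPair.conj_E, map_inv] at hle
    exact Subgroup.subset_pointwise_smul_iff.2 hle
  suffices hs : HasStructure p (T : Subgroup H) A W by
    obtain ⟨r, E, hr, hE, htop, hconj, htype, hle, hperm⟩ := hs
    refine ⟨r, E, hr, hE, htop, hconj, htype, fun i => (hle i).trans ?_, hperm⟩
    refine Subgroup.normalClosure_le_normal fun y hy => ?_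
    obtain ⟨b, hb, rfl⟩ := (Subgroup.mem_smul_pointwise_iff_exists _ _ _).1 (show y ∈ A from hy)
    exact Subgroup.normalClosure_normal.conj_mem b (Subgroup.subset_normalClosure hb) g⁻¹
  rcases Nat.lt_or_ge 2 (Nat.card A) with hq | hq
  · exact h.hasStructure_big hA hq hAT _ hEM'
  · obtain ⟨k, hk⟩ := hA.isPGroup.exists_card_eq
    have hp := (Fact.out : p.Prime).two_le
    have hk1 : k ≠ 0 := fun e => hA.ne_bot (Subgroup.eq_bot_of_card_eq _ (by rw [hk, e, pow_zero]))
    have hpk : p ≤ p ^ k := Nat.le_self_pow hk1 p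
    obtain rfl : p = 2 := by omega
    exact h.hasStructure_two hA (by omega) hAT _ hEM'

end CfsgLib.FFModules.MinimalParabolic
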