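import Cfsg.Agent.Lib.FFModules.MinimalParabolic.SymMatching

/-!
The degree of a component is one more than a power of two.
-/

set_option autoImplicit false
set_option linter.style.haveILetI false
set_option linter.unusedSectionVars false

namespace CfsgLib.FFModules.MinimalParabolic

open SL2Pair
open scoped Pointwise

variable {H W : Type*} [Group H] [AddCommGroup W] [DistribMulAction H W] [Module (ZMod 2) W]
variable [Finite H] [Finite W]

/-- All edges between the two vertices lie in `M`. -/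
def Joined (M : Subgroup H) (D : Set H) (p q : W) : Prop :=
  ∀ e ∈ D, (vec e : W) = p + q → e ∈ M

namespace IsComp

variable {T : Sylow 2 H} {M : Subgroup H} {D : Set H} {P : Finset W} (hC : IsComp T M D P)
include hC

theorem joined_symm {p q : W} (h : Joined M D p q) : Joined M D q p := fun e he hv =>
  h e he (hv.trans (add_comm _ _))

open Classical in
theorem joined_trans {p q r : W} (hp : p ∈ P) (hq : q ∈ P) (hr : r ∈ P) (h1 : Joined M D p q)
    (h2 : Joined M D q r) : Joined M D p r := by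
  rcases eq_or_ne p q with rfl | hpq
  · exact h2
  rcases eq_or_ne q r with rfl | hqr
  · exact h1
  rcases eq_or_ne p r with rfl | hpr
  · intro e he hv
    exact absurd (hv.trans (add_self_eq p)) (hC.tvs.vec_ne he)
  intro e he hv
  obtain ⟨a, ha, hva⟩ := hC.edge p hp q hq hpq
  obtain ⟨b, hb, hvb⟩ := hC.edge q hq r hr hqr
  have hab : a * b * a⁻¹ = e := by
    refine hC.tvs.vec_injOn (hC.tvs.conj a b hb) he ?_
    rw [hC.tvs.vec_conj a hb, hvb, hC.tvs.smul_edge hC.toIsFrame hp hq hpq ha hva hq hr, hv,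
      Equiv.swap_apply_right, Equiv.swap_apply_of_ne_of_ne hpr.symm hqr.symm]
  rw [← hab]
  exact M.mul_mem (M.mul_mem (h1 a ha hva) (h2 b hb hvb)) (M.inv_mem (h1 a ha hva))

theorem not_all_joined {c : W} (hc : c ∈ P) : ¬ ∀ p ∈ P, Joined M D p c := fun h =>
  hC.not_le <| by
    rintro e ⟨he, p, hp, q, hq, -, hv⟩
    exact hC.joined_trans hp hc hq (h p hp) (hC.joined_symm (h q hq)) e he hv

theorem stab_inv_closure {t : H} (ht : t ∈ conjStab (edges D P)) {x : H}
    (hx : x ∈ Subgroup.closure (edges D P)) : t * x * t⁻¹ ∈ Subgroup.closure (edges D P) := by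
  have hle : Subgroup.closure (edges D P) ≤
      (Subgroup.closure (edges D P)).comap (MulAut.conj t).toMonoidHom :=
    (Subgroup.closure_le _).2 fun d hd => Subgroup.subset_closure (ht d hd)
  exact hle hx

open Classical in
/-- Edges inside the parts of an invariant set of matched edges lie in `M`. -/
theorem joined_of_part (O : Set H)
    (hinv : ∀ t ∈ (T : Subgroup H), t ∈ conjStab (edges D P) →
      (∀ d ∈ edges D P, d ∈ (T : Subgroup H) → (t * d * t⁻¹ ∈ O ↔ d ∈ O)) ∨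
      ((∀ p ∈ P, mate (T : Set H) D P p ≠ none) ∧
        ∀ d ∈ edges D P, d ∈ (T : Subgroup H) → (t * d * t⁻¹ ∈ O ↔ d ∉ O)))
    {a b c : W} (ha : a ∈ P) (hb : b ∈ P) (hc : c ∈ P) (hab : a ≠ b)
    (hpab : InPart (T : Set H) D P O a ↔ InPart (T : Set H) D P O b)
    (hpac : ¬ (InPart (T : Set H) D P O a ↔ InPart (T : Set H) D P O c))
    {p q : W} (hp : p ∈ P) (hq : q ∈ P)
    (hpq : InPart (T : Set H) D P O p ↔ InPart (T : Set H) D P O q) : Joined M D p q := by
  set part := InPart (T : Set H) D P O with hpart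
  set Ω : Set H := {e | e ∈ edges D P ∧ Within (T : Set H) D P O e} with hΩ
  have hwithin : ∀ {u v : W}, u ∈ P → v ∈ P → ∀ {e : H}, (vec e : W) = u + v →
      (Within (T : Set H) D P O e ↔ (part u ↔ part v)) := fun hu hv _ h => hC.within_iff O hu hv h
  have hsub : Ω ⊆ (M : Set H) := by
    refine hC.mem_M (S₀ := Ω) (Ω := Ω) (fun e he => Subgroup.subset_closure he.1) ?_ ?_
      (fun e he => he.1) ?_ ?_
    · -- invariance
      rintro t ht hts e ⟨he, hw⟩
      refine ⟨hts e he, ?_⟩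
      have hrel : ∀ d ∈ edges D P, d ∈ (T : Set H) → ∃ d', d' ∈ edges D P ∧ d' ∈ (T : Set H) ∧
          t * d' * t⁻¹ = d ∧ coef d (vec (t * e * t⁻¹) : W) = coef d' (vec e : W) := by
        intro d hd hdT
        have h1 := (conjStab (edges D P)).inv_mem hts d hd
        rw [inv_inv] at h1
        have e1 : t * (t⁻¹ * d * t) * t⁻¹ = d := by group
        refine ⟨t⁻¹ * d * t, h1, mul_mem (mul_mem (inv_mem ht) hdT) ht, e1, ?_⟩
        have h2 := hC.rel_conj h1.1 he.1 t
        rwa [e1] at h2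
      rcases hinv t ht hts with hsame | ⟨hcov, hswap⟩
      · rcases hw with h | ⟨h, hu⟩
        · refine Or.inl fun d hd hdT h1 => ?_
          obtain ⟨d', hd', hdT', e1, e2⟩ := hrel d hd hdT
          rw [← e1, hsame d' hd' hdT']
          exact h d' hd' hdT' (e2 ▸ h1)
        · refine Or.inr ⟨fun d hd hdT h1 => ?_, ?_⟩
          · obtain ⟨d', hd', hdT', e1, e2⟩ := hrel d hd hdT
            rw [← e1, hsame d' hd' hdT']
            exact h d' hd' hdT' (e2 ▸ h1)
          · rintro ⟨d, ⟨hd, hdT, h1⟩, huniq⟩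
            obtain ⟨d', hd', hdT', e1, e2⟩ := hrel d hd hdT
            refine hu ⟨d', ⟨hd', hdT', e2 ▸ h1⟩, fun x hx => ?_⟩
            have h3 := huniq (t * x * t⁻¹) ⟨hts x hx.1, mul_mem (mul_mem ht hx.2.1) (inv_mem ht),
              by rw [hC.rel_conj hx.1.1 he.1 t]; exact hx.2.2⟩
            rw [← e1] at h3
            exact mul_left_cancel (mul_right_cancel h3)
      · -- the parts are exchanged and every vertex is matched
        obtain ⟨-, u, hu', v, hv', -, hev⟩ := id he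
        have hnu : ¬ ∃! d, d ∈ edges D P ∧ d ∈ (T : Set H) ∧ coef d (vec e : W) = 1 := by
          rintro ⟨d, ⟨hd, hdT, h1⟩, huniq⟩
          obtain ⟨x, hx⟩ := Option.ne_none_iff_exists'.1 (hcov u hu')
          obtain ⟨y, hy⟩ := Option.ne_none_iff_exists'.1 (hcov v hv')
          rw [hev, hC.coef_matched hd hdT hu' hv', hx, hy] at h1
          have hxy : x ≠ y := fun e' => by
            subst e'
            by_cases h : x = d <;> simp [h] at h1
          have hrx : coef x (vec e : W) = 1 := by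
            rw [hev, hC.coef_matched (hC.mate_mem hu' hx).1 (hC.mate_mem hu' hx).2 hu' hv', hx, hy]
            simp [hxy.symm]
          have hry : coef y (vec e : W) = 1 := by
            rw [hev, hC.coef_matched (hC.mate_mem hv' hy).1 (hC.mate_mem hv' hy).2 hu' hv', hx, hy]
            simp [hxy]
          exact hxy ((huniq x ⟨(hC.mate_mem hu' hx).1, (hC.mate_mem hu' hx).2, hrx⟩).trans
            (huniq y ⟨(hC.mate_mem hv' hy).1, (hC.mate_mem hv' hy).2, hry⟩).symm)
        rcases hw with h | ⟨h, -⟩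
        · refine Or.inr ⟨fun d hd hdT h1 => ?_, ?_⟩
          · obtain ⟨d', hd', hdT', e1, e2⟩ := hrel d hd hdT
            rw [← e1, hswap d' hd' hdT', not_not]
            exact h d' hd' hdT' (e2 ▸ h1)
          · rintro ⟨d, ⟨hd, hdT, h1⟩, huniq⟩
            obtain ⟨d', hd', hdT', e1, e2⟩ := hrel d hd hdT
            refine hnu ⟨d', ⟨hd', hdT', e2 ▸ h1⟩, fun x hx => ?_⟩
            have h3 := huniq (t * x * t⁻¹) ⟨hts x hx.1, mul_mem (mul_mem ht hx.2.1) (inv_mem ht),
              by rw [hC.rel_conj hx.1.1 he.1 t]; exact hx.2.2⟩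
            rw [← e1] at h3
            exact mul_left_cancel (mul_right_cancel h3)
        · refine Or.inl fun d hd hdT h1 => ?_
          obtain ⟨d', hd', hdT', e1, e2⟩ := hrel d hd hdT
          rw [← e1, hswap d' hd' hdT']
          exact h d' hd' hdT' (e2 ▸ h1)
    · obtain ⟨e, he, hv⟩ := hC.edge a ha b hb hab
      exact ⟨e, ⟨he, a, ha, b, hb, hab, hv⟩, ⟨he, a, ha, b, hb, hab, hv⟩, (hwithin ha hb hv).2 hpab⟩
    · -- preservation
      rintro s ⟨⟨hs, u, hu, v, hv, huv, hvs⟩, hw⟩ x ⟨⟨hx, r, hr, r', hr', hrr, hvx⟩, hwx⟩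
      have huv' := (hwithin hu hv hvs).1 hw
      have hrr' := (hwithin hr hr' hvx).1 hwx
      have hpres : ∀ {y : W}, y ∈ P → Equiv.swap u v y ∈ P ∧ (part (Equiv.swap u v y) ↔ part y) := by
        intro y hy
        rcases eq_or_ne y u with rfl | h1
        · rw [Equiv.swap_apply_left]; exact ⟨hv, huv'.symm⟩
        rcases eq_or_ne y v with rfl | h2
        · rw [Equiv.swap_apply_right]; exact ⟨hu, huv'⟩
        rw [Equiv.swap_apply_of_ne_of_ne h1 h2]; exact ⟨hy, Iff.rfl⟩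
      have hvec : (vec (s * x * s⁻¹) : W) = Equiv.swap u v r + Equiv.swap u v r' := by
        rw [hC.tvs.vec_conj s hx, hvx, hC.tvs.smul_edge hC.toIsFrame hu hv huv hs hvs hr hr']
      refine ⟨⟨hC.tvs.conj _ _ hx, _, (hpres hr).1, _, (hpres hr').1,
        (Equiv.swap u v).injective.ne hrr, hvec⟩, (hwithin (hpres hr).1 (hpres hr').1 hvec).2 ?_⟩
      rw [(hpres hr).2, (hpres hr').2]; exact hrr'
    · -- breaking
      have hbc : b ≠ c := fun e => hpac (e ▸ hpab)
      have hac : a ≠ c := fun e => hpac (e ▸ Iff.rfl)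
      obtain ⟨e, he, hv⟩ := hC.edge a ha c hc hac
      obtain ⟨x, hx, hvx⟩ := hC.edge a ha b hb hab
      refine ⟨e, ⟨he, a, ha, c, hc, hac, hv⟩, fun hstab => ?_⟩
      have h1 := hstab x ⟨⟨hx, a, ha, b, hb, hab, hvx⟩, (hwithin ha hb hvx).2 hpab⟩
      have hvec : (vec (e * x * e⁻¹) : W) = c + b := by
        rw [hC.tvs.vec_conj e hx, hvx, hC.tvs.smul_edge hC.toIsFrame ha hc hac he hv ha hb,
          Equiv.swap_apply_left, Equiv.swap_apply_of_ne_of_ne hab.symm hbc]
      have h2 := (hwithin hc hb hvec).1 h1.2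
      exact hpac (hpab.trans h2.symm)
  intro e he hv
  rcases eq_or_ne p q with rfl | hne
  · exact absurd (hv.trans (add_self_eq p)) (hC.tvs.vec_ne he)
  exact hsub ⟨⟨he, p, hp, q, hq, hne, hv⟩, (hwithin hp hq hv).2 hpq⟩

open Classical in
/-- Two matched pairs can be exchanged inside `M`. -/
theorem exists_exchange {a b l m : W} (ha : a ∈ P) (hb : b ∈ P) (hl : l ∈ P) (hm : m ∈ P)
    {d₁ d₃ : H} (hd₁ : d₁ ∈ edges D P) (hdT₁ : d₁ ∈ (T : Subgroup H)) (hd₃ : d₃ ∈ edges D P)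
    (hdT₃ : d₃ ∈ (T : Subgroup H)) (hab : a ≠ b) (hlm : l ≠ m) (hv₁ : (vec d₁ : W) = a + b)
    (hv₃ : (vec d₃ : W) = l + m) (hne : d₁ ≠ d₃) :
    ∃ g ∈ M, ∀ r ∈ P, ∀ s ∈ P, g • (r + s) =
      Equiv.swap a l (Equiv.swap b m r) + Equiv.swap a l (Equiv.swap b m s) := by
  have hma := (hC.mate_eq_or ha hb hab hd₁ hdT₁ hv₁ ha).2 (Or.inl rfl)
  have hmb := (hC.mate_eq_or ha hb hab hd₁ hdT₁ hv₁ hb).2 (Or.inr rfl)
  have hml := (hC.mate_eq_or hl hm hlm hd₃ hdT₃ hv₃ hl).2 (Or.inl rfl)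
  have hmm := (hC.mate_eq_or hl hm hlm hd₃ hdT₃ hv₃ hm).2 (Or.inr rfl)
  have hdiff : ∀ {u v : W}, mate (T : Set H) D P u = some d₁ → mate (T : Set H) D P v = some d₃ →
      u ≠ v := fun h1 h2 e => hne (Option.some.inj (h1.symm.trans (e ▸ h2)))
  have hal := hdiff hma hml
  have ham := hdiff hma hmm
  have hbl := hdiff hmb hml
  have hbm := hdiff hmb hmm
  obtain ⟨e₁, he₁, hve₁⟩ := hC.edge a ha l hl hal
  obtain ⟨e₂, he₂, hve₂⟩ := hC.edge b hb m hm hbm
  set g := e₁ * e₂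
  have hsm : ∀ r ∈ P, ∀ s ∈ P, g • (r + s) =
      Equiv.swap a l (Equiv.swap b m r) + Equiv.swap a l (Equiv.swap b m s) := by
    intro r hr s hs
    have hmem : ∀ {x}, x ∈ P → Equiv.swap b m x ∈ P := fun {x} hx => by
      rw [Equiv.swap_apply_def]
      split_ifs <;> assumption
    rw [mul_smul, hC.tvs.smul_edge hC.toIsFrame hb hm hbm he₂ hve₂ hr hs,
      hC.tvs.smul_edge hC.toIsFrame ha hl hal he₁ hve₁ (hmem hr) (hmem hs)]
  refine ⟨g, ?_, hsm⟩
  set Ω : Set H := {d | d ∈ edges D P ∧ d ∈ (T : Set H)} with hΩ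
  set S₀ : Set H := {x | x ∈ Subgroup.closure (edges D P) ∧ x ∈ conjStab Ω} with hS₀
  have hsub : S₀ ⊆ (M : Set H) := by
    refine hC.mem_M (S₀ := S₀) (Ω := Ω) (fun x hx => hx.1) ?_ ⟨d₁, hd₁, ?_⟩ (fun x hx => hx.1)
      (fun x hx => hx.2) ?_
    · rintro t ht hts x ⟨hx, hxΩ⟩
      refine ⟨hC.stab_inv_closure hts hx, ?_⟩
      have htΩ : t ∈ conjStab Ω := fun d hd =>
        ⟨hts d hd.1, mul_mem (mul_mem ht hd.2) (inv_mem ht)⟩
      exact mul_mem (mul_mem htΩ hxΩ) (inv_mem htΩ)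
    · refine ⟨Subgroup.subset_closure hd₁, fun d hd => ?_⟩
      rw [((hC.tvs.commute_iff hd₁.1 hd.1.1).2 (hC.matched_commute hd₁ hdT₁ hd.1 hd.2)),
        mul_inv_cancel_right]
      exact hd
    · obtain ⟨e, he, hve⟩ := hC.edge b hb l hl hbl
      refine ⟨e, ⟨he, b, hb, l, hl, hbl, hve⟩, fun hstab => ?_⟩
      have h1 := hstab d₁ ⟨hd₁, hdT₁⟩
      have hvec : (vec (e * d₁ * e⁻¹) : W) = a + l := by
        rw [hC.tvs.vec_conj e hd₁.1, hv₁, hC.tvs.smul_edge hC.toIsFrame hb hl hbl he hve ha hb,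
          Equiv.swap_apply_left, Equiv.swap_apply_of_ne_of_ne hab hal]
      have h2 := (hC.mate_eq_or ha hl hal h1.1 h1.2 hvec ha).2 (Or.inl rfl)
      have h3 := (hC.mate_eq_or ha hl hal h1.1 h1.2 hvec hl).2 (Or.inr rfl)
      exact hne (Option.some.inj ((hma.symm.trans h2).trans (h3.symm.trans hml)))
  refine hsub ⟨Subgroup.mul_mem _ (Subgroup.subset_closure ⟨he₁, a, ha, l, hl, hal, hve₁⟩)
    (Subgroup.subset_closure ⟨he₂, b, hb, m, hm, hbm, hve₂⟩), fun d ⟨hd, hdT⟩ => ?_⟩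
  obtain ⟨u, hu, v, hv, huv, hvd, hmu, hmv⟩ := hC.exists_ends hd hdT
  have hvec : (vec (g * d * g⁻¹) : W) =
      Equiv.swap a l (Equiv.swap b m u) + Equiv.swap a l (Equiv.swap b m v) := by
    rw [hC.tvs.vec_conj g hd.1, hvd, hsm u hu v hv]
  rcases eq_or_ne d d₁ with rfl | h1
  · suffices g * d * g⁻¹ = d₃ from this ▸ ⟨hd₃, hdT₃⟩
    refine hC.tvs.vec_injOn (hC.tvs.conj g d hd.1) hd₃.1 ?_
    rw [hC.tvs.vec_conj g hd.1, hv₁, hsm a ha b hb, hv₃, Equiv.swap_apply_of_ne_of_ne hab ham,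
      Equiv.swap_apply_left, Equiv.swap_apply_left, Equiv.swap_apply_of_ne_of_ne ham.symm hlm.symm]
  rcases eq_or_ne d d₃ with rfl | h3
  · suffices g * d * g⁻¹ = d₁ from this ▸ ⟨hd₁, hdT₁⟩
    refine hC.tvs.vec_injOn (hC.tvs.conj g d hd.1) hd₁.1 ?_
    rw [hC.tvs.vec_conj g hd.1, hv₃, hsm l hl m hm, hv₁, Equiv.swap_apply_of_ne_of_ne hbl.symm hlm,
      Equiv.swap_apply_right, Equiv.swap_apply_right, Equiv.swap_apply_of_ne_of_ne hab.symm hbl]
  suffices g * d * g⁻¹ = d from this.symm ▸ ⟨hd, hdT⟩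
  refine hC.tvs.vec_injOn (hC.tvs.conj g d hd.1) hd.1 ?_
  have key : ∀ w : W, mate (T : Set H) D P w = some d →
      Equiv.swap a l (Equiv.swap b m w) = w := fun w hw => by
    have na : w ≠ a := fun e => h1 (Option.some.inj (hw.symm.trans (e ▸ hma)))
    have nb : w ≠ b := fun e => h1 (Option.some.inj (hw.symm.trans (e ▸ hmb)))
    have nl : w ≠ l := fun e => h3 (Option.some.inj (hw.symm.trans (e ▸ hml)))
    have nm : w ≠ m := fun e => h3 (Option.some.inj (hw.symm.trans (e ▸ hmm)))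
    rw [Equiv.swap_apply_of_ne_of_ne nb nm, Equiv.swap_apply_of_ne_of_ne na nl]
  rw [hvec, key u hmu, key v hmv, hvd]

end IsComp

end CfsgLib.FFModules.MinimalParabolic
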