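import Cfsg.Agent.Lib.FFModules.MinimalParabolic.SymCount

/-!
The degree of a component: the set of matched edges is a transitive set of two-power size and
exactly one vertex is unmatched.
-/

set_option autoImplicit false
set_option linter.style.haveILetI false
set_option linter.unusedSectionVars false

namespace CfsgLib.FFModules.MinimalParabolic

open SL2Pair
open scoped Pointwise

variable {H W : Type*} [Group H] [AddCommGroup W] [DistribMulAction H W] [Module (ZMod 2) W]
variable [Finite H] [Finite W]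

namespace IsComp

variable {T : Sylow 2 H} {M : Subgroup H} {D : Set H} {P : Finset W} (hC : IsComp T M D P)
include hC

/-- A component of degree four would give a normal two-subgroup. -/
theorem card_ne_four (hconj : ∀ x ∈ D, ∀ y ∈ D, ∃ g : H, g * x * g⁻¹ = y) : P.card ≠ 4 := by
  classical
  intro h4
  set U : Set H := {u | ∃ d ∈ D, ∃ e ∈ D, d * e = e * d ∧ d ≠ e ∧
    (∃ c ∈ D, coef c (vec d : W) = 1 ∧ coef c (vec e : W) = 1) ∧ u = d * e} with hU
  -- the local analysis
  have hlocal : ∀ d ∈ edges D P, ∀ e ∈ D, ∀ c ∈ D, coef c (vec d : W) = 1 → coef c (vec e : W) = 1 →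
      e ∈ edges D P ∧ c ∈ edges D P := by
    intro d hd e he c hc h1 h2
    have hc' := hC.closed c hc d hd (by rw [h1]; exact one_ne_zero)
    exact ⟨hC.closed e he c hc' (by rw [hC.tvs.coef_symm he hc, h2]; exact one_ne_zero), hc'⟩
  have hother : ∀ p ∈ P, ∀ q ∈ P, p ≠ q → ∀ d ∈ D, (vec d : W) = p + q → ∀ e ∈ edges D P,
      d * e = e * d → d ≠ e → ∃ r ∈ P, ∃ s ∈ P, r ≠ s ∧ (vec e : W) = r + s ∧
        P = {p, q, r, s} ∧ r ≠ p ∧ r ≠ q ∧ s ≠ p ∧ s ≠ q := by
    intro p hp q hq hpq d hd hv e he hc hne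
    obtain ⟨heD, r, hr, s, hs, hrs, hv'⟩ := he
    have h0 := (hC.tvs.commute_iff hd heD).1 hc
    rw [hv', hC.rel p hp q hq hpq d hd hv r hr s hs] at h0
    have hcases : r ≠ p ∧ r ≠ q ∧ s ≠ p ∧ s ≠ q := by
      have hbad : ∀ {x y : W}, x ≠ y → (x = p ∨ x = q) → (y = p ∨ y = q) → x + y = p + q := by
        intro x y hxy hx hy
        rcases hx with rfl | rfl <;> rcases hy with rfl | rfl
        · exact absurd rfl hxy
        · rfl
        · exact add_comm _ _
        · exact absurd rfl hxy
      have hind : ∀ x, ind p q x = 1 ∨ (ind p q x = 0 ∧ x ≠ p ∧ x ≠ q) := fun x => by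
        rcases eq_or_ne x p with rfl | a
        · exact Or.inl (ind_left hpq)
        rcases eq_or_ne x q with rfl | b
        · exact Or.inl (ind_right hpq)
        exact Or.inr ⟨ind_other a b, a, b⟩
      have hin : ∀ x, ind p q x = 1 → x = p ∨ x = q := fun x hx => by
        by_contra hn
        push Not at hn
        rw [ind_other hn.1 hn.2] at hx
        exact zero_ne_one hx
      rcases hind r with a | ⟨a0, a, a'⟩
      · exfalso
        rcases hind s with b | ⟨b, -, -⟩
        · exact hne (hC.tvs.vec_injOn hd heD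
            (hv.trans ((hbad hrs (hin r a) (hin s b)).symm.trans hv'.symm)))
        · rw [a, b, add_zero] at h0; exact one_ne_zero h0
      · rw [a0, zero_add] at h0
        rcases hind s with b | ⟨-, b, b'⟩
        · rw [h0] at b; exact absurd b zero_ne_one
        · exact ⟨a, a', b, b'⟩
    obtain ⟨a, a', b, b'⟩ := hcases
    refine ⟨r, hr, s, hs, hrs, hv', (Finset.eq_of_subset_of_card_le ?_ ?_).symm, a, a', b, b'⟩
    · simp only [Finset.insert_subset_iff, Finset.singleton_subset_iff]
      exact ⟨hp, hq, hr, hs⟩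
    · rw [h4, Finset.card_insert_of_notMem (by simp [hpq, a.symm, b.symm]),
        Finset.card_insert_of_notMem (by simp [a'.symm, b'.symm]),
        Finset.card_insert_of_notMem (by simpa using hrs), Finset.card_singleton]
  have hUsq : ∀ u ∈ U, u * u = 1 := by
    rintro u ⟨d, hd, e, he, hc, -, -, rfl⟩
    rw [mul_assoc, ← mul_assoc e d e, ← hc, mul_assoc d e e, hC.tvs.sq_eq he, mul_one,
      hC.tvs.sq_eq hd]
  have hUconj : ∀ g : H, ∀ u ∈ U, g * u * g⁻¹ ∈ U := by
    rintro g u ⟨d, hd, e, he, hc, hne, ⟨c, hcD, h1, h2⟩, rfl⟩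
    refine ⟨g * d * g⁻¹, hC.tvs.conj g d hd, g * e * g⁻¹, hC.tvs.conj g e he, ?_, ?_,
      ⟨g * c * g⁻¹, hC.tvs.conj g c hcD, by rw [hC.rel_conj hcD hd g, h1],
        by rw [hC.rel_conj hcD he g, h2]⟩, by group⟩
    · calc g * d * g⁻¹ * (g * e * g⁻¹) = g * (d * e) * g⁻¹ := by group
        _ = g * (e * d) * g⁻¹ := by rw [hc]
        _ = g * e * g⁻¹ * (g * d * g⁻¹) := by group
    · exact fun h => hne (mul_left_cancel (mul_right_cancel h))
  have hUcomm : ∀ u ∈ U, ∀ v ∈ U, u * v = v * u := by
    -- reduce to a pair inside the component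
    have core : ∀ d ∈ edges D P, ∀ e ∈ D, d * e = e * d → d ≠ e →
        (∃ c ∈ D, coef c (vec d : W) = 1 ∧ coef c (vec e : W) = 1) →
        ∀ v ∈ U, d * e * v = v * (d * e) := by
      rintro d hd e he hde hne ⟨c, hc, h1, h2⟩ v ⟨d', hd', e', he', hde', hne', ⟨c', hc', k1, k2⟩, rfl⟩
      obtain ⟨heC, -⟩ := hlocal d hd e he c hc h1 h2
      by_cases hd'C : d' ∈ edges D P
      · obtain ⟨he'C, -⟩ := hlocal d' hd'C e' he' c' hc' k1 k2
        by_cases hdd : d' = d ∨ d' = e
        · -- the same pairing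
          obtain ⟨-, p, hp, q, hq, hpq, hv⟩ := id hd
          obtain ⟨r, hr, s, hs, hrs, hvr, hP, n1, n2, n3, n4⟩ := hother p hp q hq hpq d hd.1 hv e heC hde hne
          have hsame : d' * e' = d * e := by
            rcases hdd with rfl | rfl
            · obtain ⟨r', hr', s', hs', hrs', hvr', hP', a1, a2, a3, a4⟩ :=
                hother p hp q hq hpq d' hd.1 hv e' he'C hde' hne'
              suffices e' = e by rw [this]
              refine hC.tvs.vec_injOn he' he ?_
              rw [hvr', hvr]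
              rw [hP] at hr' hs'
              simp only [Finset.mem_insert, Finset.mem_singleton, a1, a2, a3, a4, false_or] at hr' hs'
              rcases hr' with rfl | rfl <;> rcases hs' with rfl | rfl <;>
                first | exact absurd rfl hrs' | rfl | exact add_comm _ _
            · obtain ⟨r', hr', s', hs', hrs', hvr', hP', a1, a2, a3, a4⟩ :=
                hother r hr s hs hrs d' he hvr e' he'C hde' hne'
              suffices e' = d by rw [this]; exact hde.symm
              refine hC.tvs.vec_injOn he' hd.1 ?_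
              rw [hvr', hv]
              rw [hP] at hr' hs'
              simp only [Finset.mem_insert, Finset.mem_singleton, a1, a2, a3, a4, or_false] at hr' hs'
              rcases hr' with rfl | rfl <;> rcases hs' with rfl | rfl <;>
                first | exact absurd rfl hrs' | rfl | exact add_comm _ _
          rw [hsame]
        · push Not at hdd
          obtain ⟨-, p₀, hp₀, p₁, hp₁, hp01, hv₀⟩ := id hd
          obtain ⟨r, hr, s, hs, hrs, hvr, hP, n1, n2, n3, n4⟩ :=
            hother p₀ hp₀ p₁ hp₁ hp01 d hd.1 hv₀ e heC hde hne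
          obtain ⟨-, x, hx, y, hy, hxy, hv'⟩ := id hd'C
          -- name one end in each pair
          obtain ⟨p, p', q, q', hp, hp', hq, hq', npp, nqq, npq, npq', np'q, np'q', hvd, hve, hvd', hP⟩ :
              ∃ p p' q q', p ∈ P ∧ p' ∈ P ∧ q ∈ P ∧ q' ∈ P ∧ p ≠ p' ∧ q ≠ q' ∧ p ≠ q ∧ p ≠ q' ∧
                p' ≠ q ∧ p' ≠ q' ∧ (vec d : W) = p + p' ∧ (vec e : W) = q + q' ∧
                (vec d' : W) = p + q ∧ P = {p, p', q, q'} := by
            have hxP := hx; have hyP := hy
            rw [hP] at hxP hyP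
            simp only [Finset.mem_insert, Finset.mem_singleton] at hxP hyP
            have bad1 : ∀ u v : W, (vec d' : W) = u + v → u + v ≠ p₀ + p₁ := fun u v h h' =>
              hdd.1 (hC.tvs.vec_injOn hd'C.1 hd.1 (h.trans (h'.trans hv₀.symm)))
            have bad2 : ∀ u v : W, (vec d' : W) = u + v → u + v ≠ r + s := fun u v h h' =>
              hdd.2 (hC.tvs.vec_injOn hd'C.1 he (h.trans (h'.trans hvr.symm)))
            rcases hxP with rfl | rfl | rfl | rfl <;> rcases hyP with rfl | rfl | rfl | rfl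
            all_goals
              first
              | exact absurd rfl hxy
              | exact absurd rfl (bad1 _ _ hv')
              | exact absurd (add_comm _ _) (bad1 _ _ hv')
              | exact absurd rfl (bad2 _ _ hv')
              | exact absurd (add_comm _ _) (bad2 _ _ hv')
              | exact ⟨_, _, _, _, hp₀, hp₁, hr, hs, hp01, hrs, n1.symm, n3.symm, n2.symm, n4.symm,
                  hv₀, hvr, hv', hP⟩
              | exact ⟨_, _, _, _, hp₀, hp₁, hs, hr, hp01, hrs.symm, n3.symm, n1.symm, n4.symm,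
                  n2.symm, hv₀, hvr.trans (add_comm _ _), hv', by rw [hP, Finset.pair_comm]⟩
              | exact ⟨_, _, _, _, hp₁, hp₀, hr, hs, hp01.symm, hrs, n2.symm, n4.symm, n1.symm,
                  n3.symm, hv₀.trans (add_comm _ _), hvr, hv', by rw [hP, Finset.insert_comm]⟩
              | exact ⟨_, _, _, _, hp₁, hp₀, hs, hr, hp01.symm, hrs.symm, n4.symm, n2.symm, n3.symm,
                  n1.symm, hv₀.trans (add_comm _ _), hvr.trans (add_comm _ _), hv',
                  by rw [hP, Finset.insert_comm, Finset.pair_comm]⟩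
              | exact ⟨_, _, _, _, hp₀, hp₁, hr, hs, hp01, hrs, n1.symm, n3.symm, n2.symm, n4.symm,
                  hv₀, hvr, hv'.trans (add_comm _ _), hP⟩
              | exact ⟨_, _, _, _, hp₀, hp₁, hs, hr, hp01, hrs.symm, n3.symm, n1.symm, n4.symm,
                  n2.symm, hv₀, hvr.trans (add_comm _ _), hv'.trans (add_comm _ _),
                  by rw [hP, Finset.pair_comm]⟩
              | exact ⟨_, _, _, _, hp₁, hp₀, hr, hs, hp01.symm, hrs, n2.symm, n4.symm, n1.symm,
                  n3.symm, hv₀.trans (add_comm _ _), hvr, hv'.trans (add_comm _ _),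
                  by rw [hP, Finset.insert_comm]⟩
              | exact ⟨_, _, _, _, hp₁, hp₀, hs, hr, hp01.symm, hrs.symm, n4.symm, n2.symm, n3.symm,
                  n1.symm, hv₀.trans (add_comm _ _), hvr.trans (add_comm _ _),
                  hv'.trans (add_comm _ _), by rw [hP, Finset.insert_comm, Finset.pair_comm]⟩
          obtain ⟨r', hr', s', hs', hrs', hvr', -, a1, a2, a3, a4⟩ :=
            hother p hp q hq npq d' hd'C.1 hvd' e' he'C hde' hne'
          have hve' : (vec e' : W) = p' + q' := by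
            rw [hP] at hr' hs'
            simp only [Finset.mem_insert, Finset.mem_singleton, a1, a2, a3, a4, false_or] at hr' hs'
            rw [hvr']
            rcases hr' with rfl | rfl <;> rcases hs' with rfl | rfl <;>
              first | exact absurd rfl hrs' | rfl | exact add_comm _ _
          have he₁ : (d * e) * d' * (d * e)⁻¹ = e' := by
            refine hC.tvs.vec_injOn (hC.tvs.conj _ _ hd'C.1) he' ?_
            rw [hC.tvs.vec_conj _ hd'C.1, hvd', mul_smul,
              hC.tvs.smul_edge hC.toIsFrame hq hq' nqq he hve hp hq,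
              Equiv.swap_apply_of_ne_of_ne npq npq', Equiv.swap_apply_left,
              hC.tvs.smul_edge hC.toIsFrame hp hp' npp hd.1 hvd hp hq',
              Equiv.swap_apply_left, Equiv.swap_apply_of_ne_of_ne npq'.symm np'q'.symm, hve']
          have he₂ : (d * e) * e' * (d * e)⁻¹ = d' := by
            refine hC.tvs.vec_injOn (hC.tvs.conj _ _ he') hd'C.1 ?_
            rw [hC.tvs.vec_conj _ he', hve', mul_smul,
              hC.tvs.smul_edge hC.toIsFrame hq hq' nqq he hve hp' hq',
              Equiv.swap_apply_of_ne_of_ne np'q np'q', Equiv.swap_apply_right,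
              hC.tvs.smul_edge hC.toIsFrame hp hp' npp hd.1 hvd hp' hq,
              Equiv.swap_apply_right, Equiv.swap_apply_of_ne_of_ne npq.symm np'q.symm, hvd']
          calc d * e * (d' * e') = (d * e * d' * (d * e)⁻¹) * (d * e * e' * (d * e)⁻¹) * (d * e) := by group
            _ = e' * d' * (d * e) := by rw [he₁, he₂]
            _ = d' * e' * (d * e) := by rw [hde']
      · -- another component
        have he'C : e' ∉ edges D P := fun h => hd'C (hlocal e' h d' hd' c' hc' k2 k1).1
        have hcc : ∀ x ∈ edges D P, ∀ y ∈ D, y ∉ edges D P → x * y = y * x := fun x hx y hy hy' =>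
          ((hC.tvs.commute_iff hy hx.1).2 (by_contra fun h => hy' (hC.closed y hy x hx h))).symm
        have c1 := hcc d hd d' hd' hd'C
        have c2 := hcc e heC d' hd' hd'C
        have c3 := hcc d hd e' he' he'C
        have c4 := hcc e heC e' he' he'C
        calc d * e * (d' * e') = d * (e * d') * e' := by group
          _ = d * (d' * e) * e' := by rw [c2]
          _ = (d * d') * (e * e') := by group
          _ = (d' * d) * (e' * e) := by rw [c1, c4]
          _ = d' * (d * e') * e := by group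
          _ = d' * (e' * d) * e := by rw [c3]
          _ = d' * e' * (d * e) := by group
    rintro u ⟨d, hd, e, he, hde, hne, ⟨c, hc, h1, h2⟩, rfl⟩ v hv
    obtain ⟨d₀, hd₀⟩ := hC.exists_edge
    obtain ⟨g, hg⟩ := hconj d hd d₀ hd₀.1
    have h3 := core (g * d * g⁻¹) (hg ▸ hd₀) (g * e * g⁻¹) (hC.tvs.conj g e he)
      (by calc g * d * g⁻¹ * (g * e * g⁻¹) = g * (d * e) * g⁻¹ := by group
            _ = g * (e * d) * g⁻¹ := by rw [hde]
            _ = g * e * g⁻¹ * (g * d * g⁻¹) := by group)
      (fun h => hne (mul_left_cancel (mul_right_cancel h)))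
      ⟨g * c * g⁻¹, hC.tvs.conj g c hc, by rw [hC.rel_conj hc hd g, h1],
        by rw [hC.rel_conj hc he g, h2]⟩ (g * v * g⁻¹) (hUconj g v hv)
    calc d * e * v = g⁻¹ * ((g * d * g⁻¹) * (g * e * g⁻¹) * (g * v * g⁻¹)) * g := by group
      _ = g⁻¹ * ((g * v * g⁻¹) * ((g * d * g⁻¹) * (g * e * g⁻¹))) * g := by rw [h3]
      _ = v * (d * e) := by group
  -- the normal subgroup
  set N := Subgroup.closure U with hN
  have hNn : N.Normal := ⟨fun x hx g => by
    have hle : N ≤ N.comap (MulAut.conj g).toMonoidHom :=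
      (Subgroup.closure_le _).2 fun u hu => Subgroup.subset_closure (hUconj g u hu)
    exact hle hx⟩
  have hNc : ∀ x ∈ N, ∀ y ∈ N, x * y = y * x := fun x hx y hy => by
    have h1 : N ≤ Subgroup.centralizer U := (Subgroup.closure_le _).2 fun u hu =>
      Subgroup.mem_centralizer_iff.2 fun v hv => hUcomm v hv u hu
    have h2 : N ≤ Subgroup.centralizer (N : Set H) := (Subgroup.closure_le _).2 fun u hu =>
      Subgroup.mem_centralizer_iff.2 fun z hz => (Subgroup.mem_centralizer_iff.1 (h1 hz) u hu).symm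
    exact (Subgroup.mem_centralizer_iff.1 (h2 hx) y hy).symm
  have hNp : IsPGroup 2 ↥N := fun y => ⟨1, Subtype.ext (by
    rw [pow_one, sq]
    obtain ⟨y, hy⟩ := y
    show y * y = 1
    induction hy using Subgroup.closure_induction with
    | mem x hx => exact hUsq x hx
    | one => simp
    | mul a b ha hb iha ihb =>
      calc a * b * (a * b) = a * (b * a) * b := by group
        _ = a * (a * b) * b := by rw [hNc a ha b hb]
        _ = 1 := by rw [← mul_assoc, iha, one_mul, ihb]
    | inv a ha iha => rw [← _root_.mul_inv_rev, iha, inv_one])⟩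
  have hbot : N ≤ ⊥ := hC.tvs.set.core ▸ le_pCore hNn hNp
  -- it is nontrivial
  obtain ⟨a, ha, b, hb, hab⟩ := Finset.one_lt_card.1 (show 1 < P.card by omega)
  obtain ⟨c, hc⟩ := Finset.card_pos.1 (show 0 < ((P.erase a).erase b).card by
    rw [Finset.card_erase_of_mem (Finset.mem_erase.2 ⟨hab.symm, hb⟩), Finset.card_erase_of_mem ha]
    omega)
  obtain ⟨d, hd⟩ := Finset.card_pos.1 (show 0 < (((P.erase a).erase b).erase c).card by
    rw [Finset.card_erase_of_mem hc, Finset.card_erase_of_mem (Finset.mem_erase.2 ⟨hab.symm, hb⟩),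
      Finset.card_erase_of_mem ha]
    omega)
  simp only [Finset.mem_erase] at hc hd
  obtain ⟨hcb, hca, hcP⟩ := hc
  obtain ⟨hdc, hdb, hda, hdP⟩ := hd
  obtain ⟨x, hx, hvx⟩ := hC.edge a ha b hb hab
  obtain ⟨y, hy, hvy⟩ := hC.edge c hcP d hdP hdc.symm
  obtain ⟨z, hz, hvz⟩ := hC.edge a ha c hcP hca.symm
  have hxy : x * y = y * x := (hC.tvs.commute_iff hx hy).2 (by
    rw [hvy, hC.rel a ha b hb hab x hx hvx c hcP d hdP, ind_other hca hcb, ind_other hda hdb, add_zero])
  have hne : x ≠ y := fun e => hC.four a ha b hb c hcP d hdP hab hdc.symm hca.symm hda.symm hcb.symm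
    hdb.symm (by rw [← hvx, ← hvy, e])
  have h1 : x * y ∈ U := ⟨x, hx, y, hy, hxy, hne, ⟨z, hz, by
    rw [hvx, hC.rel a ha c hcP hca.symm z hz hvz a ha b hb, ind_left hca.symm,
      ind_other hab.symm hcb.symm, add_zero], by
    rw [hvy, hC.rel a ha c hcP hca.symm z hz hvz c hcP d hdP, ind_right hca.symm,
      ind_other hda hdc, add_zero]⟩, rfl⟩
  have h2 := Subgroup.mem_bot.1 (hbot (Subgroup.subset_closure h1))
  exact hne ((mul_eq_one_iff_eq_inv.1 h2).trans (hC.tvs.inv_eq hy))

/-- The degree is one more than a power of two. -/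
theorem exists_degree (hconj : ∀ x ∈ D, ∀ y ∈ D, ∃ g : H, g * x * g⁻¹ = y) :
    ∃ n : ℕ, 1 ≤ n ∧ P.card = 2 ^ n + 1 := by
  classical
  obtain ⟨M₀, hM₀, hle, hge, hcov⟩ := hC.exists_matched
  set k := M₀.card with hk
  have hthree := hC.three
  obtain ⟨d₀, hd₀⟩ := Finset.card_pos.1 (show 0 < M₀.card by omega)
  set T₁ : Subgroup H := (T : Subgroup H) ⊓ conjStab (edges D P) with hT₁
  set O : Set H := {d | ∃ t ∈ T₁, d = t * d₀ * t⁻¹} with hO
  have hOsub : ∀ d ∈ O, d ∈ M₀ := by
    rintro d ⟨t, ⟨ht, hts⟩, rfl⟩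
    obtain ⟨h1, h2⟩ := (hM₀ d₀).1 hd₀
    exact (hM₀ _).2 ⟨hts d₀ h1, mul_mem (mul_mem ht h2) (inv_mem ht)⟩
  have hOinv : ∀ t ∈ (T : Subgroup H), t ∈ conjStab (edges D P) →
      ∀ d ∈ edges D P, d ∈ (T : Subgroup H) → (t * d * t⁻¹ ∈ O ↔ d ∈ O) := by
    intro t ht hts d hd hdT
    constructor
    · rintro ⟨u, hu, e⟩
      refine ⟨t⁻¹ * u, T₁.mul_mem (T₁.inv_mem ⟨ht, hts⟩) hu, ?_⟩
      calc d = t⁻¹ * (t * d * t⁻¹) * t := by group
        _ = t⁻¹ * (u * d₀ * u⁻¹) * t := by rw [e]
        _ = t⁻¹ * u * d₀ * (t⁻¹ * u)⁻¹ := by group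
    · rintro ⟨u, hu, rfl⟩
      exact ⟨t * u, T₁.mul_mem ⟨ht, hts⟩ hu, by group⟩
  have hd₀O : d₀ ∈ O := ⟨1, one_mem _, by simp⟩
  -- the size of an orbit
  let f : T₁ → H := fun t => (t : H) * d₀ * (t : H)⁻¹
  set St : Subgroup T₁ := (Subgroup.centralizer ({d₀} : Set H)).subgroupOf T₁ with hSt
  have hmemSt : ∀ t : T₁, t ∈ St ↔ f t = d₀ := fun t => by
    rw [hSt, Subgroup.mem_subgroupOf, Subgroup.mem_centralizer_singleton_iff]
    exact mul_inv_eq_iff_eq_mul.symm
  have hfeq : ∀ s t : T₁, f s = f t ↔ s⁻¹ * t ∈ St := fun s t => by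
    rw [hmemSt]
    simp only [f, Subgroup.coe_mul, Subgroup.coe_inv]
    constructor
    · intro e
      calc (s : H)⁻¹ * t * d₀ * ((s : H)⁻¹ * t)⁻¹ = (s : H)⁻¹ * ((t : H) * d₀ * (t : H)⁻¹) * s := by group
        _ = (s : H)⁻¹ * ((s : H) * d₀ * (s : H)⁻¹) * s := by rw [e]
        _ = d₀ := by group
    · intro e
      calc (s : H) * d₀ * (s : H)⁻¹ = (s : H) * ((s : H)⁻¹ * t * d₀ * ((s : H)⁻¹ * t)⁻¹) * (s : H)⁻¹ := by rw [e]
        _ = (t : H) * d₀ * (t : H)⁻¹ := by group
  have hT₁p : IsPGroup 2 ↥T₁ := T.2.to_le inf_le_left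
  rcases Nat.lt_or_ge P.card (2 * k + 1) with heven | hodd
  · -- every vertex is matched: impossible
    exfalso
    have hP2 : P.card = 2 * k := by omega
    have hall : ∀ p ∈ P, mate (T : Set H) D P p ≠ none := by
      have := Finset.eq_of_subset_of_card_le (Finset.filter_subset
        (fun p => mate (T : Set H) D P p ≠ none) P) (by rw [hcov]; omega)
      intro p hp
      rw [← this] at hp
      exact (Finset.mem_filter.1 hp).2
    have hk3 : 3 ≤ k := by
      have := hC.card_ne_four hconj
      omega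
    -- a bipartition of the matched edges
    obtain ⟨O', hO'inv, d, hd, hdO, d', hd', hd'O⟩ : ∃ O' : Set H,
        (∀ t ∈ (T : Subgroup H), t ∈ conjStab (edges D P) →
          (∀ d ∈ edges D P, d ∈ (T : Subgroup H) → (t * d * t⁻¹ ∈ O' ↔ d ∈ O')) ∨
          ((∀ p ∈ P, mate (T : Set H) D P p ≠ none) ∧
            ∀ d ∈ edges D P, d ∈ (T : Subgroup H) → (t * d * t⁻¹ ∈ O' ↔ d ∉ O'))) ∧
        ∃ d ∈ M₀, d ∈ O' ∧ ∃ d' ∈ M₀, d' ∉ O' := by
      by_cases htr : ∀ d ∈ M₀, d ∈ O
      · -- a subgroup of index two containing the stabilizer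
        have hStne : St ≠ ⊤ := by
          intro e
          obtain ⟨d, hd, hne⟩ := Finset.exists_mem_ne (show 1 < M₀.card by omega) d₀
          obtain ⟨t, ht, rfl⟩ := htr d hd
          exact hne ((hmemSt ⟨t, ht⟩).1 (e ▸ Subgroup.mem_top _))
        obtain ⟨n, hn⟩ := hT₁p.exists_card_eq
        obtain ⟨i, hi⟩ := (hT₁p.to_subgroup St).exists_card_eq
        have hin : i < n := by
          rcases Nat.lt_or_ge i n with h | h
          · exact h
          · exact absurd (Subgroup.eq_top_of_card_eq St (le_antisymm (Subgroup.card_le_card_group St)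
              (by rw [hn, hi]; exact Nat.pow_le_pow_right two_pos h))) hStne
        obtain ⟨N, hN, hStN⟩ := Sylow.exists_subgroup_card_pow_prime_le (p := 2) (G := T₁) (m := n - 1)
          (by rw [hn]; exact pow_dvd_pow 2 (by omega)) St hi (by omega)
        have hN2 : N.index = 2 := by
          have h := N.card_mul_index
          rw [hN, hn, show n = n - 1 + 1 by omega, pow_succ, show n - 1 + 1 - 1 = n - 1 by omega] at h
          exact Nat.eq_of_mul_eq_mul_left (pow_pos two_pos _) h
        refine ⟨{x | ∃ u ∈ N, x = f u}, fun t ht hts => ?_, d₀, hd₀, ⟨1, one_mem _, by simp [f]⟩, ?_⟩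
        · set t₁ : T₁ := ⟨t, ht, hts⟩
          have key : ∀ u : T₁, (t * f u * t⁻¹ ∈ {x | ∃ u ∈ N, x = f u}) ↔ (t₁ * u) ∈ N := fun u => by
            constructor
            · rintro ⟨v, hv, e⟩
              have e' : f (t₁ * u) = f v := by
                rw [← e]; simp [f, t₁]; group
              have := N.mul_mem hv (N.inv_mem (hStN ((hfeq _ _).1 e')))
              simpa using this
            · intro hu
              exact ⟨_, hu, by simp [f, t₁]; group⟩
          have key1 : ∀ u : T₁, (f u ∈ {x | ∃ u ∈ N, x = f u}) ↔ u ∈ N := fun u => by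
            constructor
            · rintro ⟨v, hv, e⟩
              have := N.mul_mem hv (N.inv_mem (hStN ((hfeq _ _).1 e)))
              simpa using this
            · exact fun hu => ⟨u, hu, rfl⟩
          have hrep : ∀ d ∈ edges D P, d ∈ (T : Subgroup H) → ∃ u : T₁, d = f u := fun d hd hdT => by
            obtain ⟨u, hu, e⟩ := htr d ((hM₀ d).2 ⟨hd, hdT⟩)
            exact ⟨⟨u, hu⟩, e⟩
          by_cases htN : t₁ ∈ N
          · refine Or.inl fun d hd hdT => ?_
            obtain ⟨u, rfl⟩ := hrep d hd hdT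
            rw [key, key1, Subgroup.mul_mem_cancel_left N htN]
          · refine Or.inr ⟨hall, fun d hd hdT => ?_⟩
            obtain ⟨u, rfl⟩ := hrep d hd hdT
            rw [key, key1, Subgroup.mul_mem_iff_of_index_two hN2]
            tauto
        · obtain ⟨u, -, hu⟩ := SetLike.exists_of_lt (lt_top_iff_ne_top.2 fun e => by
            rw [e, Subgroup.index_top] at hN2; omega : N < ⊤)
          refine ⟨f u, hOsub _ ⟨u, u.2, rfl⟩, fun ⟨v, hv, e⟩ => hu ?_⟩
          have := N.mul_mem hv (N.inv_mem (hStN ((hfeq _ _).1 e)))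
          simpa using this
      · push Not at htr
        exact ⟨O, fun t ht hts => Or.inl (hOinv t ht hts), d₀, hd₀, hd₀O, htr⟩
    -- two edges on one side and one on the other
    obtain ⟨d₁, hd₁, d₂, hd₂, hne₁₂, d₃, hd₃, h12, h13⟩ : ∃ d₁ ∈ M₀, ∃ d₂ ∈ M₀, d₁ ≠ d₂ ∧
        ∃ d₃ ∈ M₀, (d₁ ∈ O' ↔ d₂ ∈ O') ∧ ¬ (d₁ ∈ O' ↔ d₃ ∈ O') := by
      have hdd : d ≠ d' := fun e => hd'O (e ▸ hdO)
      obtain ⟨x, hx⟩ := Finset.card_pos.1 (show 0 < ((M₀.erase d).erase d').card by
        rw [Finset.card_erase_of_mem (Finset.mem_erase.2 ⟨hdd.symm, hd'⟩),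
          Finset.card_erase_of_mem hd]
        omega)
      simp only [Finset.mem_erase] at hx
      obtain ⟨hxd', hxd, hx⟩ := hx
      by_cases hxO : x ∈ O'
      · exact ⟨d, hd, x, hx, hxd.symm, d', hd', iff_of_true hdO hxO, fun h => hd'O (h.1 hdO)⟩
      · exact ⟨d', hd', x, hx, hxd'.symm, d, hd, iff_of_false hd'O hxO, fun h => hd'O (h.2 hdO)⟩
    obtain ⟨hd₁C, hd₁T⟩ := (hM₀ d₁).1 hd₁
    obtain ⟨hd₂C, hd₂T⟩ := (hM₀ d₂).1 hd₂
    obtain ⟨hd₃C, hd₃T⟩ := (hM₀ d₃).1 hd₃
    obtain ⟨a, ha, b, hb, hab, hv₁, hma, hmb⟩ := hC.exists_ends hd₁C hd₁T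
    obtain ⟨c, hc, -, -, -, -, hmc, -⟩ := hC.exists_ends hd₂C hd₂T
    obtain ⟨l, hl, m, hm, hlm, hv₃, hml, hmm⟩ := hC.exists_ends hd₃C hd₃T
    set part := InPart (T : Set H) D P O'
    have hpart : ∀ {p : W} {x : H}, mate (T : Set H) D P p = some x → (part p ↔ x ∈ O') :=
      fun hp => ⟨fun h => h _ hp, fun h y hy => (Option.some.inj (hp.symm.trans hy)) ▸ h⟩
    have hJ : ∀ {p q : W}, p ∈ P → q ∈ P → (part p ↔ part q) → Joined M D p q := fun hp hq h =>
      hC.joined_of_part O' hO'inv ha hb hl hab ((hpart hma).trans (hpart hmb).symm)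
        (fun h' => h13 (((hpart hma).symm.trans h').trans (hpart hml))) hp hq h
    obtain ⟨g, hgM, hg⟩ := hC.exists_exchange ha hb hl hm hd₁C hd₁T hd₃C hd₃T hab hlm hv₁ hv₃
      (fun e => h13 (by rw [e]))
    have hne13 : d₁ ≠ d₃ := fun e => h13 (by rw [e])
    have hne23 : d₂ ≠ d₃ := fun e => h13 (by rw [← e]; exact h12)
    have hac : a ≠ c := fun e => hne₁₂ (Option.some.inj (hma.symm.trans (e ▸ hmc)))
    have hbc : b ≠ c := fun e => hne₁₂ (Option.some.inj (hmb.symm.trans (e ▸ hmc)))
    have hcl : c ≠ l := fun e => hne23 (Option.some.inj (hmc.symm.trans (e ▸ hml)))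
    have hcm : c ≠ m := fun e => hne23 (Option.some.inj (hmc.symm.trans (e ▸ hmm)))
    have ham : a ≠ m := fun e => hne13 (Option.some.inj (hma.symm.trans (e ▸ hmm)))
    have hlc : Joined M D l c := by
      intro e he hv
      obtain ⟨x, hx, hvx⟩ := hC.edge a ha c hc hac
      have hxM : x ∈ M := hJ ha hc ((hpart hma).trans (h12.trans (hpart hmc).symm)) x hx hvx
      have e1 : g * x * g⁻¹ = e := by
        refine hC.tvs.vec_injOn (hC.tvs.conj g x hx) he ?_
        rw [hC.tvs.vec_conj g hx, hvx, hg a ha c hc, hv, Equiv.swap_apply_of_ne_of_ne hab ham,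
          Equiv.swap_apply_left, Equiv.swap_apply_of_ne_of_ne hbc.symm hcm,
          Equiv.swap_apply_of_ne_of_ne hac.symm hcl]
      rw [← e1]
      exact M.mul_mem (M.mul_mem hgM hxM) (M.inv_mem hgM)
    refine hC.not_all_joined hc fun p hp => ?_
    by_cases h : part p ↔ part c
    · exact hJ hp hc h
    · refine hC.joined_trans hp hl hc (hJ hp hl ?_) hlc
      rw [hpart hmc, ← h12] at h
      rw [hpart hml]
      tauto
  · -- one unmatched vertex
    have hPc : P.card = 2 * k + 1 := by omega
    obtain ⟨z, hz, hzn⟩ : ∃ z ∈ P, mate (T : Set H) D P z = none := by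
      by_contra hn
      push Not at hn
      rw [Finset.filter_true_of_mem hn] at hcov
      omega
    have htr : ∀ d ∈ M₀, d ∈ O := by
      by_contra hn
      push Not at hn
      obtain ⟨d', hd', hd'O⟩ := hn
      obtain ⟨h0C, h0T⟩ := (hM₀ d₀).1 hd₀
      obtain ⟨a, ha, b, hb, hab, -, hma, hmb⟩ := hC.exists_ends h0C h0T
      obtain ⟨hd'C, hd'T⟩ := (hM₀ d').1 hd'
      obtain ⟨c, hc, -, -, -, -, hmc, -⟩ := hC.exists_ends hd'C hd'T
      have pempty : ∀ p, InPart (T : Set H) D P (∅ : Set H) p ↔ mate (T : Set H) D P p = none :=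
        fun p => ⟨fun h => Option.eq_none_iff_forall_ne_some.2 fun x hx => h x hx,
          fun h x hx => absurd (h.symm.trans hx) (Option.some_ne_none x).symm⟩
      have hnone : ∀ {p : W} {x : H}, mate (T : Set H) D P p = some x →
          ¬ InPart (T : Set H) D P (∅ : Set H) p := fun hp h => by
        rw [(pempty _).1 h] at hp; exact (Option.some_ne_none _) hp.symm
      have hJ0 : ∀ {p q : W}, p ∈ P → q ∈ P → mate (T : Set H) D P p ≠ none →
          mate (T : Set H) D P q ≠ none → Joined M D p q := fun hp hq h1 h2 =>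
        hC.joined_of_part ∅ (fun t ht hts => Or.inl fun d _ _ => by simp) ha hb hz hab
          (iff_of_false (hnone hma) (hnone hmb))
          (fun h => hnone hma (h.2 ((pempty z).2 hzn))) hp hq
          (iff_of_false (fun h => h1 ((pempty _).1 h)) (fun h => h2 ((pempty _).1 h)))
      have hpart : ∀ {p : W} {x : H}, mate (T : Set H) D P p = some x →
          (InPart (T : Set H) D P O p ↔ x ∈ O) :=
        fun hp => ⟨fun h => h _ hp, fun h y hy => (Option.some.inj (hp.symm.trans hy)) ▸ h⟩
      have hza : Joined M D z a := hC.joined_of_part O (fun t ht hts => Or.inl (hOinv t ht hts))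
        ha hb hc hab ((hpart hma).trans (hpart hmb).symm)
        (fun h => hd'O ((hpart hmc).1 (h.1 ((hpart hma).2 hd₀O)))) hz ha
        (iff_of_true (fun x hx => absurd (hzn.symm.trans hx) (Option.some_ne_none x).symm)
          ((hpart hma).2 hd₀O))
      refine hC.not_all_joined ha fun p hp => ?_
      by_cases h : mate (T : Set H) D P p = none
      · have : p = z := by
          by_contra hne
          have hsub : P.filter (fun p => mate (T : Set H) D P p ≠ none) ⊆ (P.erase z).erase p := fun x hx => by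
            obtain ⟨hxP, hxm⟩ := Finset.mem_filter.1 hx
            exact Finset.mem_erase.2 ⟨fun e => hxm (e ▸ h), Finset.mem_erase.2 ⟨fun e => hxm (e ▸ hzn), hxP⟩⟩
          have h1 := Finset.card_le_card hsub
          rw [hcov, Finset.card_erase_of_mem (Finset.mem_erase.2 ⟨hne, hp⟩),
            Finset.card_erase_of_mem hz] at h1
          omega
        exact this ▸ hza
      · exact hJ0 hp ha h (by rw [hma]; simp)
    -- the orbit has two-power size
    have hidx : St.index = k := by
      have hbij : Function.Bijective (fun q : T₁ ⧸ St =>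
          (Quotient.liftOn' q (fun t => (⟨f t, hOsub _ ⟨t, t.2, rfl⟩⟩ : M₀)) fun s t h =>
            Subtype.ext ((hfeq s t).2 (QuotientGroup.leftRel_apply.1 h)))) := by
        constructor
        · intro q q'
          induction q using QuotientGroup.induction_on with
          | _ s =>
            induction q' using QuotientGroup.induction_on with
            | _ t => exact fun e => QuotientGroup.eq.2 ((hfeq s t).1 (congrArg Subtype.val e))
        · rintro ⟨d, hd⟩
          obtain ⟨t, ht, e⟩ := htr d hd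
          exact ⟨QuotientGroup.mk ⟨t, ht⟩, Subtype.ext e.symm⟩
      rw [Subgroup.index_eq_card, Nat.card_eq_of_bijective _ hbij, Nat.card_eq_fintype_card,
        Fintype.card_coe]
    obtain ⟨j, hj⟩ := hT₁p.index St
    refine ⟨j + 1, by omega, ?_⟩
    rw [hPc, ← hidx, hj, pow_succ]
    ring

end IsComp

end CfsgLib.FFModules.MinimalParabolic
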