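import Cfsg.Agent.Lib.FFModules.MinimalParabolic.SymTranslates

/-!
The edges of a component inside `T` form a maximum matching, and the partitions of the vertices
built from it.
-/

set_option autoImplicit false
set_option linter.style.haveILetI false
set_option linter.unusedSectionVars false

namespace CfsgLib.FFModules.MinimalParabolic

open SL2Pair
open scoped Pointwise

variable {H W : Type*} [Group H] [AddCommGroup W] [DistribMulAction H W] [Module (ZMod 2) W]
variable [Finite H] [Finite W]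

open Classical in
/-- The edge of the matching at a vertex. -/
noncomputable def mate (T : Set H) (D : Set H) (P : Finset W) (p : W) : Option H :=
  if h : ∃ d, d ∈ edges D P ∧ d ∈ T ∧ ∃ q ∈ P, q ≠ p ∧ (vec d : W) = p + q then
    some (Classical.choose h) else none

namespace IsComp

variable {T : Sylow 2 H} {M : Subgroup H} {D : Set H} {P : Finset W} (hC : IsComp T M D P)
include hC

theorem matched_commute {d e : H} (hd : d ∈ edges D P) (hdT : d ∈ (T : Subgroup H))
    (he : e ∈ edges D P) (heT : e ∈ (T : Subgroup H)) : coef d (vec e : W) = 0 := by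
  refine hC.tvs.coef_of_commute hd.1 he.1 ?_
  exact hC.tvs.set.commute_of_le_pgroup T.2 (hC.tvs.isMin d hd.1) (hC.tvs.isMin e he.1)
    ((hC.tvs.two d hd.1).trans (hC.tvs.two e he.1).symm) (Subgroup.zpowers_le.2 hdT)
    (Subgroup.zpowers_le.2 heT) d (Subgroup.mem_zpowers d) e (Subgroup.mem_zpowers e)

theorem mate_eq_some {p : W} (hp : p ∈ P) {d : H} :
    mate (T : Set H) D P p = some d ↔
      d ∈ edges D P ∧ d ∈ (T : Subgroup H) ∧ ∃ q ∈ P, q ≠ p ∧ (vec d : W) = p + q := by
  classical
  constructor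
  · intro h
    rw [mate] at h
    split at h
    · rename_i hex
      obtain ⟨h1, h2, h3⟩ := Classical.choose_spec hex
      obtain rfl := Option.some.inj h
      exact ⟨h1, h2, h3⟩
    · exact absurd h (Option.some_ne_none d).symm
  · rintro ⟨h1, h2, q, hq, hqp, hv⟩
    have hex : ∃ d, d ∈ edges D P ∧ d ∈ (T : Set H) ∧ ∃ q ∈ P, q ≠ p ∧ (vec d : W) = p + q :=
      ⟨d, h1, h2, q, hq, hqp, hv⟩
    rw [mate, dif_pos hex]
    obtain ⟨g1, g2, q', hq', hqp', hv'⟩ := Classical.choose_spec hex
    refine congrArg some (hC.tvs.vec_injOn g1.1 h1.1 ?_)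
    rcases eq_or_ne q' q with rfl | hne
    · exact hv'.trans hv.symm
    exfalso
    have h0 := hC.matched_commute h1 h2 g1 g2
    rw [hv', hC.rel p hp q hq hqp.symm d h1.1 hv p hp q' hq', ind_left hqp.symm,
      ind_other hqp' hne] at h0
    exact one_ne_zero h0

theorem mate_mem {p : W} (hp : p ∈ P) {d : H} (h : mate (T : Set H) D P p = some d) :
    d ∈ edges D P ∧ d ∈ (T : Subgroup H) :=
  ⟨((hC.mate_eq_some hp).1 h).1, ((hC.mate_eq_some hp).1 h).2.1⟩

theorem exists_ends {d : H} (hd : d ∈ edges D P) (hdT : d ∈ (T : Subgroup H)) :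
    ∃ a ∈ P, ∃ b ∈ P, a ≠ b ∧ (vec d : W) = a + b ∧ mate (T : Set H) D P a = some d ∧
      mate (T : Set H) D P b = some d := by
  obtain ⟨-, a, ha, b, hb, hab, hv⟩ := id hd
  exact ⟨a, ha, b, hb, hab, hv, (hC.mate_eq_some ha).2 ⟨hd, hdT, b, hb, hab.symm, hv⟩,
    (hC.mate_eq_some hb).2 ⟨hd, hdT, a, ha, hab, hv.trans (add_comm _ _)⟩⟩

open Classical in
theorem mate_eq_or {d : H} {a b : W} (ha : a ∈ P) (hb : b ∈ P) (hab : a ≠ b)
    (hd : d ∈ edges D P) (hdT : d ∈ (T : Subgroup H)) (hv : (vec d : W) = a + b) {p : W} (hp : p ∈ P) :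
    mate (T : Set H) D P p = some d ↔ p = a ∨ p = b := by
  constructor
  · intro h
    obtain ⟨-, -, q, hq, hqp, hv'⟩ := (hC.mate_eq_some hp).1 h
    rcases hC.eq_or_swap hp hq ha hb hqp.symm hab (hv'.symm.trans hv) with ⟨h1, -⟩ | ⟨h1, -⟩
    · exact Or.inl h1
    · exact Or.inr h1
  · rintro (rfl | rfl)
    · exact (hC.mate_eq_some hp).2 ⟨hd, hdT, b, hb, hab.symm, hv⟩
    · exact (hC.mate_eq_some hp).2 ⟨hd, hdT, a, ha, hab, hv.trans (add_comm _ _)⟩

open Classical in
theorem coef_matched {d : H} (hd : d ∈ edges D P) (hdT : d ∈ (T : Subgroup H)) {p q : W}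
    (hp : p ∈ P) (hq : q ∈ P) :
    coef d (p + q) = (if mate (T : Set H) D P p = some d then 1 else 0) +
      (if mate (T : Set H) D P q = some d then 1 else 0) := by
  obtain ⟨-, a, ha, b, hb, hab, hv⟩ := id hd
  have key : ∀ r ∈ P, ind a b r = if mate (T : Set H) D P r = some d then 1 else 0 := fun r hr => by
    by_cases h : mate (T : Set H) D P r = some d
    · rw [if_pos h]
      rcases (hC.mate_eq_or ha hb hab hd hdT hv hr).1 h with rfl | rfl
      · exact ind_left hab
      · exact ind_right hab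
    · rw [if_neg h]
      refine ind_other (fun e => h ?_) (fun e => h ?_) <;>
        exact (hC.mate_eq_or ha hb hab hd hdT hv hr).2 (by simp [e])
  rw [hC.rel a ha b hb hab d hd.1 hv p hp q hq, key p hp, key q hq]

/-- A matching of the vertices by commuting edges. -/
theorem exists_matching (S : Finset W) (hS : S ⊆ P) : ∃ Q : Finset H,
    (∀ d ∈ Q, d ∈ edges D P ∧ ∃ p ∈ S, ∃ q ∈ S, p ≠ q ∧ (vec d : W) = p + q) ∧
    (∀ d ∈ Q, ∀ e ∈ Q, coef d (vec e : W) = 0) ∧ S.card / 2 ≤ Q.card := by
  classical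
  induction S using Finset.strongInduction with
  | H S ih =>
    by_cases h2 : S.card ≤ 1
    · exact ⟨∅, by simp, by simp, by simp; omega⟩
    obtain ⟨a, ha, b, hb, hab⟩ := Finset.one_lt_card.1 (show 1 < S.card by omega)
    set S' := (S.erase a).erase b with hS'
    have hsub : S' ⊆ S := (Finset.erase_subset _ _).trans (Finset.erase_subset _ _)
    obtain ⟨Q, h1, hQc, h3⟩ := ih S' (Finset.ssubset_iff_subset_ne.2 ⟨hsub, fun e => by
      have : a ∈ S' := e ▸ ha
      simp [hS'] at this⟩) (hsub.trans hS)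
    obtain ⟨d, hd, hv⟩ := hC.edge a (hS ha) b (hS hb) hab
    have hnot : ∀ e ∈ Q, coef d (vec e : W) = 0 := fun e he => by
      obtain ⟨-, p, hp, q, hq, -, hv'⟩ := h1 e he
      simp only [hS', Finset.mem_erase] at hp hq
      rw [hv', hC.rel a (hS ha) b (hS hb) hab d hd hv p (hS hp.2.2) q (hS hq.2.2),
        ind_other hp.2.1 hp.1, ind_other hq.2.1 hq.1, add_zero]
    have hdQ : d ∉ Q := fun hdQ => by
      obtain ⟨-, p, hp, q, hq, hpq, hv'⟩ := h1 d hdQ
      simp only [hS', Finset.mem_erase] at hp hq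
      rcases hC.eq_or_swap (hS ha) (hS hb) (hS hp.2.2) (hS hq.2.2) hab hpq (hv.symm.trans hv')
        with ⟨e1, -⟩ | ⟨e1, -⟩
      · exact hp.2.1 e1.symm
      · exact hq.2.1 e1.symm
    refine ⟨insert d Q, fun x hx => ?_, fun x hx y hy => ?_, ?_⟩
    · rcases Finset.mem_insert.1 hx with rfl | hx
      · exact ⟨⟨hd, a, hS ha, b, hS hb, hab, hv⟩, a, ha, b, hb, hab, hv⟩
      · obtain ⟨hx1, p, hp, q, hq, hpq, hv'⟩ := h1 x hx
        exact ⟨hx1, p, hsub hp, q, hsub hq, hpq, hv'⟩
    · rcases Finset.mem_insert.1 hx with e1 | hx'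
      · subst e1
        rcases Finset.mem_insert.1 hy with e2 | hy'
        · subst e2; exact hC.tvs.coef_vec_self hd
        · exact hnot y hy'
      · rcases Finset.mem_insert.1 hy with e2 | hy'
        · subst e2
          rw [hC.tvs.coef_symm (h1 x hx').1.1 hd]; exact hnot x hx'
        · exact hQc x hx' y hy'
    · rw [Finset.card_insert_of_notMem hdQ]
      have hc : S'.card = S.card - 2 := by
        rw [hS', Finset.card_erase_of_mem (Finset.mem_erase.2 ⟨hab.symm, hb⟩),
          Finset.card_erase_of_mem ha]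
        omega
      omega

open Classical in
/-- The matching inside `T` is maximum. -/
theorem exists_matched : ∃ M₀ : Finset H, (∀ d, d ∈ M₀ ↔ d ∈ edges D P ∧ d ∈ (T : Subgroup H)) ∧
    2 * M₀.card ≤ P.card ∧ P.card ≤ 2 * M₀.card + 1 ∧
    (P.filter fun p => mate (T : Set H) D P p ≠ none).card = 2 * M₀.card := by
  haveI := Fintype.ofFinite H
  set M₀ : Finset H := Finset.univ.filter fun d => d ∈ edges D P ∧ d ∈ (T : Subgroup H)
  have hmem : ∀ d, d ∈ M₀ ↔ d ∈ edges D P ∧ d ∈ (T : Subgroup H) := by simp [M₀]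
  set cov := P.filter fun p => mate (T : Set H) D P p ≠ none with hcov
  have hcard : cov.card = 2 * M₀.card := by
    rw [Finset.card_eq_sum_card_fiberwise (f := fun p => (mate (T : Set H) D P p).getD 1) (t := M₀)
      (fun p hp => ?_), Finset.sum_const_nat (m := 2) (fun d hd => ?_), mul_comm]
    · obtain ⟨a, ha, b, hb, hab, hv, hma, hmb⟩ :=
        hC.exists_ends ((hmem d).1 hd).1 ((hmem d).1 hd).2
      rw [show (cov.filter fun p => (mate (T : Set H) D P p).getD 1 = d) = {a, b} from ?_]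
      · exact Finset.card_pair hab
      ext p
      simp only [hcov, Finset.mem_filter, Finset.mem_insert, Finset.mem_singleton]
      constructor
      · rintro ⟨⟨hp, hne⟩, he⟩
        obtain ⟨x, hx⟩ := Option.ne_none_iff_exists'.1 hne
        rw [hx, Option.getD_some] at he
        exact (hC.mate_eq_or ha hb hab ((hmem d).1 hd).1 ((hmem d).1 hd).2 hv hp).1 (he ▸ hx)
      · rintro (rfl | rfl)
        · exact ⟨⟨ha, by rw [hma]; simp⟩, by rw [hma]; rfl⟩
        · exact ⟨⟨hb, by rw [hmb]; simp⟩, by rw [hmb]; rfl⟩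
    · simp only [hcov, Finset.coe_filter, Set.mem_setOf_eq] at hp
      obtain ⟨x, hx⟩ := Option.ne_none_iff_exists'.1 hp.2
      simp only [hx, Option.getD_some, Finset.mem_coe]
      exact (hmem x).2 (hC.mate_mem hp.1 hx)
  refine ⟨M₀, hmem, hcard ▸ Finset.card_filter_le _ _, ?_, hcard⟩
  -- move a matching into `T`
  obtain ⟨Q, hQ, hQc, hQn⟩ := hC.exists_matching P le_rfl
  set Y := Subgroup.closure (Q : Set H)
  have hcomm : ∀ x ∈ Y, ∀ y ∈ Y, x * y = y * x := fun x hx y hy =>
    (Subgroup.mem_centralizer_iff.1 ((Subgroup.closure_le (Subgroup.centralizer (Y : Set H))).2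
      (fun q hq => Subgroup.mem_centralizer_iff.2 fun z hz => ((Subgroup.mem_centralizer_iff.1
        ((Subgroup.closure_le (Subgroup.centralizer ({q} : Set H))).2
          (fun r hr => Subgroup.mem_centralizer_iff.2 fun w hw => by
            rw [Set.mem_singleton_iff.1 hw]
            exact (hC.tvs.commute_iff (hQ q hq).1.1 (hQ r hr).1.1).2 (hQc q hq r hr)) hz)) q rfl).symm)
      hx) y hy).symm
  have hsq : ∀ y ∈ Y, y * y = 1 := by
    intro y hy
    induction hy using Subgroup.closure_induction with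
    | mem x hx => exact hC.tvs.sq_eq (hQ x hx).1.1
    | one => simp
    | mul a b ha hb iha ihb =>
      calc a * b * (a * b) = a * (b * a) * b := by group
        _ = a * (a * b) * b := by rw [hcomm a ha b hb]
        _ = 1 := by rw [← mul_assoc, iha, one_mul, ihb]
    | inv a ha iha => rw [← _root_.mul_inv_rev, iha, inv_one]
  have hYp : IsPGroup 2 ↥Y := fun y => ⟨1, Subtype.ext (by
    rw [pow_one, sq]; exact hsq y y.2)⟩
  obtain ⟨S, hS⟩ := hYp.exists_le_sylow
  obtain ⟨g, rfl⟩ := MulAction.exists_smul_eq H T S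
  obtain ⟨t, ht, hn⟩ := hC.exists_translate g⁻¹
  set n := t⁻¹ * g⁻¹ with hndef
  refine le_trans ?_ (Nat.add_le_add_right (Nat.mul_le_mul_left 2
    (Finset.card_le_card_of_injOn (s := Q) (t := M₀) (fun q => n * q * n⁻¹) (fun q hq => ?_)
      (fun x _ y _ e => mul_left_cancel (mul_right_cancel e)))) 1)
  · omega
  · refine (hmem _).2 ⟨hn q (hQ q hq).1, ?_⟩
    have h1 : q ∈ MulAut.conj g • (T : Subgroup H) := by
      rw [← Sylow.coe_subgroup_smul]; exact hS (Subgroup.subset_closure hq)
    obtain ⟨y, hy, rfl⟩ := (Subgroup.mem_smul_pointwise_iff_exists _ _ _).1 h1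
    show n * (g * y * g⁻¹) * n⁻¹ ∈ (T : Subgroup H)
    rw [show n * (g * y * g⁻¹) * n⁻¹ = t⁻¹ * y * t by rw [hndef]; group]
    exact mul_mem (mul_mem (inv_mem ht) hy) ht

open Classical in
/-- The intrinsic description of the edges inside the parts given by a set of matched edges. -/
def Within (T : Set H) (D : Set H) (P : Finset W) (O : Set H) (e : H) : Prop :=
  (∀ d ∈ edges D P, d ∈ T → coef d (vec e : W) = 1 → d ∈ O) ∨
    ((∀ d ∈ edges D P, d ∈ T → coef d (vec e : W) = 1 → d ∉ O) ∧
      ¬ ∃! d, d ∈ edges D P ∧ d ∈ T ∧ coef d (vec e : W) = 1)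

/-- The part of a vertex. -/
def InPart (T : Set H) (D : Set H) (P : Finset W) (O : Set H) (p : W) : Prop :=
  ∀ d, mate T D P p = some d → d ∈ O

theorem within_iff (O : Set H) {p q : W} (hp : p ∈ P) (hq : q ∈ P) {e : H}
    (hv : (vec e : W) = p + q) :
    Within (T : Set H) D P O e ↔
      (InPart (T : Set H) D P O p ↔ InPart (T : Set H) D P O q) := by
  classical
  unfold Within InPart
  have hc : ∀ d ∈ edges D P, d ∈ (T : Set H) → (coef d (vec e : W) = 1 ↔
      ¬ (mate (T : Set H) D P p = some d ↔ mate (T : Set H) D P q = some d)) := fun d h1 h2 => by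
    rw [hv, hC.coef_matched h1 h2 hp hq]
    by_cases a : mate (T : Set H) D P p = some d <;> by_cases b : mate (T : Set H) D P q = some d <;>
      simp [a, b] <;> rfl
  rcases hp' : mate (T : Set H) D P p with _ | a <;> rcases hq' : mate (T : Set H) D P q with _ | b
  · simp only [hp', hq'] at hc
    refine iff_of_true (Or.inl fun d h1 h2 h3 => absurd h3 (by simp [hc d h1 h2])) Iff.rfl
  · obtain ⟨hb, hbT⟩ := hC.mate_mem hq hq'
    simp only [hp', hq'] at hc
    have hb1 : coef b (vec e : W) = 1 := (hc b hb hbT).2 (by simp)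
    have huniq : ∀ d ∈ edges D P, d ∈ (T : Set H) → coef d (vec e : W) = 1 → d = b := fun d h1 h2 h3 => by
      have := (hc d h1 h2).1 h3
      simp at this
      exact this.symm
    constructor
    · rintro (h | ⟨-, h⟩)
      · exact ⟨fun _ d hd => (Option.some.inj hd) ▸ h b hb hbT hb1, fun _ d hd => absurd hd (by simp)⟩
      · exact absurd ⟨b, ⟨hb, hbT, hb1⟩, fun d hd => huniq d hd.1 hd.2.1 hd.2.2⟩ h
    · intro h
      have hbO : b ∈ O := h.1 (fun d hd => absurd hd (by simp)) b rfl
      exact Or.inl fun d h1 h2 h3 => huniq d h1 h2 h3 ▸ hbO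
  · obtain ⟨ha, haT⟩ := hC.mate_mem hp hp'
    simp only [hp', hq'] at hc
    have ha1 : coef a (vec e : W) = 1 := (hc a ha haT).2 (by simp)
    have huniq : ∀ d ∈ edges D P, d ∈ (T : Set H) → coef d (vec e : W) = 1 → d = a := fun d h1 h2 h3 => by
      have := (hc d h1 h2).1 h3
      simp at this
      exact this.symm
    constructor
    · rintro (h | ⟨-, h⟩)
      · exact ⟨fun _ d hd => absurd hd (by simp), fun _ d hd => (Option.some.inj hd) ▸ h a ha haT ha1⟩
      · exact absurd ⟨a, ⟨ha, haT, ha1⟩, fun d hd => huniq d hd.1 hd.2.1 hd.2.2⟩ h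
    · intro h
      have haO : a ∈ O := h.2 (fun d hd => absurd hd (by simp)) a rfl
      exact Or.inl fun d h1 h2 h3 => huniq d h1 h2 h3 ▸ haO
  · obtain ⟨ha, haT⟩ := hC.mate_mem hp hp'
    obtain ⟨hb, hbT⟩ := hC.mate_mem hq hq'
    simp only [hp', hq'] at hc
    simp only [Option.some.injEq, forall_eq']
    rcases eq_or_ne a b with rfl | hab
    · exact iff_of_true (Or.inl fun d h1 h2 h3 => absurd h3 (by simp [hc d h1 h2])) Iff.rfl
    have ha1 : coef a (vec e : W) = 1 := (hc a ha haT).2 (by simp [hab.symm])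
    have hb1 : coef b (vec e : W) = 1 := (hc b hb hbT).2 (by simp [hab])
    have hset : ∀ d ∈ edges D P, d ∈ (T : Set H) → coef d (vec e : W) = 1 → d = a ∨ d = b :=
      fun d h1 h2 h3 => by
        by_contra hn
        push Not at hn
        exact (hc d h1 h2).1 h3 (by simp [Ne.symm hn.1, Ne.symm hn.2])
    constructor
    · rintro (h | ⟨h, -⟩)
      · exact iff_of_true (h a ha haT ha1) (h b hb hbT hb1)
      · exact iff_of_false (h a ha haT ha1) (h b hb hbT hb1)
    · intro h
      by_cases hO : a ∈ O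
      · refine Or.inl fun d h1 h2 h3 => ?_
        rcases hset d h1 h2 h3 with e' | e' <;> rw [e']
        exacts [hO, h.1 hO]
      · refine Or.inr ⟨fun d h1 h2 h3 => ?_, ?_⟩
        · rcases hset d h1 h2 h3 with e' | e' <;> rw [e']
          exacts [hO, fun hb' => hO (h.2 hb')]
        exact fun ⟨c, _, hu⟩ => hab ((hu a ⟨ha, haT, ha1⟩).trans (hu b ⟨hb, hbT, hb1⟩).symm)

end IsComp

end CfsgLib.FFModules.MinimalParabolic
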