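import Cfsg.Agent.Lib.FFModules.MinimalParabolic.SymDegree
import Mathlib.GroupTheory.Perm.Closure

/-!
A component of odd degree acts as the symmetric group on its even permutation module.
-/

set_option autoImplicit false
set_option linter.style.haveILetI false
set_option linter.unusedSectionVars false

namespace CfsgLib.FFModules.MinimalParabolic

open SL2Pair
open scoped Pointwise

variable {H W : Type*} [Group H] [AddCommGroup W] [DistribMulAction H W]

theorem IsSymComp.smul {E : Subgroup H} (h : IsSymComp E W) (t : H) :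
    IsSymComp (MulAut.conj t • E) W := by
  obtain ⟨n, ρ, ψ, hn, hsum, honto, hker, heq⟩ := h
  refine ⟨n, (Subgroup.equivSMul (MulAut.conj t) E).symm.trans ρ,
    ψ.comp (DistribSMul.toAddMonoidHom W t⁻¹), hn, fun v => hsum _, fun u hu => ?_, fun v => ?_,
    fun k v i => ?_⟩
  · obtain ⟨v, hv⟩ := honto u hu
    refine ⟨t • v, ?_⟩
    show ψ (t⁻¹ • t • v) = u
    rw [inv_smul_smul, hv]
  · show ψ (t⁻¹ • v) = 0 ↔ _
    rw [hker, mem_fixedSub_smul]
  · show ψ (t⁻¹ • (k : H) • v) i = _
    set k' := (Subgroup.equivSMul (MulAut.conj t) E).symm k with hk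
    have e1 : (k : H) = t * (k' : H) * t⁻¹ := by
      rw [hk]
      conv_lhs => rw [← (Subgroup.equivSMul (MulAut.conj t) E).apply_symm_apply k]
      rfl
    rw [e1, mul_smul, mul_smul, inv_smul_smul, heq]
    rfl

theorem moves_sup_fix_smul {E : Subgroup H} (h : moves E W ⊔ fixedSub E = ⊤) (t : H) :
    moves (MulAut.conj t • E) W ⊔ fixedSub (MulAut.conj t • E) = ⊤ := by
  refine eq_top_iff.2 fun v _ => ?_
  obtain ⟨m, hm, c, hc, e⟩ := AddSubgroup.mem_sup.1
    (show t⁻¹ • v ∈ moves E W ⊔ fixedSub E from h ▸ AddSubgroup.mem_top _)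
  rw [← smul_inv_smul t v, ← e, smul_add]
  exact add_mem (AddSubgroup.mem_sup_left (smul_mem_moves hm t))
    (AddSubgroup.mem_sup_right (mem_fixedSub_smul.2 (by rwa [inv_smul_smul])))

variable [Module (ZMod 2) W]

omit [DistribMulAction H W] in
theorem zmod_two_add_self (c : ZMod 2) : c + c = 0 := by
  rcases zmod_two_eq c with rfl | rfl <;> rfl

/-- The transvection with a prescribed pair of ends. -/
noncomputable def edgeOf [Nonempty H] (D : Set H) (p q : W) : H :=
  Classical.epsilon fun d => d ∈ D ∧ (vec d : W) = p + q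

open Classical in
/-- The functional of a pair of ends. -/
noncomputable def pairCoef (D : Set H) (p q v : W) : ZMod 2 :=
  if p = q then 0 else coef (edgeOf D p q) v

open Classical in
/-- The combination of the vectors of the pairs through a base vertex. -/
noncomputable def pairSum (P : Finset W) (b : W) (u : P → ZMod 2) : W :=
  ∑ p, u p • ((p : W) + b)

omit [DistribMulAction H W] in
theorem pairSum_add (P : Finset W) (b : W) (u u' : P → ZMod 2) :
    pairSum P b (u + u') = pairSum P b u + pairSum P b u' := by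
  simp only [pairSum, Pi.add_apply, add_smul, Finset.sum_add_distrib]

variable [Finite H] [Finite W]

namespace IsComp

variable {T : Sylow 2 H} {M : Subgroup H} {D : Set H} {P : Finset W} (hC : IsComp T M D P)
include hC

theorem edgeOf_spec {p q : W} (hp : p ∈ P) (hq : q ∈ P) (hpq : p ≠ q) :
    edgeOf D p q ∈ D ∧ (vec (edgeOf D p q) : W) = p + q := by
  obtain ⟨d, hd, hv⟩ := hC.edge p hp q hq hpq
  exact Classical.epsilon_spec (p := fun d => d ∈ D ∧ (vec d : W) = p + q) ⟨d, hd, hv⟩

theorem pairCoef_eq {p q : W} (hp : p ∈ P) (hq : q ∈ P) (hpq : p ≠ q) {d : H} (hd : d ∈ D)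
    (hv : (vec d : W) = p + q) (v : W) : pairCoef D p q v = coef d v := by
  obtain ⟨h1, h2⟩ := hC.edgeOf_spec hp hq hpq
  rw [pairCoef, if_neg hpq, hC.tvs.vec_injOn h1 hd (h2.trans hv.symm)]

theorem pairCoef_comm {p q : W} (hp : p ∈ P) (hq : q ∈ P) (v : W) :
    pairCoef D p q v = pairCoef D q p v := by
  rcases eq_or_ne p q with rfl | hpq
  · rfl
  obtain ⟨h1, h2⟩ := hC.edgeOf_spec hp hq hpq
  rw [hC.pairCoef_eq hq hp hpq.symm h1 (h2.trans (add_comm _ _)), hC.pairCoef_eq hp hq hpq h1 h2]

theorem pairCoef_trans {p q r : W} (hp : p ∈ P) (hq : q ∈ P) (hr : r ∈ P) (v : W) :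
    pairCoef D p r v = pairCoef D p q v + pairCoef D q r v := by
  have h0 : ∀ x : W, pairCoef D x x v = 0 := fun x => if_pos rfl
  rcases eq_or_ne p q with rfl | hpq
  · rw [h0, zero_add]
  rcases eq_or_ne q r with rfl | hqr
  · rw [h0, add_zero]
  rcases eq_or_ne p r with rfl | hpr
  · rw [h0, hC.pairCoef_comm hq hp, zmod_two_add_self]
  obtain ⟨h1, h2⟩ := hC.edgeOf_spec hp hq hpq
  obtain ⟨h3, h4⟩ := hC.edgeOf_spec hq hr hqr
  have hone : coef (edgeOf D p q) (vec (edgeOf D q r) : W) = 1 := by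
    rw [h4, hC.rel p hp q hq hpq _ h1 h2 q hq r hr, ind_right hpq, ind_other hpr.symm hqr.symm,
      add_zero]
  rw [hC.pairCoef_eq hp hr hpr (hC.tvs.conj _ _ h3) ?_, hC.tvs.coef_braid h1 h3 hone,
    hC.pairCoef_eq hp hq hpq h1 h2, hC.pairCoef_eq hq hr hqr h3 h4, add_comm]
  rw [hC.tvs.vec_braid h1 h3 hone, h2, h4, show q + r + (p + q) = (q + q) + (p + r) by abel,
    add_self_eq, zero_add]

theorem pairCoef_add {p q : W} (hp : p ∈ P) (hq : q ∈ P) (v w : W) :
    pairCoef D p q (v + w) = pairCoef D p q v + pairCoef D p q w := by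
  rcases eq_or_ne p q with rfl | hpq
  · simp [pairCoef]
  simp only [pairCoef, if_neg hpq]
  exact hC.tvs.coef_add (hC.edgeOf_spec hp hq hpq).1 v w

open Classical in
theorem pairCoef_edge {p q a b : W} (hp : p ∈ P) (hq : q ∈ P) (ha : a ∈ P) (hb : b ∈ P) :
    pairCoef D p q (a + b) = ind p q a + ind p q b := by
  rcases eq_or_ne p q with rfl | hpq
  · simp [pairCoef, ind, zmod_two_add_self]
  obtain ⟨h1, h2⟩ := hC.edgeOf_spec hp hq hpq
  rw [hC.pairCoef_eq hp hq hpq h1 h2, hC.rel p hp q hq hpq _ h1 h2 a ha b hb]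

/-- The coordinate map. -/
noncomputable def coord : W →+ (P → ZMod 2) where
  toFun v p := ∑ q : P, pairCoef D (p : W) q v
  map_zero' := by
    funext p
    refine Finset.sum_eq_zero fun q _ => ?_
    have h := hC.pairCoef_add p.2 q.2 0 0
    rw [add_zero, zmod_two_add_self] at h
    exact h
  map_add' v w := by
    funext p
    simp only [Pi.add_apply, ← Finset.sum_add_distrib]
    exact Finset.sum_congr rfl fun q _ => hC.pairCoef_add p.2 q.2 v w

variable (hodd : Odd P.card)
include hodd

theorem card_smul_eq (c : ZMod 2) : ∑ _q : P, c = c := by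
  obtain ⟨k, hk⟩ := hodd
  rw [Finset.sum_const, Finset.card_univ, Fintype.card_coe, hk, add_smul, one_smul, mul_smul,
    two_smul, zmod_two_add_self, zero_add]

theorem coord_pair (v : W) (p q : P) :
    hC.coord v p + hC.coord v q = pairCoef D (p : W) q v := by
  show (∑ r : P, pairCoef D (p : W) r v) + (∑ r : P, pairCoef D (q : W) r v) = _
  rw [← Finset.sum_add_distrib, Finset.sum_congr rfl fun r _ => ?_, hC.card_smul_eq hodd]
  rw [hC.pairCoef_trans p.2 q.2 r.2, add_assoc, zmod_two_add_self, add_zero]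

theorem coord_sum (v : W) : ∑ p : P, hC.coord v p = 0 := by
  obtain ⟨b, hb⟩ := Finset.card_pos.1 (show 0 < P.card by have := hC.three; omega)
  have h1 : ∀ p : P, hC.coord v p = hC.coord v ⟨b, hb⟩ + pairCoef D (p : W) b v := fun p => by
    rw [← hC.coord_pair hodd v p ⟨b, hb⟩, ← add_assoc, add_comm (hC.coord v ⟨b, hb⟩), add_assoc,
      zmod_two_add_self, add_zero]
  rw [Finset.sum_congr rfl fun p _ => h1 p, Finset.sum_add_distrib, hC.card_smul_eq hodd,
    Finset.sum_congr rfl fun p _ => hC.pairCoef_comm p.2 hb v]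
  exact zmod_two_add_self _

open Classical in
theorem coord_edge (a b p : P) : hC.coord ((a : W) + b) p =
    (if p = a then 1 else 0) + (if p = b then 1 else 0) := by
  have key : ∀ x : P, ∑ q : P, ind (p : W) q x = (if p = x then 1 else 0) + 1 := fun x => by
    have e : ∀ q : P, ind (p : W) q x =
        (if p = x then (1 : ZMod 2) else 0) + (if q = x then 1 else 0) := fun q => by
      simp only [ind, Subtype.coe_inj, @eq_comm _ x]
    rw [Finset.sum_congr rfl fun q _ => e q, Finset.sum_add_distrib, hC.card_smul_eq hodd,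
      Finset.sum_ite_eq' Finset.univ x, if_pos (Finset.mem_univ x)]
  show ∑ q : P, pairCoef D (p : W) q ((a : W) + b) = _
  rw [Finset.sum_congr rfl fun q _ => hC.pairCoef_edge p.2 q.2 a.2 b.2, Finset.sum_add_distrib,
    key, key, add_add_add_comm, zmod_two_add_self, add_zero]

theorem coord_eq_zero_iff (v : W) :
    hC.coord v = 0 ↔ v ∈ fixedSub (Subgroup.closure (edges D P)) := by
  constructor
  · intro h0
    have hle : Subgroup.closure (edges D P) ≤ MulAction.stabilizer H v := by
      refine (Subgroup.closure_le _).2 fun d hd => MulAction.mem_stabilizer_iff.2 ?_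
      obtain ⟨hdD, p, hp, q, hq, hpq, hv⟩ := hd
      have h1 : pairCoef D (p : W) q v = 0 := by
        have := hC.coord_pair hodd v ⟨p, hp⟩ ⟨q, hq⟩
        rw [h0] at this
        simpa using this.symm
      rw [hC.pairCoef_eq hp hq hpq hdD hv] at h1
      rw [hC.tvs.smul_eq hdD, h1, zero_smul, add_zero]
    exact fun g hg => MulAction.mem_stabilizer_iff.1 (hle hg)
  · intro h0
    funext p
    refine Finset.sum_eq_zero fun q _ => ?_
    rcases eq_or_ne (p : W) q with e | e
    · rw [pairCoef, if_pos e]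
    obtain ⟨h1, h2⟩ := hC.edgeOf_spec p.2 q.2 e
    rw [hC.pairCoef_eq p.2 q.2 e h1 h2]
    exact hC.tvs.coef_unique h1 (by
      rw [zero_smul, add_zero]
      exact h0 _ (Subgroup.subset_closure ⟨h1, p, p.2, q, q.2, e, h2⟩))

open Classical in
theorem coord_pairSum (b : P) (u : P → ZMod 2) (p : P) :
    hC.coord (pairSum P (b : W) u) p = u p + (∑ q, u q) * (if p = b then 1 else 0) := by
  classical
  have hs : ∀ (c : ZMod 2) (x : W), hC.coord (c • x) p = c * hC.coord x p := fun c x => by
    rcases zmod_two_eq c with rfl | rfl <;> simp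
  rw [pairSum, map_sum, Finset.sum_apply]
  simp only [hs, hC.coord_edge hodd, mul_add, Finset.sum_add_distrib, ← Finset.sum_mul]
  simp [mul_ite, Finset.sum_ite_eq]

theorem pairSum_eq_zero (b : P) (u : P → ZMod 2) (h : hC.coord (pairSum P (b : W) u) = 0) :
    pairSum P (b : W) u = 0 := by
  classical
  refine Finset.sum_eq_zero fun p _ => ?_
  rcases eq_or_ne p b with rfl | hpb
  · rw [add_self_eq, smul_zero]
  have h1 := congrFun h p
  rw [hC.coord_pairSum hodd b u p, if_neg hpb, mul_zero, add_zero] at h1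
  rw [h1, Pi.zero_apply, zero_smul]

theorem exists_coord_eq (u : P → ZMod 2) (hu : ∑ p, u p = 0) :
    ∃ v ∈ moves (Subgroup.closure (edges D P)) W, hC.coord v = u := by
  classical
  obtain ⟨b, hb⟩ := Finset.card_pos.1 (show 0 < P.card by have := hC.three; omega)
  refine ⟨pairSum P b u, AddSubgroup.sum_mem _ fun p _ => ?_, funext fun p => ?_⟩
  · rcases zmod_two_eq (u p) with e | e <;> rw [e]
    · rw [zero_smul]; exact zero_mem _
    rw [one_smul]
    rcases eq_or_ne (p : W) b with e' | e'
    · rw [e', add_self_eq]; exact zero_mem _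
    obtain ⟨d, hd, hv⟩ := hC.edge p p.2 b hb e'
    rw [← hv]
    refine moves_mono ?_ (hC.tvs.vec_mem_moves hd)
    exact Subgroup.zpowers_le.2 (Subgroup.subset_closure ⟨hd, p, p.2, b, hb, e', hv⟩)
  · rw [hC.coord_pairSum hodd ⟨b, hb⟩ u p, hu, zero_mul, add_zero]

theorem moves_sup_fix : moves (Subgroup.closure (edges D P)) W ⊔
    fixedSub (Subgroup.closure (edges D P)) = ⊤ := by
  refine eq_top_iff.2 fun v _ => ?_
  obtain ⟨m, hm, e⟩ := hC.exists_coord_eq hodd _ (hC.coord_sum hodd v)
  refine AddSubgroup.mem_sup.2 ⟨m, hm, v - m, ?_, add_sub_cancel _ _⟩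
  rw [← hC.coord_eq_zero_iff hodd, map_sub, e, sub_self]

/-- The permutation induced by an element of the component. -/
theorem exists_perm {g : H} (hg : g ∈ Subgroup.closure (edges D P)) :
    ∃ σ : Equiv.Perm P, ∀ v p, hC.coord (g • v) p = hC.coord v (σ⁻¹ p) := by
  classical
  induction hg using Subgroup.closure_induction with
  | mem d hd =>
    obtain ⟨hdD, a, ha, b, hb, hab, hv⟩ := hd
    refine ⟨Equiv.swap (⟨a, ha⟩ : P) ⟨b, hb⟩, fun v p => ?_⟩
    have hc : coef d v = hC.coord v ⟨a, ha⟩ + hC.coord v ⟨b, hb⟩ := by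
      rw [hC.coord_pair hodd]; exact (hC.pairCoef_eq ha hb hab hdD hv v).symm
    have hne : (⟨a, ha⟩ : P) ≠ ⟨b, hb⟩ := fun e => hab (congrArg Subtype.val e)
    rw [Equiv.swap_inv, hC.tvs.smul_eq hdD, map_add, Pi.add_apply, hv]
    have hs : hC.coord (coef d v • (a + b)) p = coef d v *
        ((if p = ⟨a, ha⟩ then 1 else 0) + (if p = ⟨b, hb⟩ then 1 else 0)) := by
      rcases zmod_two_eq (coef d v) with e | e <;> rw [e]
      · simp
      · rw [one_smul, one_mul]; exact hC.coord_edge hodd ⟨a, ha⟩ ⟨b, hb⟩ p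
    rw [hs, hc]
    rcases eq_or_ne p ⟨a, ha⟩ with rfl | h1
    · rw [if_pos rfl, if_neg hne, add_zero, mul_one, Equiv.swap_apply_left, ← add_assoc,
        zmod_two_add_self, zero_add]
    rcases eq_or_ne p ⟨b, hb⟩ with rfl | h2
    · rw [if_neg h1, if_pos rfl, zero_add, mul_one, Equiv.swap_apply_right,
        add_comm (hC.coord v ⟨a, ha⟩), ← add_assoc, zmod_two_add_self, zero_add]
    rw [if_neg h1, if_neg h2, add_zero, mul_zero, add_zero, Equiv.swap_apply_of_ne_of_ne h1 h2]
  | one => exact ⟨1, fun v p => by simp⟩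
  | mul x y _ _ hx hy =>
    obtain ⟨σ, hσ⟩ := hx
    obtain ⟨τ, hτ⟩ := hy
    exact ⟨σ * τ, fun v p => by rw [mul_smul, hσ, hτ, mul_inv_rev]; rfl⟩
  | inv x _ hx =>
    obtain ⟨σ, hσ⟩ := hx
    refine ⟨σ⁻¹, fun v p => ?_⟩
    have := hσ (x⁻¹ • v) (σ p)
    rw [smul_inv_smul] at this
    simpa using this.symm

theorem perm_unique {σ τ : Equiv.Perm P}
    (h : ∀ v p, hC.coord v (σ⁻¹ p) = hC.coord v (τ⁻¹ p)) : σ = τ := by
  classical
  refine inv_inj.1 (Equiv.ext fun p => ?_)
  by_contra hne
  set x := σ⁻¹ p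
  set y := τ⁻¹ p
  obtain ⟨r, hr, hrne⟩ : ∃ r : P, r ≠ x ∧ r ≠ y := by
    have h3 := hC.three
    have h2 : ({x, y} : Finset P).card ≤ 2 := Finset.card_le_two
    have : ({x, y} : Finset P).card < (Finset.univ : Finset P).card := by
      rw [Finset.card_univ, Fintype.card_coe]; omega
    obtain ⟨r, -, hr⟩ := Finset.exists_mem_notMem_of_card_lt_card this
    simp only [Finset.mem_insert, Finset.mem_singleton, not_or] at hr
    exact ⟨r, hr⟩
  have e := h ((x : W) + r) p
  rw [hC.coord_edge hodd, hC.coord_edge hodd, if_pos rfl, if_neg hr.symm, if_neg (Ne.symm hne),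
    if_neg hrne.symm] at e
  simp at e

theorem smul_pairSum (b : P) {g : H} (hg : g ∈ Subgroup.closure (edges D P)) (u : P → ZMod 2) :
    ∃ u', g • pairSum P (b : W) u = pairSum P (b : W) u' := by
  classical
  revert u
  have hedge : ∀ d ∈ edges D P, ∀ u, ∃ u', d • pairSum P (b : W) u = pairSum P (b : W) u' := by
    intro d hd u
    obtain ⟨hdD, a, ha, c, hc, -, hv⟩ := hd
    refine ⟨u + coef d (pairSum P (b : W) u) •
      ((fun p : P => if (p : W) = a then (1 : ZMod 2) else 0) +
        fun p : P => if (p : W) = c then (1 : ZMod 2) else 0), ?_⟩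
    rw [hC.tvs.smul_eq hdD, pairSum_add]
    rcases zmod_two_eq (coef d (pairSum P (b : W) u)) with e | e <;> rw [e]
    · rw [zero_smul, zero_smul]; simp [pairSum]
    rw [one_smul, one_smul, hv]
    congr 1
    have key : ∀ x ∈ P, pairSum P (b : W) (fun p : P => if (p : W) = x then (1 : ZMod 2) else 0) =
        x + b := fun x hx => by
      rw [pairSum, Finset.sum_eq_single ⟨x, hx⟩ (fun p _ hp => ?_) (by simp)]
      · simp
      · rw [if_neg fun e => hp (Subtype.ext e), zero_smul]
    rw [pairSum_add, key a ha, key c hc,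
      add_add_add_comm, add_self_eq, add_zero]
  induction hg using Subgroup.closure_induction_left with
  | one => exact fun u => ⟨u, one_smul _ _⟩
  | mul_left d hd y _ ih =>
    intro u
    obtain ⟨u', e⟩ := ih u
    obtain ⟨u'', e'⟩ := hedge d hd u'
    exact ⟨u'', by rw [mul_smul, e, e']⟩
  | inv_mul_cancel d hd y _ ih =>
    intro u
    obtain ⟨u', e⟩ := ih u
    obtain ⟨u'', e'⟩ := hedge d hd u'
    exact ⟨u'', by rw [hC.tvs.inv_eq hd.1, mul_smul, e, e']⟩

/-- A component of odd degree is a symmetric group on its even module. -/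
theorem isSymComp {n : ℕ} (hn : 1 ≤ n) (hcard : P.card = 2 ^ n + 1) :
    IsSymComp (Subgroup.closure (edges D P)) W := by
  classical
  set K := Subgroup.closure (edges D P) with hK
  choose f hf using fun g : K => hC.exists_perm hodd g.2
  let ρ₀ : K →* Equiv.Perm P := MonoidHom.mk' f fun g k => hC.perm_unique hodd fun v p => by
    rw [← hf, Subgroup.coe_mul, mul_smul, hf, hf, mul_inv_rev]
    rfl
  have hinj : Function.Injective ρ₀ := by
    refine (injective_iff_map_eq_one ρ₀).2 fun g hg => Subtype.ext (hC.tvs.set.faithful _ fun v => ?_)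
    obtain ⟨b, hb⟩ := Finset.card_pos.1 (show 0 < P.card by have := hC.three; omega)
    set u := hC.coord v
    set x := pairSum P b u with hx
    have hz : v - x ∈ fixedSub K := by
      rw [← hC.coord_eq_zero_iff hodd, map_sub]
      funext p
      rw [Pi.sub_apply, hx, hC.coord_pairSum hodd ⟨b, hb⟩ u p, hC.coord_sum hodd v, zero_mul,
        add_zero, sub_self]
      rfl
    obtain ⟨u', hu'⟩ := hC.smul_pairSum hodd ⟨b, hb⟩ g.2 u
    have h1 : hC.coord ((g : H) • x) = hC.coord x := funext fun p => by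
      rw [hf, show f g = 1 from hg, inv_one]
      rfl
    have h2 : (g : H) • x - x = 0 := by
      have e : (g : H) • x - x = pairSum P b (u' + u) := by
        rw [hx, hu', pairSum_add, sub_eq_add']
      rw [e]
      refine hC.pairSum_eq_zero hodd ⟨b, hb⟩ _ ?_
      rw [← e, map_sub, h1, sub_self]
    calc (g : H) • v = (g : H) • x + (g : H) • (v - x) := by rw [← smul_add, add_sub_cancel]
      _ = x + (v - x) := by rw [sub_eq_zero.1 h2, hz _ g.2]
      _ = v := add_sub_cancel _ _
  have hsurj : Function.Surjective ρ₀ := by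
    refine MonoidHom.range_eq_top.1 (top_le_iff.1 ?_)
    rw [← Equiv.Perm.closure_isSwap, Subgroup.closure_le]
    rintro _ ⟨a, c, hac, rfl⟩
    obtain ⟨d, hd, hv⟩ := hC.edge a a.2 c c.2 (fun e => hac (Subtype.ext e))
    have hdK : d ∈ K := Subgroup.subset_closure ⟨hd, a, a.2, c, c.2, fun e => hac (Subtype.ext e), hv⟩
    refine ⟨⟨d, hdK⟩, hC.perm_unique hodd fun v p => ?_⟩
    show hC.coord v ((f ⟨d, hdK⟩)⁻¹ p) = _
    rw [← hf, Equiv.swap_inv]
    show hC.coord (d • v) p = _
    have hcv : coef d v = hC.coord v a + hC.coord v c := by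
      rw [hC.coord_pair hodd]
      exact (hC.pairCoef_eq a.2 c.2 (fun e => hac (Subtype.ext e)) hd hv v).symm
    have hs : hC.coord (coef d v • ((a : W) + c)) p = coef d v *
        ((if p = a then 1 else 0) + (if p = c then 1 else 0)) := by
      rcases zmod_two_eq (coef d v) with e | e <;> rw [e]
      · simp
      · rw [one_smul, one_mul]; exact hC.coord_edge hodd a c p
    rw [hC.tvs.smul_eq hd, map_add, Pi.add_apply, hv, hs, hcv]
    rcases eq_or_ne p a with rfl | h1
    · rw [if_pos rfl, if_neg hac, add_zero, mul_one, Equiv.swap_apply_left, ← add_assoc,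
        zmod_two_add_self, zero_add]
    rcases eq_or_ne p c with rfl | h2
    · rw [if_neg h1, if_pos rfl, zero_add, mul_one, Equiv.swap_apply_right,
        add_comm (hC.coord v a), ← add_assoc, zmod_two_add_self, zero_add]
    rw [if_neg h1, if_neg h2, add_zero, mul_zero, add_zero, Equiv.swap_apply_of_ne_of_ne h1 h2]
  have hcard' : Fintype.card P = 2 ^ n + 1 := by rw [Fintype.card_coe, hcard]
  set e : P ≃ Fin (2 ^ n + 1) := Fintype.equivFinOfCardEq hcard'
  let ψ : W →+ (Fin (2 ^ n + 1) → ZMod 2) :=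
    { toFun := fun v i => hC.coord v (e.symm i)
      map_zero' := by funext i; simp
      map_add' := fun v w => by funext i; simp }
  refine ⟨n, (MulEquiv.ofBijective ρ₀ ⟨hinj, hsurj⟩).trans (Equiv.permCongrHom e), ψ, hn,
    fun v => ?_, fun u hu => ?_, fun v => ?_, fun g v i => ?_⟩
  · show ∑ i, hC.coord v (e.symm i) = 0
    rw [Equiv.sum_comp e.symm (hC.coord v)]
    exact hC.coord_sum hodd v
  · obtain ⟨v, -, hv⟩ := hC.exists_coord_eq hodd (fun p => u (e p)) (by
      rw [Equiv.sum_comp e u]; exact hu)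
    exact ⟨v, funext fun i => by
      show hC.coord v (e.symm i) = _
      rw [hv]
      simp⟩
  · rw [← hC.coord_eq_zero_iff hodd]
    exact ⟨fun h => funext fun p => by simpa [ψ] using congrFun h (e p),
      fun h => funext fun i => by simp [ψ, h]⟩
  · show hC.coord ((g : H) • v) (e.symm i) = hC.coord v (e.symm (_ : Fin (2 ^ n + 1)))
    rw [hf]
    congr 1
    simp [ρ₀, Equiv.permCongrHom, Equiv.Perm.inv_def, MulEquiv.ofBijective, Equiv.permCongr_def]

end IsComp

end CfsgLib.FFModules.MinimalParabolic
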