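import Cfsg.Agent.Lib.FFModules.MinimalParabolic.Frame

/-!
The translates of a closed frame and the criterion for lying in the maximal subgroup over `T`.
-/

set_option autoImplicit false
set_option linter.style.haveILetI false
set_option linter.unusedSectionVars false

namespace CfsgLib.FFModules.MinimalParabolic

open SL2Pair
open scoped Pointwise

variable {H W : Type*} [Group H] [AddCommGroup W] [DistribMulAction H W] [Module (ZMod 2) W]
variable [Finite H] [Finite W]

/-- The elements mapping a set into itself by conjugation. -/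
def conjStab (C : Set H) : Subgroup H where
  carrier := {g | ∀ d ∈ C, g * d * g⁻¹ ∈ C}
  one_mem' d hd := by simpa using hd
  mul_mem' {g g'} hg hg' d hd := by
    rw [show g * g' * d * (g * g')⁻¹ = g * (g' * d * g'⁻¹) * g⁻¹ by group]
    exact hg _ (hg' d hd)
  inv_mem' {g} hg d hd := by
    let f : C → C := fun x => ⟨g * x * g⁻¹, hg x x.2⟩
    have hf : Function.Injective f := fun x y e => Subtype.ext <| by
      simpa [f] using congrArg Subtype.val e
    obtain ⟨y, hy⟩ := (Finite.injective_iff_surjective.1 hf) ⟨d, hd⟩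
    have e : g * (y : H) * g⁻¹ = d := congrArg Subtype.val hy
    rw [← e, show g⁻¹ * (g * (y : H) * g⁻¹) * g⁻¹⁻¹ = y by group]
    exact y.2

omit [Module (ZMod 2) W] [Finite W] [AddCommGroup W] [DistribMulAction H W] in
theorem mem_conjStab {C : Set H} {g : H} : g ∈ conjStab C ↔ ∀ d ∈ C, g * d * g⁻¹ ∈ C := Iff.rfl

/-- A frame closed under incidence. -/
structure IsComp (T : Sylow 2 H) (M : Subgroup H) (D : Set H) (P : Finset W) : Prop
    extends IsFrame D P where
  tvs : Tvs T M D W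
  closed : ∀ c ∈ D, ∀ f ∈ edges D P, coef c (vec f : W) ≠ 0 → c ∈ edges D P
  sup_top : Subgroup.closure (edges D P) ⊔ (T : Subgroup H) = ⊤
  not_le : ¬ edges D P ⊆ (M : Set H)

namespace IsComp

variable {T : Sylow 2 H} {M : Subgroup H} {D : Set H} {P : Finset W} (hC : IsComp T M D P)
include hC

theorem rel_conj {d e : H} (hd : d ∈ D) (he : e ∈ D) (g : H) :
    coef (g * d * g⁻¹) (vec (g * e * g⁻¹) : W) = coef d (vec e : W) := by
  rw [hC.tvs.coef_conj g hd, hC.tvs.vec_conj g he, inv_smul_smul]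

open Classical in
/-- Edges are closed under conjugation by edges. -/
theorem conj_edge {d : H} (hd : d ∈ edges D P) : d ∈ conjStab (edges D P) := by
  obtain ⟨hdD, p, hp, q, hq, hpq, hv⟩ := hd
  rintro e ⟨heD, r, hr, s, hs, hrs, hv'⟩
  have hmem : ∀ {x}, x ∈ P → Equiv.swap p q x ∈ P := fun {x} hx => by
    rw [Equiv.swap_apply_def]
    split_ifs <;> assumption
  refine ⟨hC.tvs.conj d e heD, _, hmem hr, _, hmem hs, (Equiv.swap p q).injective.ne hrs, ?_⟩
  rw [hC.tvs.vec_conj d heD, hv', hC.tvs.smul_edge hC.toIsFrame hp hq hpq hdD hv hr hs]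

theorem closure_le_stab : Subgroup.closure (edges D P) ≤ conjStab (edges D P) :=
  (Subgroup.closure_le _).2 fun _ hd => hC.conj_edge hd

/-- Two edges are equal, related, or related to a third. -/
theorem connected {e f : H} (he : e ∈ edges D P) (hf : f ∈ edges D P) :
    e = f ∨ coef e (vec f : W) = 1 ∨
      ∃ g ∈ edges D P, coef g (vec e : W) = 1 ∧ coef g (vec f : W) = 1 := by
  obtain ⟨heD, p, hp, q, hq, hpq, hv⟩ := he
  obtain ⟨hfD, r, hr, s, hs, hrs, hv'⟩ := hf
  rcases eq_or_ne (coef e (vec f : W)) 1 with h1 | h1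
  · exact Or.inr (Or.inl h1)
  have h0 : coef e (vec f : W) = 0 := (zmod_two_eq _).resolve_right h1
  rw [hv', hC.rel p hp q hq hpq e heD hv r hr s hs] at h0
  by_cases hsame : (r = p ∨ r = q) ∧ (s = p ∨ s = q)
  · refine Or.inl (hC.tvs.vec_injOn heD hfD (hv.trans (Eq.trans ?_ hv'.symm)))
    rcases hsame with ⟨rfl | rfl, rfl | rfl⟩
    · exact absurd rfl hrs
    · rfl
    · exact add_comm _ _
    · exact absurd rfl hrs
  -- disjoint
  have hd : r ≠ p ∧ r ≠ q ∧ s ≠ p ∧ s ≠ q := by
    rcases eq_or_ne r p with rfl | a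
    · rw [ind_left hpq, ind_other (r := s) (Ne.symm hrs)
        (fun e => hsame ⟨Or.inl rfl, Or.inr e⟩)] at h0
      exact absurd h0 one_ne_zero
    rcases eq_or_ne r q with rfl | b
    · rw [ind_right hpq, ind_other (r := s) (fun e => hsame ⟨Or.inr rfl, Or.inl e⟩)
        (Ne.symm hrs)] at h0
      exact absurd h0 one_ne_zero
    rw [ind_other a b, zero_add] at h0
    refine ⟨a, b, fun e => ?_, fun e => ?_⟩
    · subst e; rw [ind_left hpq] at h0; exact one_ne_zero h0
    · subst e; rw [ind_right hpq] at h0; exact one_ne_zero h0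
  obtain ⟨a, b, c, d⟩ := hd
  obtain ⟨g, hg, hvg⟩ := hC.edge p hp r hr a.symm
  refine Or.inr (Or.inr ⟨g, ⟨hg, p, hp, r, hr, a.symm, hvg⟩, ?_, ?_⟩)
  · rw [hv, hC.rel p hp r hr a.symm g hg hvg p hp q hq, ind_left a.symm,
      ind_other hpq.symm b.symm, add_zero]
  · rw [hv', hC.rel p hp r hr a.symm g hg hvg r hr s hs, ind_right a.symm,
      ind_other c hrs.symm, add_zero]

theorem mem_stab_of_meet {g d : H} (hd : d ∈ edges D P) (hgd : g * d * g⁻¹ ∈ edges D P) :
    g ∈ conjStab (edges D P) := by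
  have step : ∀ {x y : H}, x ∈ edges D P → y ∈ edges D P → g * x * g⁻¹ ∈ edges D P →
      coef y (vec x : W) = 1 → g * y * g⁻¹ ∈ edges D P := fun {x y} hx hy hgx h1 =>
    hC.closed _ (hC.tvs.conj g y hy.1) _ hgx (by rw [hC.rel_conj hy.1 hx.1 g, h1]; exact one_ne_zero)
  intro f hf
  rcases hC.connected hd hf with rfl | h1 | ⟨k, hk, h1, h2⟩
  · exact hgd
  · exact step hd hf hgd (by rw [hC.tvs.coef_symm hf.1 hd.1]; exact h1)
  · exact step hk hf (step hd hk hgd h1) (by rw [hC.tvs.coef_symm hf.1 hk.1]; exact h2)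

/-- Elements of different translates commute. -/
theorem commute_translate {g d e : H} (hg : g ∉ conjStab (edges D P)) (hd : d ∈ edges D P)
    (he : e ∈ edges D P) : e * (g * d * g⁻¹) = g * d * g⁻¹ * e := by
  have hgd := hC.tvs.conj g d hd.1
  refine (hC.tvs.commute_iff he.1 hgd).2 (by_contra fun hne => hg (hC.mem_stab_of_meet hd ?_))
  refine hC.closed _ hgd e he ?_
  rwa [hC.tvs.coef_symm hgd he.1]

theorem exists_edge : ∃ d, d ∈ edges D P := by
  obtain ⟨p, hp, q, hq, hpq⟩ := Finset.one_lt_card.1 (show 1 < P.card by have := hC.three; omega)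
  obtain ⟨d, hd, hv⟩ := hC.edge p hp q hq hpq
  exact ⟨d, hd, p, hp, q, hq, hpq, hv⟩

/-- `H` is the product of `T` and the stabilizer of the component. -/
theorem exists_translate (g : H) :
    ∃ t ∈ (T : Subgroup H), t⁻¹ * g ∈ conjStab (edges D P) := by
  obtain ⟨d, hd⟩ := hC.exists_edge
  set S : Set H := {x | ∃ t ∈ (T : Subgroup H), t⁻¹ * x * t ∈ edges D P} with hS
  have hle : Subgroup.closure (edges D P) ⊔ (T : Subgroup H) ≤ conjStab S := by
    refine sup_le ((Subgroup.closure_le _).2 fun e he => ?_) fun t ht => ?_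
    · rintro x ⟨t, ht, hx⟩
      by_cases hts : t ∈ conjStab (edges D P)
      · refine ⟨1, one_mem _, ?_⟩
        have hx' := hts _ hx
        rw [show t * (t⁻¹ * x * t) * t⁻¹ = x by group] at hx'
        simpa using hC.conj_edge he x hx'
      · refine ⟨t, ht, ?_⟩
        have h1 := hC.commute_translate hts hx he
        rw [show t * (t⁻¹ * x * t) * t⁻¹ = x by group] at h1
        rwa [h1, mul_inv_cancel_right]
    · rintro x ⟨s, hs, hx⟩
      refine ⟨t * s, mul_mem ht hs, ?_⟩
      rwa [show (t * s)⁻¹ * (t * x * t⁻¹) * (t * s) = s⁻¹ * x * s by group]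
  rw [hC.sup_top] at hle
  obtain ⟨t, ht, hx⟩ := hle (Subgroup.mem_top g) d ⟨1, one_mem _, by simpa using hd⟩
  refine ⟨t, ht, hC.mem_stab_of_meet hd ?_⟩
  rw [show t⁻¹ * g * d * (t⁻¹ * g)⁻¹ = t⁻¹ * (g * d * g⁻¹) * t by group]
  exact hx

theorem exists_conj {x y : H} (hx : x ∈ edges D P) (hy : y ∈ edges D P) :
    ∃ k ∈ Subgroup.closure (edges D P), k * x * k⁻¹ = y := by
  have key : ∀ {u v : H}, u ∈ edges D P → v ∈ edges D P → coef u (vec v : W) = 1 →
      ∃ k ∈ Subgroup.closure (edges D P), k * u * k⁻¹ = v := by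
    intro u v hu hv h1
    refine ⟨u * v, Subgroup.mul_mem _ (Subgroup.subset_closure hu) (Subgroup.subset_closure hv), ?_⟩
    have h1' : coef v (vec u : W) = 1 := hC.tvs.coef_symm hu.1 hv.1 ▸ h1
    refine hC.tvs.vec_injOn (hC.tvs.conj _ _ hu.1) hv.1 ?_
    rw [hC.tvs.vec_conj (u * v) hu.1, mul_smul, hC.tvs.smul_eq hv.1, h1', one_smul,
      smul_add, hC.tvs.smul_eq hu.1, hC.tvs.coef_vec_self hu.1, zero_smul, add_zero,
      hC.tvs.smul_eq hu.1, h1, one_smul]
    rw [← add_assoc, add_comm (vec u : W) (vec v), add_assoc, add_self_eq, add_zero]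
  rcases hC.connected hx hy with rfl | h1 | ⟨g, hg, h1, h2⟩
  · exact ⟨1, one_mem _, by simp⟩
  · exact key hx hy h1
  · obtain ⟨k, hk, e⟩ := key hx hg (hC.tvs.coef_symm hg.1 hx.1 ▸ h1)
    obtain ⟨k', hk', e'⟩ := key hg hy h2
    exact ⟨k' * k, Subgroup.mul_mem _ hk' hk, by rw [← e', ← e]; group⟩

/-- The criterion for lying in `M`. -/
theorem mem_M {S₀ Ω : Set H} (hS₀ : S₀ ⊆ Subgroup.closure (edges D P))
    (hinv : ∀ t ∈ (T : Subgroup H), t ∈ conjStab (edges D P) → ∀ s ∈ S₀, t * s * t⁻¹ ∈ S₀)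
    (hd : ∃ d ∈ edges D P, d ∈ S₀) (hΩ : Ω ⊆ edges D P) (hpres : ∀ s ∈ S₀, s ∈ conjStab Ω)
    (hbreak : ∃ e ∈ edges D P, e ∉ conjStab Ω) : S₀ ⊆ (M : Set H) := by
  classical
  obtain ⟨d, hdC, hdS⟩ := hd
  obtain ⟨e, heC, heΩ⟩ := hbreak
  set S : Set H := {x | ∃ t ∈ (T : Subgroup H), ∃ s ∈ S₀, x = t * s * t⁻¹} with hS
  set X := Subgroup.closure S with hX
  have hSX : S₀ ⊆ (X : Set H) := fun s hs => Subgroup.subset_closure ⟨1, one_mem _, s, hs, by simp⟩
  by_cases htop : X ⊔ (T : Subgroup H) = ⊤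
  · exfalso
    have hTN : (T : Subgroup H) ≤ Subgroup.normalizer (X : Set H) := fun t ht =>
      LLemma.mem_normalizer_of_conj_le <| by
        rw [Subgroup.pointwise_smul_subset_iff, hX, Subgroup.closure_le]
        rintro x ⟨u, hu, s, hs, rfl⟩
        refine Subgroup.mem_inv_pointwise_smul_iff.2 (Subgroup.subset_closure
          ⟨t * u, mul_mem ht hu, s, hs, ?_⟩)
        show t * (u * s * u⁻¹) * t⁻¹ = _
        group
    have hN : X.Normal := Subgroup.normalizer_eq_top_iff.1
      (top_le_iff.1 (htop ▸ sup_le Subgroup.le_normalizer hTN))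
    -- every transvection of the component lies in `X`
    have heX : e ∈ X := by
      obtain ⟨k, -, ek⟩ := hC.exists_conj hdC heC
      rw [← ek]
      exact hN.conj_mem d (hSX hdS) k
    have hXle : X ≤ conjStab Ω := (Subgroup.closure_le _).2 <| by
      rintro x ⟨t, ht, s, hs, rfl⟩
      by_cases hts : t ∈ conjStab (edges D P)
      · exact hpres _ (hinv t ht hts s hs)
      · intro y hy
        have hcent : s ∈ Subgroup.centralizer ({t⁻¹ * y * t} : Set H) := by
          refine (Subgroup.closure_le _).2 (fun f hf => ?_) (hS₀ hs)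
          refine Subgroup.mem_centralizer_iff.2 fun z hz => ?_
          rw [Set.mem_singleton_iff.1 hz]
          have h1 := hC.commute_translate hts hf (hΩ hy)
          calc t⁻¹ * y * t * f = t⁻¹ * (y * (t * f * t⁻¹)) * t := by group
            _ = t⁻¹ * (t * f * t⁻¹ * y) * t := by rw [h1]
            _ = f * (t⁻¹ * y * t) := by group
        have h2 := Subgroup.mem_centralizer_iff.1 hcent _ rfl
        rw [show t * s * t⁻¹ * y * (t * s * t⁻¹)⁻¹ = t * (s * (t⁻¹ * y * t) * s⁻¹) * t⁻¹ by group,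
          ← h2, show t * (t⁻¹ * y * t * s * s⁻¹) * t⁻¹ = y by group]
        exact hy
    exact heΩ (hXle heX)
  · exact fun s hs => hC.tvs.set.le_M_of_sylow_le le_sup_right htop (Subgroup.mem_sup_left (hSX hs))

end IsComp

end CfsgLib.FFModules.MinimalParabolic
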