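import Cfsg.Agent.Lib.FFModules.MinimalParabolic.BigCase
import Cfsg.Agent.Lib.FFModules.MinimalParabolic.Points
import Mathlib.Algebra.Module.ZMod

/-!
Minimal offenders of order two: a conjugacy class of transvections with symmetric incidence.
-/

set_option autoImplicit false
set_option linter.style.haveILetI false
set_option linter.unusedSectionVars false

namespace CfsgLib.FFModules.MinimalParabolic

open SL2Pair
open scoped Pointwise

theorem zmod_two_eq (c : ZMod 2) : c = 0 ∨ c = 1 := by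
  revert c; decide

variable {H W : Type*} [Group H] [AddCommGroup W] [DistribMulAction H W] [Module (ZMod 2) W]

omit [DistribMulAction H W] in
theorem add_self_eq (v : W) : v + v = 0 := by
  rw [← one_smul (ZMod 2) v, ← add_smul, show (1 : ZMod 2) + 1 = 0 from rfl, zero_smul]

omit [DistribMulAction H W] in
theorem sub_eq_add' (v w : W) : v - w = v + w := by
  rw [sub_eq_add_neg, neg_eq_of_add_eq_zero_left (add_self_eq w)]

theorem smul_zmod (g : H) (c : ZMod 2) (v : W) : g • (c • v) = c • (g • v) := by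
  rcases zmod_two_eq c with rfl | rfl <;> simp

open Classical in
/-- The vector moved by a transvection. -/
noncomputable def vec (d : H) : W :=
  if hd : ∃ v : W, d • v ≠ v then d • Classical.choose hd - Classical.choose hd else 0

open Classical in
/-- The functional of a transvection. -/
noncomputable def coef (d : H) (v : W) : ZMod 2 := if d • v = v then 0 else 1

/-- A conjugation invariant set of involutions generating minimal offenders. -/
structure Tvs [Fact (Nat.Prime 2)] (T : Sylow 2 H) (M : Subgroup H) (D : Set H) (W : Type*)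
    [AddCommGroup W] [DistribMulAction H W] : Prop where
  set : Setting 2 T M W
  conj : ∀ g d : H, d ∈ D → g * d * g⁻¹ ∈ D
  isMin : ∀ d ∈ D, IsMin 2 (Subgroup.zpowers d) W
  two : ∀ d ∈ D, Nat.card ↥(Subgroup.zpowers d) = 2

namespace Tvs

variable [Finite H] [Finite W] {T : Sylow 2 H} {M : Subgroup H} {D : Set H}
variable (hD : Tvs T M D W) {d e : H}
include hD

theorem sq_eq (hd : d ∈ D) : d * d = 1 := by
  have h1 : orderOf d = 2 := by rw [← Nat.card_zpowers]; exact hD.two d hd
  rw [← sq, ← h1, pow_orderOf_eq_one]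

theorem inv_eq (hd : d ∈ D) : d⁻¹ = d := inv_eq_of_mul_eq_one_right (hD.sq_eq hd)

theorem ne_one (hd : d ∈ D) : d ≠ 1 := fun e => by
  have h1 := hD.two d hd
  rw [Nat.card_zpowers, e, orderOf_one] at h1
  omega

theorem exists_moved' (hd : d ∈ D) : ∃ v : W, d • v ≠ v := by
  by_contra hc
  push Not at hc
  exact hD.ne_one hd (hD.set.faithful d hc)

theorem vec_ne (hd : d ∈ D) : (vec d : W) ≠ 0 := by
  rw [vec, dif_pos (hD.exists_moved' hd)]
  exact sub_ne_zero.2 (Classical.choose_spec (hD.exists_moved' hd))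

theorem smul_sub_eq (hd : d ∈ D) {v : W} (hv : d • v ≠ v) : d • v - v = vec d := by
  obtain ⟨n, hn⟩ := exists_nsmul_of_mem_zmultiples (hD.set.moves_le_zmultiples (hD.isMin d hd)
    (hD.two d hd) (Subgroup.mem_zpowers d) (v := v) (sub_ne_zero.2 hv)
    (sub_mem_moves (Subgroup.mem_zpowers d) (Classical.choose (hD.exists_moved' hd))))
  have h0 := hD.vec_ne hd
  rw [vec, dif_pos (hD.exists_moved' hd)] at h0 ⊢
  rw [← hn] at h0 ⊢
  rw [← Nat.cast_smul_eq_nsmul (ZMod 2)] at h0 ⊢
  rcases zmod_two_eq (n : ZMod 2) with e | e <;> rw [e] at h0 ⊢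
  · exact absurd (zero_smul _ _) h0
  · rw [one_smul]

theorem smul_eq (hd : d ∈ D) (v : W) : d • v = v + coef d v • vec d := by
  unfold coef
  split
  · rw [zero_smul, add_zero]; assumption
  · rw [one_smul, ← hD.smul_sub_eq hd ‹_›, add_sub_cancel]

theorem coef_unique (hd : d ∈ D) {v : W} {c : ZMod 2} (h : d • v = v + c • vec d) :
    coef d v = c := by
  have h1 := (hD.smul_eq hd v).symm.trans h
  rw [add_right_inj] at h1
  rcases zmod_two_eq (coef d v) with e | e <;> rcases zmod_two_eq c with e' | e' <;>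
    rw [e, e'] at h1 ⊢
  · exact absurd (by simpa using h1.symm) (hD.vec_ne hd)
  · exact absurd (by simpa using h1) (hD.vec_ne hd)

theorem coef_add (hd : d ∈ D) (v w : W) : coef d (v + w) = coef d v + coef d w :=
  hD.coef_unique hd (by
    rw [smul_add, hD.smul_eq hd v, hD.smul_eq hd w, add_smul]; abel)

theorem coef_zero (hd : d ∈ D) : coef d (0 : W) = 0 := hD.coef_unique hd (by simp)

theorem coef_vec_self (hd : d ∈ D) : coef d (vec d : W) = 0 := by
  obtain ⟨v, hv⟩ := hD.exists_moved' hd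
  refine hD.coef_unique hd ?_
  rw [zero_smul, add_zero, ← hD.smul_sub_eq hd hv]
  exact (hD.isMin d hd).quad d (Subgroup.mem_zpowers d) v d (Subgroup.mem_zpowers d)

theorem exists_coef_one (hd : d ∈ D) : ∃ v : W, coef d v = 1 := by
  obtain ⟨v, hv⟩ := hD.exists_moved' hd
  exact ⟨v, if_neg hv⟩

theorem vec_conj (g : H) (hd : d ∈ D) : (vec (g * d * g⁻¹) : W) = g • vec d := by
  obtain ⟨v, hv⟩ := hD.exists_moved' hd
  have e : (g * d * g⁻¹) • (g • v) = g • (d • v) := by rw [mul_smul, mul_smul, inv_smul_smul]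
  rw [← hD.smul_sub_eq (hD.conj g d hd) (v := g • v) (by rw [e, Ne, smul_left_cancel_iff]; exact hv),
    e, ← hD.smul_sub_eq hd hv, smul_sub]

theorem coef_conj (g : H) (hd : d ∈ D) (v : W) : coef (g * d * g⁻¹) v = coef d (g⁻¹ • v) := by
  refine hD.coef_unique (hD.conj g d hd) ?_
  rw [hD.vec_conj g hd, mul_smul, mul_smul, hD.smul_eq hd (g⁻¹ • v), smul_add, smul_inv_smul,
    smul_zmod]

theorem commute_of_coef (hd : d ∈ D) (he : e ∈ D) (h1 : coef d (vec e : W) = 0)
    (h2 : coef e (vec d : W) = 0) : d * e = e * d := by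
  refine inv_mul_eq_one.1 (hD.set.faithful _ fun v => ?_)
  rw [mul_smul, inv_smul_eq_iff, mul_smul, mul_smul, hD.smul_eq he v, hD.smul_eq hd v, smul_add,
    smul_add, smul_zmod, smul_zmod, hD.smul_eq hd (vec e), hD.smul_eq he (vec d), h1, h2,
    hD.smul_eq he v, hD.smul_eq hd v, zero_smul, zero_smul, add_zero, add_zero]
  abel

theorem coef_of_commute (hd : d ∈ D) (he : e ∈ D) (hc : d * e = e * d) :
    coef d (vec e : W) = 0 := by
  rcases eq_or_ne d e with rfl | hne
  · exact hD.coef_vec_self hd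
  obtain ⟨v, hv⟩ := hD.exists_moved' he
  have h1 := hD.set.moves_le_of_comm (hD.isMin e he) (hD.isMin d hd)
    ((hD.two e he).trans (hD.two d hd).symm) (fun a ha b hb => by
      obtain ⟨i, rfl⟩ := Subgroup.mem_zpowers_iff.1 ha
      obtain ⟨j, rfl⟩ := Subgroup.mem_zpowers_iff.1 hb
      exact (Commute.zpow_zpow hc.symm i j).eq)
    (sub_mem_moves (Subgroup.mem_zpowers e) v) d (Subgroup.mem_zpowers d)
  rw [hD.smul_sub_eq he hv] at h1
  exact hD.coef_unique hd (by rw [h1, zero_smul, add_zero])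

theorem eq_of_zpowers (hd : d ∈ D) (he : e ∈ D)
    (h : Subgroup.zpowers d = Subgroup.zpowers e) : d = e := by
  obtain ⟨i, hi⟩ := Subgroup.mem_zpowers_iff.1 (h ▸ Subgroup.mem_zpowers d : d ∈ Subgroup.zpowers e)
  have h2 : orderOf e = 2 := by rw [← Nat.card_zpowers]; exact hD.two e he
  rw [← zpow_mod_orderOf, h2] at hi
  rcases Int.emod_two_eq_zero_or_one i with e' | e' <;>
    simp only [Nat.cast_ofNat, e', zpow_zero, zpow_one] at hi
  · exact absurd hi.symm (hD.ne_one hd)
  · exact hi.symm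

open scoped Classical in
/-- Pairwise commuting transvections have independent vectors. -/
theorem indep (s : Finset H) (hs : ∀ a ∈ s, a ∈ D) (hc : ∀ a ∈ s, ∀ b ∈ s, a * b = b * a)
    {c : H} (hcs : c ∈ s) (S : AddSubgroup W) (hS : ∀ a ∈ s, a ≠ c → moves (Subgroup.zpowers a) W ≤ S)
    (hmin : S ≤ (s.erase c).sup fun a => moves (Subgroup.zpowers a) W) : (vec c : W) ∉ S := by
  classical
  intro hmem
  set t : Finset (Subgroup H) := s.image Subgroup.zpowers with ht
  have hfam : IsFamily 2 W t :=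
    ⟨fun X hX => by
      obtain ⟨a, ha, rfl⟩ := Finset.mem_image.1 hX
      exact ⟨hD.isMin a (hs a ha), hD.two a (hs a ha)⟩,
    fun X hX Y hY x hx y hy => by
      obtain ⟨a, ha, rfl⟩ := Finset.mem_image.1 hX
      obtain ⟨b, hb, rfl⟩ := Finset.mem_image.1 hY
      obtain ⟨i, rfl⟩ := Subgroup.mem_zpowers_iff.1 hx
      obtain ⟨j, rfl⟩ := Subgroup.mem_zpowers_iff.1 hy
      exact (Commute.zpow_zpow (hc a ha b hb) i j).eq⟩
  have h1 := hD.set.inf_moves_eq_bot hfam (Finset.mem_image_of_mem _ hcs)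
  obtain ⟨v, hv⟩ := hD.exists_moved' (hs c hcs)
  have h2 : (vec c : W) ∈ moves (Subgroup.zpowers c) W :=
    hD.smul_sub_eq (hs c hcs) hv ▸ sub_mem_moves (Subgroup.mem_zpowers c) v
  have h3 : ((s.erase c).sup fun a => moves (Subgroup.zpowers a) W) ≤
      (t.erase (Subgroup.zpowers c)).sup fun X => moves X W := Finset.sup_le fun a ha =>
    Finset.le_sup (f := fun X => moves X W) (Finset.mem_erase.2
      ⟨fun e => (Finset.mem_erase.1 ha).1
        (hD.eq_of_zpowers (hs a (Finset.mem_of_mem_erase ha)) (hs c hcs) e),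
        Finset.mem_image_of_mem _ (Finset.mem_of_mem_erase ha)⟩)
  have h4 : (vec c : W) ∈ moves (Subgroup.zpowers c) W ⊓
      (t.erase (Subgroup.zpowers c)).sup fun X => moves X W :=
    AddSubgroup.mem_inf.2 ⟨h2, h3 (hmin hmem)⟩
  rw [h1, AddSubgroup.mem_bot] at h4
  exact hD.vec_ne (hs c hcs) h4

theorem vec_mem_moves (hd : d ∈ D) : (vec d : W) ∈ moves (Subgroup.zpowers d) W := by
  obtain ⟨v, hv⟩ := hD.exists_moved' hd
  exact hD.smul_sub_eq hd hv ▸ sub_mem_moves (Subgroup.mem_zpowers d) v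

theorem eq_of_commute_vec (hd : d ∈ D) (he : e ∈ D) (hc : d * e = e * d)
    (hv : (vec d : W) = vec e) : d = e := by
  classical
  by_contra hne
  refine hD.indep {d, e} (by simp [hd, he]) (by simp [hc]) (c := d) (by simp)
    (moves (Subgroup.zpowers e) W) (fun a ha h1 => ?_) ?_ (hv ▸ hD.vec_mem_moves he)
  · simp only [Finset.mem_insert, Finset.mem_singleton] at ha
    rw [ha.resolve_left h1]
  · exact Finset.le_sup (f := fun a => moves (Subgroup.zpowers a) W)
      (Finset.mem_erase.2 ⟨fun e' => hne e'.symm, by simp⟩)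

/-- Incidence is symmetric. -/
theorem coef_symm (hd : d ∈ D) (he : e ∈ D) : coef d (vec e : W) = coef e (vec d : W) := by
  have key : ∀ {d e : H}, d ∈ D → e ∈ D → coef d (vec e : W) = 1 → coef e (vec d : W) = 1 := by
    intro d e hd he h1
    refine (zmod_two_eq _).resolve_left fun h2 => ?_
    have hd' := hD.conj e d hd
    have hvec : (vec (e * d * e⁻¹) : W) = vec d := by
      rw [hD.vec_conj e hd, hD.smul_eq he, h2, zero_smul, add_zero]
    have hcoef : ∀ v : W, coef (e * d * e⁻¹) v = coef d v + coef e v := fun v => by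
      rw [hD.coef_conj e hd, hD.inv_eq he, hD.smul_eq he, hD.coef_add hd]
      rcases zmod_two_eq (coef e v) with e' | e' <;> rw [e']
      · rw [zero_smul, hD.coef_zero hd]
      · rw [one_smul, h1]
    have hcomm := hD.commute_of_coef hd' hd (by rw [hcoef, hD.coef_vec_self hd, h2, add_zero])
      (by rw [hvec, hD.coef_vec_self hd])
    have h3 := hD.eq_of_commute_vec hd' hd hcomm hvec
    obtain ⟨v, hv⟩ := hD.exists_coef_one he
    have h4 := hcoef v
    rw [h3, hv, left_eq_add] at h4
    exact one_ne_zero h4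
  rcases zmod_two_eq (coef d (vec e : W)) with h | h
  · rcases zmod_two_eq (coef e (vec d : W)) with h' | h'
    · rw [h, h']
    · rw [key he hd h', h']
  · rw [h, key hd he h]

theorem vec_injOn : Set.InjOn (vec : H → W) D := fun d hd e he hv =>
  hD.eq_of_commute_vec hd he (hD.commute_of_coef hd he
    (hv ▸ hD.coef_vec_self hd) (hv ▸ hD.coef_vec_self he)) hv

theorem commute_iff (hd : d ∈ D) (he : e ∈ D) : d * e = e * d ↔ coef d (vec e : W) = 0 :=
  ⟨hD.coef_of_commute hd he, fun h => hD.commute_of_coef hd he h (hD.coef_symm hd he ▸ h)⟩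

/-- The third transvection of a related pair. -/
theorem vec_braid (hd : d ∈ D) (he : e ∈ D) (h : coef d (vec e : W) = 1) :
    (vec (d * e * d⁻¹) : W) = vec e + vec d := by
  rw [hD.vec_conj d he, hD.smul_eq hd, h, one_smul]

theorem coef_braid (hd : d ∈ D) (he : e ∈ D) (h : coef d (vec e : W) = 1) (v : W) :
    coef (d * e * d⁻¹) v = coef e v + coef d v := by
  rw [hD.coef_conj d he, hD.inv_eq hd, hD.smul_eq hd, hD.coef_add he]
  rcases zmod_two_eq (coef d v) with e' | e' <;> rw [e']
  · rw [zero_smul, hD.coef_zero he]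
  · rw [one_smul, ← hD.coef_symm hd he, h]

end Tvs

end CfsgLib.FFModules.MinimalParabolic
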