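import Cfsg.Agent.Lib.FFModules.MinimalParabolic.Coords

/-!
Elements centralizing a root group, fixing its line and trivial on the other natural sections lie
in the root group.
-/

set_option autoImplicit false
set_option linter.style.haveILetI false
set_option linter.unusedSectionVars false

namespace CfsgLib.FFModules.MinimalParabolic

open SL2Pair Matrix
open scoped Pointwise MatrixGroups

section Field

variable {F : Type*} [Field F]

/-- `x ↦ c * x`. -/
def IsLin (f : F → F) : Prop := ∃ c : F, ∀ x, f x = c * x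

theorem IsLin.congr {f g : F → F} (hf : IsLin f) (h : ∀ x, g x = f x) : IsLin g := by
  obtain ⟨c, hc⟩ := hf
  exact ⟨c, fun x => by rw [h, hc]⟩

theorem IsLin.add {f g : F → F} (hf : IsLin f) (hg : IsLin g) : IsLin (fun x => f x + g x) := by
  obtain ⟨c, hc⟩ := hf
  obtain ⟨d, hd⟩ := hg
  exact ⟨c + d, fun x => by simp only [hc, hd]; ring⟩

theorem IsLin.sub {f g : F → F} (hf : IsLin f) (hg : IsLin g) : IsLin (fun x => f x - g x) := by
  obtain ⟨c, hc⟩ := hf
  obtain ⟨d, hd⟩ := hg
  exact ⟨c - d, fun x => by simp only [hc, hd]; ring⟩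

theorem IsLin.smul {f : F → F} (hf : IsLin f) (k : F) : IsLin (fun x => k * f x) := by
  obtain ⟨c, hc⟩ := hf
  exact ⟨k * c, fun x => by simp only [hc]; ring⟩

theorem IsLin.comp {f : F → F} (hf : IsLin f) (k : F) : IsLin (fun x => f (k * x)) := by
  obtain ⟨c, hc⟩ := hf
  exact ⟨c * k, fun x => by simp only [hc]; ring⟩

/-- A derivation of a finite field vanishes, so a map semilinear up to linear maps is linear. -/
theorem isLin_of_twist [Finite F] (p : ℕ) [Fact p.Prime] [CharP F p] (f : F →+ F)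
    (h : ∀ l : F, IsLin (fun x => f (l * x) - l * f x)) : IsLin f := by
  set D : F → F := fun x => f x - f 1 * x with hD
  have hDmul : ∀ a b, D (a * b) = a * D b + b * D a := by
    intro a b
    obtain ⟨c, hc⟩ := h a
    have h1 := hc 1
    simp only [mul_one] at h1
    have h2 := hc b
    simp only [← h1] at h2
    simp only [hD]
    linear_combination h2
  have hD1 : D 1 = 0 := by simp [hD]
  have hpow : ∀ (y : F) (n : ℕ), D (y ^ (n + 1)) = (n + 1 : ℕ) * (y ^ n * D y) := by
    intro y n
    induction n with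
    | zero => simp
    | succ n ih =>
      rw [pow_succ _ (n + 1), hDmul, ih]
      push_cast
      ring
  refine ⟨f 1, fun x => sub_eq_zero.1 ?_⟩
  haveI := Fintype.ofFinite F
  haveI := ExpChar.prime (Fact.out : p.Prime) (R := F)
  obtain ⟨y, rfl⟩ := (Finite.injective_iff_surjective.1 (frobenius F p).injective) x
  show D (y ^ p) = 0
  have h1 := hpow y (p - 1)
  rw [Nat.sub_add_cancel (Fact.out : p.Prime).one_le, CharP.cast_eq_zero, zero_mul] at h1
  exact h1

end Field

variable {H W : Type*} [Group H] [AddCommGroup W] [DistribMulAction H W] [Finite H] [Finite W]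
variable {p : ℕ} [Fact p.Prime] {T : Sylow p H} {M : Subgroup H}
variable {A : Subgroup H} {F : Type} [Field F] [Finite F]

namespace RootPair

variable (R : RootPair A W F)

/-- The conditions defining the elements in question. -/
structure InU (n : H) : Prop where
  comm : ∀ a ∈ A, n * a = a * n
  line : ∀ v ∈ fixedSub A, R.proj v = 0 → n • v = v
  quot : ∀ v : W, R.ψ (n • v) 1 = R.ψ v 1
  cent : ∀ z ∈ fixedSub R.E, R.proj (n • z) = z

/-- The component of `n` from the fixed points of the `SL₂` into the line. -/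
noncomputable def eps (n : H) : W →+ F :=
  (Pi.evalAddMonoidHom (fun _ : Fin 2 => F) 0).comp
    (R.ψ.comp ((DistribSMul.toAddMonoidHom W n).comp R.proj))

end RootPair

namespace Big

variable (hb : Big p T M A W F) (R : RootPair A W F)

/-- The component of `n` from the opposite line into the line. -/
noncomputable def eta (n : H) : F →+ F :=
  (Pi.evalAddMonoidHom (fun _ : Fin 2 => F) 0).comp
    (R.ψ.comp ((DistribSMul.toAddMonoidHom W n).comp (hb.sx R)))

/-- The component of `n` from the opposite line into the fixed points of the `SL₂`. -/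
noncomputable def del (n : H) : F →+ W :=
  R.proj.comp ((DistribSMul.toAddMonoidHom W n).comp (hb.sx R))

variable {R}
variable {m n : H}
include hb

omit [Finite F] in
theorem fix_smul_of_comm (hc : ∀ a ∈ A, n * a = a * n) {v : W} (hv : v ∈ fixedSub A) :
    n • v ∈ fixedSub A :=
  smul_mem_fixedSub_of_comm (fun a ha => (hc a ha).symm) hv

theorem u_sy (hn : R.InU n) (y : F) : n • hb.sy R y = hb.sy R y :=
  hn.line _ (hb.sy_mem R y) (hb.proj_sy R y)

theorem u_sx (hn : R.InU n) (x : F) :
    n • hb.sx R x = hb.sx R x + hb.sy R (hb.eta R n x) + hb.del R n x := by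
  conv_lhs => rw [hb.decomp R (n • hb.sx R x), hn.quot, hb.ψ_sx]
  simp only [eta, del]
  simp
  abel

theorem u_fix (hn : R.InU n) {z : W} (hz : z ∈ fixedSub R.E) :
    n • z = z + hb.sy R (R.eps n z) := by
  conv_lhs => rw [hb.decomp R (n • z), hn.quot, (R.ker z).2 hz, hn.cent z hz]
  simp only [Pi.zero_apply, map_zero, add_zero]
  rw [add_comm]
  simp [RootPair.eps, hb.proj_of_mem R hz]

theorem u_mul (hm : R.InU m) (hn : R.InU n) : R.InU (m * n) where
  comm a ha := by rw [mul_assoc, hn.comm a ha, ← mul_assoc, hm.comm a ha, mul_assoc]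
  line v hv h0 := by rw [mul_smul, hn.line v hv h0, hm.line v hv h0]
  quot v := by rw [mul_smul, hm.quot, hn.quot]
  cent z hz := by
    rw [mul_smul, hb.u_fix hn hz, smul_add, hb.u_sy hm, map_add, hm.cent z hz, hb.proj_sy, add_zero]

theorem u_inv (hn : R.InU n) : R.InU n⁻¹ where
  comm a ha := by
    rw [inv_mul_eq_iff_eq_mul, ← mul_assoc, hn.comm a ha, mul_inv_cancel_right]
  line v hv h0 := by
    rw [inv_smul_eq_iff, hn.line v hv h0]
  quot v := by
    rw [← hn.quot (n⁻¹ • v), smul_inv_smul]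
  cent z hz := by
    have e : n⁻¹ • z = z - hb.sy R (R.eps n z) := by
      rw [inv_smul_eq_iff, smul_sub, hb.u_fix hn hz, hb.u_sy hn, add_sub_cancel_right]
    rw [e, map_sub, hb.proj_of_mem R hz, hb.proj_sy, sub_zero]

theorem u_conj (hn : R.InU n) (l : Fˣ) :
    R.InU ((R.torus l : H) * n * (R.torus l : H)⁻¹) where
  comm a ha := by
    have h1 := hn.comm _ (R.torus_conj_mem l⁻¹ ha)
    rw [← R.torus_inv, Subgroup.coe_inv, inv_inv] at h1
    calc (R.torus l : H) * n * (R.torus l : H)⁻¹ * a
        = (R.torus l : H) * (n * ((R.torus l : H)⁻¹ * a * (R.torus l : H))) * (R.torus l : H)⁻¹ := by group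
      _ = (R.torus l : H) * (((R.torus l : H)⁻¹ * a * (R.torus l : H)) * n) * (R.torus l : H)⁻¹ := by rw [h1]
      _ = _ := by group
  line v hv h0 := by
    rw [mul_smul, mul_smul, ← Subgroup.coe_inv, R.torus_inv,
      hn.line _ (R.smul_torus_mem_fix _ hv) (by rw [R.proj_torus, h0]), ← R.torus_inv,
      Subgroup.coe_inv, smul_inv_smul]
  quot v := by
    rw [mul_smul, mul_smul, ← Subgroup.coe_inv, R.torus_inv, R.ψ_torus]
    simp only [Matrix.cons_val_one, Matrix.cons_val_zero]
    rw [hn.quot, R.ψ_torus]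
    simp
  cent z hz := by
    rw [mul_smul, mul_smul, show (R.torus l : H)⁻¹ • z = z from hz _ (R.E.inv_mem (R.torus l).2),
      R.proj_torus, hn.cent z hz]

theorem eps_mul (hm : R.InU m) (hn : R.InU n) (z : W) :
    R.eps (m * n) z = R.eps m z + R.eps n z := by
  have hz := hb.proj_mem R z
  show R.ψ ((m * n) • R.proj z) 0 = _
  rw [mul_smul, hb.u_fix hn hz, smul_add, hb.u_sy hm, map_add, hb.ψ_sy]
  simp [RootPair.eps, hb.proj_proj]

theorem eta_mul (hm : R.InU m) (hn : R.InU n) (x : F) :
    hb.eta R (m * n) x = hb.eta R m x + hb.eta R n x + R.eps m (hb.del R n x) := by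
  show R.ψ ((m * n) • hb.sx R x) 0 = _
  rw [mul_smul, hb.u_sx hn, smul_add, smul_add, hb.u_sy hm, map_add, map_add, hb.ψ_sy]
  simp [eta, RootPair.eps, del, hb.proj_proj, Matrix.vecHead]

theorem eps_conj (hn : R.InU n) (l : Fˣ) (z : W) :
    R.eps ((R.torus l : H) * n * (R.torus l : H)⁻¹) z = (l : F) * R.eps n z := by
  show R.ψ (((R.torus l : H) * n * (R.torus l : H)⁻¹) • R.proj z) 0 = _
  rw [mul_smul, mul_smul,
    show (R.torus l : H)⁻¹ • R.proj z = R.proj z from hb.proj_mem R z _ (R.E.inv_mem (R.torus l).2),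
    R.ψ_torus]
  simp [RootPair.eps]

theorem eta_conj (hn : R.InU n) (l : Fˣ) (x : F) :
    hb.eta R ((R.torus l : H) * n * (R.torus l : H)⁻¹) x = (l : F) * hb.eta R n ((l : F) * x) := by
  show R.ψ (((R.torus l : H) * n * (R.torus l : H)⁻¹) • hb.sx R x) 0 = _
  rw [mul_smul, mul_smul, ← Subgroup.coe_inv, R.torus_inv, hb.torus_sx, inv_inv, R.ψ_torus]
  simp [eta]

theorem del_conj (hn : R.InU n) (l : Fˣ) (x : F) :
    hb.del R ((R.torus l : H) * n * (R.torus l : H)⁻¹) x = hb.del R n ((l : F) * x) := by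
  show R.proj (((R.torus l : H) * n * (R.torus l : H)⁻¹) • hb.sx R x) = _
  rw [mul_smul, mul_smul, ← Subgroup.coe_inv, R.torus_inv, hb.torus_sx, inv_inv, R.proj_torus]
  simp [del]

theorem eps_nu (hn : R.InU n) (x : F) : R.eps n (hb.nu R x) = 0 := by
  have h1 := congrArg (fun g : H => R.ψ (g • hb.sx R x) 0) (hn.comm _ (R.root 1).2)
  simp only [mul_smul, hb.root_one_smul, smul_add, hb.u_sy hn, hb.u_fix hn (hb.nu_mem R x),
    hb.u_sx hn, hb.sy_mem R _ _ (R.root 1).2,
    show (R.root 1 : H) • hb.del R n x = hb.del R n x from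
      fixedSub_anti R.le (hb.proj_mem R _) _ (R.root 1).2, map_add, hb.ψ_sy, hb.ψ_sx,
    (R.ker _).2 (hb.nu_mem R x), (R.ker _).2 (hb.proj_mem R (n • hb.sx R x))] at h1
  have hd : R.ψ (hb.del R n x) = 0 := hb.ψ_proj R _
  simp [hd] at h1
  exact h1

/-- Without a component out of the fixed points, `n` lies in the root group. -/
theorem mem_of_eps_zero (hn : R.InU n) (h0 : ∀ z, R.eps n z = 0) : n ∈ A := by
  refine hb.set.mem_of_series hb.isMin.toIsQuad hb.isMin.mu_eq (fun v hv => ?_) fun v => ?_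
  · conv_lhs => rw [hb.decomp_fix R hv, smul_add, hb.u_sy hn, hb.u_fix hn (hb.proj_mem R v),
      h0, map_zero, add_zero, ← hb.decomp_fix R hv]
  · rw [R.mem_fix, map_sub, Pi.sub_apply, hn.quot, sub_self]

/-- Elements with the same component out of the fixed points differ by a root element. -/
theorem eta_sub (hm : R.InU m) (hn : R.InU n) (he : ∀ z, R.eps m z = R.eps n z) :
    IsLin (fun x => hb.eta R m x - hb.eta R n x) := by
  set y := n⁻¹ * m with hy
  have hyU := hb.u_mul (hb.u_inv hn) hm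
  have hmy : m = n * y := by rw [hy, mul_inv_cancel_left]
  have hy0 : ∀ z, R.eps y z = 0 := fun z => by
    have h1 := hb.eps_mul hn hyU z
    rw [← hmy, he, left_eq_add] at h1
    exact h1
  have hyA : y ∈ A := hb.mem_of_eps_zero hyU hy0
  obtain ⟨r, -, hr⟩ := hb.exists_smul R ⟨y, hyA⟩
  have hr' := hr
  refine ⟨R.coord ⟨y, hyA⟩, fun x => ?_⟩
  have h2 : hb.eta R m x = hb.eta R n x + hb.eta R y x + R.eps n (hb.del R y x) := by
    rw [hmy]; exact hb.eta_mul hn hyU x
  have h3 : hb.eta R y x = R.coord ⟨y, hyA⟩ * x := by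
    show R.ψ (y • hb.sx R x) 0 = _
    rw [show y • hb.sx R x = _ from hr' (hb.sx R x)]
    simp [hb.ψ_sx, hb.ψ_sy, (R.ker _).2 (hb.nu_mem R _)]
  have h4 : hb.del R y x = hb.nu R (r * x) := by
    show R.proj (y • hb.sx R x) = _
    rw [show y • hb.sx R x = _ from hr' (hb.sx R x)]
    simp [hb.ψ_sx, hb.proj_sx, hb.proj_sy, hb.proj_of_mem R (hb.nu_mem R _)]
  show hb.eta R m x - hb.eta R n x = _
  rw [h2, h3, h4, hb.eps_nu hn]
  ring

/-- The component from the opposite line is always linear. -/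
theorem eta_isLin (hn : R.InU n) : IsLin (hb.eta R n) := by
  haveI := hb.charP R
  -- `κ` is linear
  have hκ : IsLin (fun x => R.eps n (hb.del R n x)) := by
    refine isLin_of_twist p ((R.eps n).comp (hb.del R n)) fun l => ?_
    by_cases hl : l = 0
    · exact ⟨0, fun x => by simp [hl]⟩
    set u := Units.mk0 l hl
    have hc := hb.u_conj hn u
    refine IsLin.congr (hb.eta_sub (hb.u_mul hn hc) (hb.u_mul hc hn) fun z => ?_) fun x => ?_
    · rw [hb.eps_mul hn hc, hb.eps_mul hc hn, add_comm]
    · rw [hb.eta_mul hn hc, hb.eta_mul hc hn, hb.eps_conj hn, hb.del_conj hn]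
      simp [u]
      ring
  -- the polar identity
  have hpol : ∀ k l : Fˣ, (k : F) + l ≠ 0 →
      IsLin (fun x => (k : F) * hb.eta R n ((l : F) * x) + (l : F) * hb.eta R n ((k : F) * x)) := by
    intro k l hkl
    set s := Units.mk0 _ hkl
    have hk := hb.u_conj hn k
    have hl := hb.u_conj hn l
    have hs := hb.u_conj hn s
    have h1 := hb.eta_sub (hb.u_mul hk hl) hs fun z => by
      rw [hb.eps_mul hk hl, hb.eps_conj hn, hb.eps_conj hn, hb.eps_conj hn]
      simp [s]
      ring
    obtain ⟨c, hc⟩ := h1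
    obtain ⟨d, hd⟩ := hκ
    refine ⟨(k : F) * d * l - c, fun x => ?_⟩
    have h2 := hc x
    simp only [hb.eta_mul hk hl, hb.eta_conj hn, hb.eps_conj hn, hb.del_conj hn, hd,
      s, Units.val_mk0, add_mul, map_add] at h2
    linear_combination -h2
  rcases eq_or_ne p 2 with rfl | hp
  · refine isLin_of_twist 2 (hb.eta R n) fun l => ?_
    have h2 : (2 : F) = 0 := CharP.cast_eq_zero F 2
    by_cases hl : l = 0
    · exact ⟨0, fun x => by simp [hl]⟩
    by_cases hl1 : l = 1
    · exact ⟨0, fun x => by simp [hl1]⟩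
    refine IsLin.congr (hpol 1 (Units.mk0 l hl) fun e => hl1 ?_) fun x => ?_
    · simp at e
      linear_combination e - h2
    · simp only [Units.val_one, Units.val_mk0, one_mul]
      linear_combination -(l * hb.eta R n x) * h2
  · have h2 : (1 : F) + 1 ≠ 0 := by
      intro e
      have e' : ((2 : ℕ) : F) = 0 := by push_cast; rw [← one_add_one_eq_two, e]
      exact hp ((Nat.prime_dvd_prime_iff_eq Fact.out Nat.prime_two).1
        ((CharP.cast_eq_zero_iff F p 2).1 e'))
    obtain ⟨c, hc⟩ := hpol 1 1 (by simpa using h2)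
    refine ⟨c / (1 + 1), fun x => ?_⟩
    have h3 := hc x
    simp only [Units.val_one, one_mul] at h3
    rw [div_mul_eq_mul_div, ← h3, eq_div_iff h2]
    ring

omit [Finite F] in
theorem moves_smul_fix {g : H} (hg : ∀ v ∈ moves A W, g • v ∈ fixedSub A) :
    moves (MulAut.conj g • A) W ≤ fixedSub A := fun v hv => by
  have h1 := hg _ (moves_smul A g hv)
  rwa [smul_inv_smul] at h1

/-- The elements in question lie in the root group. -/
theorem mem_of_inU (hn : R.InU n) : n ∈ A := by
  obtain ⟨c, hc⟩ := hb.eta_isLin hn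
  -- remove the linear part
  set b : A := R.root (-c)
  obtain ⟨r, -, hr⟩ := hb.exists_smul R b
  have hA : ∀ a ∈ A, R.InU a := fun a ha =>
    { comm := fun x hx => hb.set.commute_of_quad hb.isMin.toIsQuad ha hx
      line := fun v hv _ => hv a ha
      quot := fun v => by
        have := R.ψ_smul ⟨a, ha⟩ v
        rw [this]
        simp
      cent := fun z hz => by rw [show a • z = z from hz a (R.le ha), hb.proj_of_mem R hz] }
  set n' := (b : H) * n with hn'def
  have hn' : R.InU n' := hb.u_mul (hA _ b.2) hn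
  have heps : ∀ z, R.eps n' z = R.eps n z := fun z => by
    rw [hn'def, hb.eps_mul (hA _ b.2) hn, add_eq_right]
    show R.ψ ((b : H) • R.proj z) 0 = 0
    rw [show (b : H) • R.proj z = R.proj z from hb.proj_mem R z _ (R.le b.2), hb.ψ_proj]
    rfl
  have heta : ∀ x, hb.eta R n' x = 0 := fun x => by
    rw [hn'def, hb.eta_mul (hA _ b.2) hn, hc]
    have h1 : R.eps (b : H) (hb.del R n x) = 0 := by
      show R.ψ ((b : H) • R.proj _) 0 = 0
      rw [show (b : H) • R.proj _ = R.proj _ from hb.proj_mem R _ _ (R.le b.2), hb.ψ_proj]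
      rfl
    have h2 : hb.eta R (b : H) x = -c * x := by
      show R.ψ ((b : H) • hb.sx R x) 0 = _
      rw [R.ψ_smul, hb.ψ_sx, R.coord_root]
      simp
    rw [h1, h2]
    ring
  -- conjugate by the Weyl element
  set w : H := (R.weyl : H)
  set g := w * n' * w⁻¹ with hg
  have hwy : ∀ y, w⁻¹ • hb.sy R y = hb.sx R y := fun y => by
    rw [inv_smul_eq_iff, hb.weyl_sx]
  have hsyg : ∀ y, g • hb.sy R y = hb.sy R y + hb.del R n' y := fun y => by
    rw [hg, mul_smul, mul_smul, hwy, hb.u_sx hn', heta, map_zero, add_zero, smul_add, hb.weyl_sx,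
      show w • hb.del R n' y = hb.del R n' y from hb.proj_mem R _ _ R.weyl.2]
  have hgP : ∀ v ∈ moves A W, g • v ∈ fixedSub A := fun v hv => by
    obtain ⟨y, u, rfl⟩ := hb.mem_moves R hv
    rw [smul_add, hsyg, hg, mul_smul, mul_smul,
      show w⁻¹ • hb.nu R u = hb.nu R u from hb.nu_mem R u _ (R.E.inv_mem R.weyl.2),
      hb.u_fix hn' (hb.nu_mem R u), hb.eps_nu hn', map_zero, add_zero,
      show w • hb.nu R u = hb.nu R u from hb.nu_mem R u _ R.weyl.2]
    exact add_mem (add_mem (hb.sy_mem R y) (fixedSub_anti R.le (hb.proj_mem R _))) (hb.nu_fix R u)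
  have hle := hb.moves_smul_fix hgP
  have hcard : Nat.card A = Nat.card ↥(MulAut.conj g • A) := (card_smul_subgroup A g).symm
  have hcomm := hb.set.comm_of_moves_le hb.isMin (hb.isMin.smul g) hcard hle
  have heq : A = MulAut.conj g • A := by
    by_contra hne
    have h1 := hb.set.moves_le_fixE hb.isMin (hb.isMin.smul g) hcard hcomm hne hb.big R
      (smul_mem_moves (hb.sy_mem_moves R 1) g)
    rw [hsyg, ← R.ker, map_add, hb.ψ_sy] at h1
    have h2 := congrFun h1 0
    rw [Pi.add_apply, show R.ψ (hb.del R n' 1) = 0 from hb.ψ_proj R _] at h2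
    simp at h2
  refine hb.mem_of_eps_zero hn fun z => ?_
  rw [← heps]
  have hz := hb.proj_mem R z
  have h1 : g • R.proj z ∈ fixedSub (MulAut.conj g • A) :=
    mem_fixedSub_smul.2 (by rw [inv_smul_smul]; exact fixedSub_anti R.le hz)
  rw [← heq, R.mem_fix, hg, mul_smul, mul_smul,
    show w⁻¹ • R.proj z = R.proj z from hz _ (R.E.inv_mem R.weyl.2), hb.u_fix hn' hz, smul_add,
    show w • R.proj z = R.proj z from hz _ R.weyl.2, hb.weyl_sy, map_add, hb.ψ_sx,
    hb.ψ_proj] at h1
  simp at h1
  have h5 : R.eps n' (R.proj z) = R.eps n' z := by simp [RootPair.eps, hb.proj_proj]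
  rw [← h5, h1]

end Big

end CfsgLib.FFModules.MinimalParabolic
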